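import Mathlib
import Cfsg.Prelude.Def_Solvable

set_option autoImplicit false

namespace Cfsg.Agent.Helper26

open Cfsg

theorem pCore_normal (p : ℕ) (G : Type*) [Group G] : (pCore p G).Normal :=
  Subgroup.sSup_normal _ (fun _ hH => hH.1)

theorem isPGroup_pCore (p : ℕ) (G : Type*) [Group G] [Finite G] : IsPGroup p (pCore p G) := by
  classical
  have key : ∀ s : Finset (Subgroup G), (∀ N ∈ s, N.Normal ∧ IsPGroup p N) →
      (s.sup id).Normal ∧ IsPGroup p (s.sup id : Subgroup G) := by
    intro s
    induction s using Finset.induction_on with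
    | empty =>
      intro _
      simp only [Finset.sup_empty]
      exact ⟨inferInstance, IsPGroup.of_bot⟩
    | insert N s hN ih =>
      intro h
      have h1 := h N (Finset.mem_insert_self N s)
      have h2 := ih (fun M hM => h M (Finset.mem_insert_of_mem hM))
      rw [Finset.sup_insert]
      simp only [id]
      have i1 := h1.1
      have i2 := h2.1
      exact ⟨inferInstance, IsPGroup.to_sup_of_normal_right h1.2 h2.2⟩
  have hfin : Set.Finite {N : Subgroup G | N.Normal ∧ IsPGroup p N} := Set.toFinite _
  have h3 := key hfin.toFinset (by intro N hN; simpa using hN)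
  rw [Finset.sup_id_eq_sSup, Set.Finite.coe_toFinset] at h3
  exact h3.2

theorem le_pCore {p : ℕ} {G : Type*} [Group G] {N : Subgroup G} (hN : N.Normal)
    (hp : IsPGroup p N) : N ≤ pCore p G :=
  le_sSup ⟨hN, hp⟩

end Cfsg.Agent.Helper26
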