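import Mathlib
import Cfsg.Agent.Helper25.BlockNilp
import Cfsg.Agent.Helper25.BlockOrth
import Cfsg.Agent.S0029
import Cfsg.Agent.S0012

set_option autoImplicit false

namespace Cfsg.Agent.Helper26

open Cfsg Cfsg.Agent.Helper25

universe u

variable {G : Type u} [Group G] {p : ℕ} {M : Ideal AlgInt}

/-- the sum of an irreducible character over a normal subgroup not in its kernel is zero -/
theorem irr_sum_normal [Fintype G] (χ : IrrCharacter G) (N : Subgroup G) [N.Normal]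
    [DecidablePred fun g => g ∈ N] (h : ¬ N ≤ irrKer χ) :
    ∑ g : G, (if g ∈ N then (χ : G → ℂ) g else 0) = 0 := by
  classical
  obtain ⟨n, ρ, hρ, hχ, hker⟩ := irr_rep_ker χ
  by_contra hne
  apply h
  have hψ : ∀ g x : G, (if x * g * x⁻¹ ∈ N then (1 : ℂ) else 0) = if g ∈ N then 1 else 0 := by
    intro g x
    have : x * g * x⁻¹ ∈ N ↔ g ∈ N := by
      constructor
      · intro hx
        have := ‹N.Normal›.conj_mem _ hx x⁻¹
        simpa [mul_assoc] using this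
      · intro hg
        exact ‹N.Normal›.conj_mem g hg x
    simp only [this]
  have hs := schur_scalar ρ hρ (fun g => if g ∈ N then (1 : ℂ) else 0) hψ
  have hV := nontrivial_of_irreducible ρ hρ
  have hfr : (Module.finrank ℂ (Fin n → ℂ) : ℂ) ≠ 0 := by
    exact_mod_cast (Module.finrank_pos (R := ℂ) (M := Fin n → ℂ)).ne'
  have hS : ∑ g : G, (if g ∈ N then (1 : ℂ) else 0) * ρ.character g =
      ∑ g : G, (if g ∈ N then (χ : G → ℂ) g else 0) := by
    apply Finset.sum_congr rfl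
    intro g _
    rw [hχ]
    split_ifs <;> simp
  rw [hS] at hs
  have hc : (∑ g : G, (if g ∈ N then (χ : G → ℂ) g else 0)) /
      (Module.finrank ℂ (Fin n → ℂ) : ℂ) ≠ 0 := div_ne_zero hne hfr
  intro h₀ hh₀
  rw [mem_irrKer, hker]
  have h1 : ρ h₀ * ∑ g : G, (if g ∈ N then (1 : ℂ) else 0) • ρ g =
      ∑ g : G, (if g ∈ N then (1 : ℂ) else 0) • ρ g := by
    rw [Finset.mul_sum]
    rw [← Equiv.sum_comp (Equiv.mulLeft h₀)
      (fun g => (if g ∈ N then (1 : ℂ) else 0) • ρ g)]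
    apply Finset.sum_congr rfl
    intro g _
    have e1 : (Equiv.mulLeft h₀) g = h₀ * g := rfl
    have e2 : h₀ * g ∈ N ↔ g ∈ N := by
      constructor
      · intro hx
        have := N.mul_mem (N.inv_mem hh₀) hx
        simpa using this
      · intro hg
        exact N.mul_mem hh₀ hg
    rw [e1, map_mul]
    simp only [e2]
    rw [mul_smul_comm]
  rw [hs] at h1
  have h2 : ρ h₀ * (LinearMap.id : (Fin n → ℂ) →ₗ[ℂ] (Fin n → ℂ)) = LinearMap.id := by
    have h3 := h1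
    rw [mul_smul_comm] at h3
    exact smul_right_injective _ hc h3
  have h4 : ρ h₀ * (1 : Module.End ℂ (Fin n → ℂ)) = 1 := h2
  rw [mul_one] at h4
  exact h4

/-- every block contains a character whose kernel contains a given normal `p`-subgroup -/
theorem exists_mem_block_le_irrKer [Finite G] (hM : IsPModular p M) (N : Subgroup G) [N.Normal]
    (hN : IsPGroup p N) {B : Set (IrrCharacter G)} (hB : IsPBlock M B) :
    ∃ χ ∈ B, N ≤ irrKer χ := by
  classical
  haveI : Fintype G := Fintype.ofFinite G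
  by_contra hcon
  simp only [not_exists, not_and] at hcon
  have hp : p.Prime := hM.1
  -- the sum of the coefficients over `N`, first way
  have h1 : ∑ g : G, (if g ∈ N then blockCoeff B g⁻¹ else 0) = 0 := by
    have e1 : ∀ g : G, (if g ∈ N then blockCoeff B g⁻¹ else 0) =
        (Nat.card G : ℂ)⁻¹ * ∑ χ ∈ (Set.toFinite B).toFinset,
          (χ : G → ℂ) 1 * (if g ∈ N then (χ : G → ℂ) g else 0) := by
      intro g
      split_ifs with hg
      · rw [blockCoeff_eq_sum, inv_inv]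
      · simp
    rw [Finset.sum_congr rfl (fun g _ => e1 g), ← Finset.mul_sum, Finset.sum_comm]
    have e2 : ∀ χ ∈ (Set.toFinite B).toFinset, ∑ g : G,
        (χ : G → ℂ) 1 * (if g ∈ N then (χ : G → ℂ) g else 0) = 0 := by
      intro χ hχ
      rw [← Finset.mul_sum, irr_sum_normal χ N (hcon χ ((Set.Finite.mem_toFinset _).mp hχ)),
        mul_zero]
    rw [Finset.sum_congr rfl e2, Finset.sum_const_zero, mul_zero]
  -- second way
  have h2 : ∑ g : G, (if g ∈ N then blockCoeff B g⁻¹ else 0) = blockCoeff B 1 := by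
    rw [Finset.sum_eq_single (1 : G)]
    · rw [if_pos N.one_mem, inv_one]
    · intro g _ hg1
      split_ifs with hg
      · apply blockCoeff_eq_zero_of_singular hM hB
        rw [orderOf_inv]
        obtain ⟨k, hk⟩ := hN ⟨g, hg⟩
        have hk' : g ^ p ^ k = 1 := congrArg Subtype.val hk
        obtain ⟨j, -, hj⟩ := (Nat.dvd_prime_pow hp).mp (orderOf_dvd_of_pow_eq_one hk')
        rw [hj]
        rcases Nat.eq_zero_or_pos j with rfl | hjpos
        · exfalso
          rw [pow_zero, orderOf_eq_one_iff] at hj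
          exact hg1 hj
        · exact dvd_pow_self p hjpos.ne'
      · rfl
    · intro h
      exact absurd (Finset.mem_univ _) h
  rw [h1] at h2
  -- but the coefficient at `1` is positive
  obtain ⟨χ₀, rfl⟩ := hB
  have hχ₀ : χ₀ ∈ (Set.toFinite (blockOf M (χ₀ : G → ℂ))).toFinset :=
    (Set.Finite.mem_toFinset _).mpr (self_mem_blockOf hM χ₀)
  rw [blockCoeff_eq_sum, inv_one] at h2
  have h3 : ∑ χ ∈ (Set.toFinite (blockOf M (χ₀ : G → ℂ))).toFinset,
      (χ : G → ℂ) 1 * (χ : G → ℂ) 1 =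
      ((∑ χ ∈ (Set.toFinite (blockOf M (χ₀ : G → ℂ))).toFinset,
        charDegree (χ : G → ℂ) * charDegree (χ : G → ℂ) : ℕ) : ℂ) := by
    push_cast
    exact Finset.sum_congr rfl (fun χ _ => by rw [irr_one_eq_degree])
  rw [h3] at h2
  have hG : (Nat.card G : ℂ)⁻¹ ≠ 0 := inv_ne_zero (by exact_mod_cast Nat.card_pos.ne')
  have h4 := (mul_eq_zero.mp h2.symm).resolve_left hG
  have h5 : ∑ χ ∈ (Set.toFinite (blockOf M (χ₀ : G → ℂ))).toFinset,
      charDegree (χ : G → ℂ) * charDegree (χ : G → ℂ) = 0 := by exact_mod_cast h4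
  have h6 := (Finset.sum_eq_zero_iff.mp h5) χ₀ hχ₀
  have h7 := irr_degree_pos χ₀
  have h8 : 0 < charDegree (χ₀ : G → ℂ) * charDegree (χ₀ : G → ℂ) := Nat.mul_pos h7 h7
  omega

/-- characters in the same block of a quotient inflate to characters in the same block -/
theorem sameBlock_inflate [Finite G] (hM : IsPModular p M) (N : Subgroup G) [N.Normal]
    (χ ψ : IrrCharacter (G ⧸ N))
    (h : SameBlock M (χ : G ⧸ N → ℂ) (ψ : G ⧸ N → ℂ)) :
    SameBlock M ((χ : G ⧸ N → ℂ) ∘ QuotientGroup.mk) ((ψ : G ⧸ N → ℂ) ∘ QuotientGroup.mk) := by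
  intro g
  have hle : Subgroup.centralizer ({g} : Set G) ≤
      (Subgroup.centralizer ({(QuotientGroup.mk g : G ⧸ N)} : Set (G ⧸ N))).comap
        (QuotientGroup.mk' N) := by
    intro y hy
    rw [Subgroup.mem_comap, Subgroup.mem_centralizer_singleton_iff]
    rw [Subgroup.mem_centralizer_singleton_iff] at hy
    show (QuotientGroup.mk y : G ⧸ N) * QuotientGroup.mk g = QuotientGroup.mk g * QuotientGroup.mk y
    rw [← QuotientGroup.mk_mul, ← QuotientGroup.mk_mul, hy]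
  have hidx := Subgroup.relIndex_mul_index hle
  rw [Subgroup.index_comap_of_surjective _ (QuotientGroup.mk'_surjective N)] at hidx
  have e : centralChar ((χ : G ⧸ N → ℂ) ∘ QuotientGroup.mk) g -
      centralChar ((ψ : G ⧸ N → ℂ) ∘ QuotientGroup.mk) g =
      (((Subgroup.centralizer ({g} : Set G)).relIndex
        ((Subgroup.centralizer ({(QuotientGroup.mk g : G ⧸ N)} : Set (G ⧸ N))).comap
          (QuotientGroup.mk' N)) : ℕ) : ℂ) *
      (centralChar (χ : G ⧸ N → ℂ) (QuotientGroup.mk g) -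
        centralChar (ψ : G ⧸ N → ℂ) (QuotientGroup.mk g)) := by
    unfold centralChar
    simp only [Function.comp_apply, QuotientGroup.mk_one]
    rw [← hidx]
    push_cast
    ring
  rw [e]
  exact lr_mul_li hM (lr_natCast hM _) (h _)

/-- a `p`-regular element of `G / D'` centralizing `D / D'` lifts to an element of `G` with the
same class size -/
theorem exists_lift_regular [Finite G] [Fact p.Prime] (D : Subgroup G) [D.Normal]
    (hD : IsPGroup p D) (xb : G ⧸ ⁅D, D⁆) (hreg : ¬ p ∣ orderOf xb)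
    (hcen : xb ∈ Subgroup.centralizer
      ((D.map (QuotientGroup.mk' ⁅D, D⁆) : Subgroup (G ⧸ ⁅D, D⁆)) : Set (G ⧸ ⁅D, D⁆))) :
    ∃ x : G, (QuotientGroup.mk x : G ⧸ ⁅D, D⁆) = xb ∧
      (Subgroup.centralizer ({x} : Set G)).index =
        (Subgroup.centralizer ({xb} : Set (G ⧸ ⁅D, D⁆))).index := by
  have hp : p.Prime := Fact.out
  obtain ⟨x₀, rfl⟩ := QuotientGroup.mk_surjective xb
  have hn0 : orderOf x₀ ≠ 0 := (orderOf_pos x₀).ne'
  have hcop0 : Nat.Coprime (p ^ (orderOf x₀).factorization p)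
      (orderOf x₀ / p ^ (orderOf x₀).factorization p) :=
    Nat.Coprime.pow_left _ (Nat.coprime_ordCompl hp hn0)
  have hqm0 := Nat.ordProj_mul_ordCompl_eq_self (orderOf x₀) p
  have hpm0 : ¬ p ∣ orderOf x₀ / p ^ (orderOf x₀).factorization p :=
    (Nat.Prime.coprime_iff_not_dvd hp).mp (Nat.coprime_ordCompl hp hn0)
  have hxbn : orderOf (QuotientGroup.mk x₀ : G ⧸ ⁅D, D⁆) ∣ orderOf x₀ := by
    apply orderOf_dvd_of_pow_eq_one
    rw [← QuotientGroup.mk_pow, pow_orderOf_eq_one, QuotientGroup.mk_one]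
  have hxbm0 : orderOf (QuotientGroup.mk x₀ : G ⧸ ⁅D, D⁆) ∣
      orderOf x₀ / p ^ (orderOf x₀).factorization p := by
    rw [← hqm0] at hxbn
    have hc : Nat.Coprime (orderOf (QuotientGroup.mk x₀ : G ⧸ ⁅D, D⁆))
        (p ^ (orderOf x₀).factorization p) :=
      Nat.Coprime.pow_right _ ((Nat.coprime_comm).mp ((Nat.Prime.coprime_iff_not_dvd hp).mpr hreg))
    exact hc.dvd_of_dvd_mul_left hxbn
  obtain ⟨q, m, hcop, hqm, hpm, hxbm⟩ : ∃ q m : ℕ, Nat.Coprime q m ∧ q * m = orderOf x₀ ∧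
      ¬ p ∣ m ∧ orderOf (QuotientGroup.mk x₀ : G ⧸ ⁅D, D⁆) ∣ m :=
    ⟨_, _, hcop0, hqm0, hpm0, hxbm0⟩
  have hbez0 := Nat.gcd_eq_gcd_ab q m
  rw [hcop.gcd_eq_one] at hbez0
  obtain ⟨u, v, hbez⟩ : ∃ u v : ℤ, ((1 : ℕ) : ℤ) = (q : ℤ) * u + (m : ℤ) * v := ⟨_, _, hbez0⟩
  -- the lift
  have hmk : (QuotientGroup.mk (x₀ ^ ((q : ℤ) * u)) : G ⧸ ⁅D, D⁆) = QuotientGroup.mk x₀ := by
    have e1 : (q : ℤ) * u = 1 - (m : ℤ) * v := by push_cast at hbez; linarith
    rw [QuotientGroup.mk_zpow, e1, zpow_sub, zpow_one, zpow_mul, zpow_natCast,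
      orderOf_dvd_iff_pow_eq_one.mp hxbm, one_zpow, inv_one, mul_one]
  have hxm : (x₀ ^ ((q : ℤ) * u)) ^ m = 1 := by
    rw [← zpow_natCast, ← zpow_mul]
    have e2 : (q : ℤ) * u * (m : ℤ) = ((q * m : ℕ) : ℤ) * u := by push_cast; ring
    rw [e2, zpow_mul, zpow_natCast, hqm, pow_orderOf_eq_one, one_zpow]
  obtain ⟨x, hx⟩ : ∃ x : G, x = x₀ ^ ((q : ℤ) * u) := ⟨_, rfl⟩
  rw [← hx] at hmk hxm
  have hxord : Nat.Coprime (orderOf x) p := by
    rw [Nat.coprime_comm, Nat.Prime.coprime_iff_not_dvd hp]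
    exact fun h => hpm (h.trans (orderOf_dvd_of_pow_eq_one hxm))
  -- `x` centralizes `D`
  have hDD : (⁅D, D⁆ : Subgroup G) ≤ (frattini ↥D).map D.subtype := by
    have h1 : (⁅D, D⁆ : Subgroup G) = (commutator ↥D).map D.subtype := by
      rw [commutator_def, Subgroup.map_commutator, ← MonoidHom.range_eq_map, Subgroup.range_subtype]
    rw [h1]
    exact Subgroup.map_mono (Cfsg.Agent.S0012.result p hD).1
  have hcent : Subgroup.zpowers x ≤ Subgroup.centralizer (D : Set G) := by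
    apply Cfsg.Agent.S0029.result (Subgroup.zpowers x) D
    · rw [Subgroup.normalizer_eq_top]
      exact le_top
    · rw [Nat.card_zpowers]
      obtain ⟨k, hk⟩ := (hD.to_subgroup (frattini ↥D)).exists_card_eq
      rw [hk]
      exact Nat.Coprime.pow_right _ hxord
    · intro a ha k hk
      apply hDD
      rw [← QuotientGroup.eq_one_iff (N := (⁅D, D⁆ : Subgroup G))]
      have ha' : (QuotientGroup.mk a : G ⧸ ⁅D, D⁆) ∈ Subgroup.centralizer
          ((D.map (QuotientGroup.mk' ⁅D, D⁆) : Subgroup (G ⧸ ⁅D, D⁆)) : Set (G ⧸ ⁅D, D⁆)) := by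
        obtain ⟨j, rfl⟩ := Subgroup.mem_zpowers_iff.mp ha
        rw [QuotientGroup.mk_zpow, hmk]
        exact Subgroup.zpow_mem _ hcen j
      have hk' : (QuotientGroup.mk k : G ⧸ ⁅D, D⁆) ∈
          (D.map (QuotientGroup.mk' ⁅D, D⁆) : Subgroup (G ⧸ ⁅D, D⁆)) := ⟨k, hk, rfl⟩
      have h3 := ha' _ hk'
      rw [QuotientGroup.mk_mul, QuotientGroup.mk_mul, QuotientGroup.mk_mul, QuotientGroup.mk_inv,
        QuotientGroup.mk_inv, ← h3, mul_inv_cancel_right, mul_inv_cancel]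
  have hxD : ∀ d ∈ D, d * x = x * d := fun d hd => hcent (Subgroup.mem_zpowers x) d hd
  refine ⟨x, hmk, ?_⟩
  have hcomap : (Subgroup.centralizer ({(QuotientGroup.mk x₀ : G ⧸ ⁅D, D⁆)} :
      Set (G ⧸ ⁅D, D⁆))).comap (QuotientGroup.mk' ⁅D, D⁆) =
      Subgroup.centralizer ({x} : Set G) := by
    ext y
    rw [Subgroup.mem_comap, Subgroup.mem_centralizer_singleton_iff,
      Subgroup.mem_centralizer_singleton_iff]
    constructor
    · intro hy
      have hy' : (QuotientGroup.mk y : G ⧸ ⁅D, D⁆) * QuotientGroup.mk x =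
          QuotientGroup.mk x * QuotientGroup.mk y := by rw [hmk]; exact hy
      have hd : x * y * x⁻¹ * y⁻¹ ∈ (⁅D, D⁆ : Subgroup G) := by
        rw [← QuotientGroup.eq_one_iff (N := (⁅D, D⁆ : Subgroup G)), QuotientGroup.mk_mul,
          QuotientGroup.mk_mul, QuotientGroup.mk_mul, QuotientGroup.mk_inv, QuotientGroup.mk_inv,
          ← hy', mul_inv_cancel_right, mul_inv_cancel]
      have hdD : x * y * x⁻¹ * y⁻¹ ∈ D := Subgroup.commutator_le_right D D hd
      have hcomm := hxD _ hdD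
      have hpow : ∀ k : ℕ, x ^ k * y * (x ^ k)⁻¹ = (x * y * x⁻¹ * y⁻¹) ^ k * y := by
        intro k
        induction k with
        | zero => simp
        | succ k ih =>
          have hck : (x * y * x⁻¹ * y⁻¹) ^ k * x = x * (x * y * x⁻¹ * y⁻¹) ^ k := by
            have hc' : Commute (x * y * x⁻¹ * y⁻¹) x := hcomm
            exact (hc'.pow_left k).eq
          calc x ^ (k + 1) * y * (x ^ (k + 1))⁻¹ = x * (x ^ k * y * (x ^ k)⁻¹) * x⁻¹ := by
                rw [pow_succ']; group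
            _ = x * ((x * y * x⁻¹ * y⁻¹) ^ k * y) * x⁻¹ := by rw [ih]
            _ = (x * (x * y * x⁻¹ * y⁻¹) ^ k) * y * x⁻¹ := by group
            _ = ((x * y * x⁻¹ * y⁻¹) ^ k * x) * y * x⁻¹ := by rw [hck]
            _ = (x * y * x⁻¹ * y⁻¹) ^ k * (x * y * x⁻¹ * y⁻¹) * y := by group
            _ = _ := by rw [← pow_succ]
      have h1 := hpow (orderOf x)
      rw [pow_orderOf_eq_one, one_mul, inv_one, mul_one] at h1
      have h2 : (x * y * x⁻¹ * y⁻¹) ^ orderOf x = 1 := by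
        have := mul_right_cancel (a := 1) (b := y) (c := (x * y * x⁻¹ * y⁻¹) ^ orderOf x)
          (by rw [one_mul]; exact h1)
        exact this.symm
      obtain ⟨k, hk⟩ := hD ⟨_, hdD⟩
      have hk' : (x * y * x⁻¹ * y⁻¹) ^ p ^ k = 1 := congrArg Subtype.val hk
      have h3 : orderOf (x * y * x⁻¹ * y⁻¹) ∣ Nat.gcd (orderOf x) (p ^ k) :=
        Nat.dvd_gcd (orderOf_dvd_of_pow_eq_one h2) (orderOf_dvd_of_pow_eq_one hk')
      rw [(Nat.Coprime.pow_right k hxord).gcd_eq_one, Nat.dvd_one, orderOf_eq_one_iff] at h3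
      have h4 : x * y = y * x := by
        have : x * y = (x * y * x⁻¹ * y⁻¹) * (y * x) := by group
        rw [this, h3, one_mul]
      exact h4.symm
    · intro hy
      show (QuotientGroup.mk y : G ⧸ ⁅D, D⁆) * QuotientGroup.mk x₀ =
        QuotientGroup.mk x₀ * QuotientGroup.mk y
      rw [← hmk, ← QuotientGroup.mk_mul, ← QuotientGroup.mk_mul, hy]
  rw [← hcomap, Subgroup.index_comap_of_surjective _ (QuotientGroup.mk'_surjective _)]

/-- characters of `G / D'` whose inflations lie in the same block lie in the same block -/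
theorem sameBlock_deflate [Finite G] [Fact p.Prime] (hM : IsPModular p M) (D : Subgroup G)
    [D.Normal] (hD : IsPGroup p D) (χ ψ : IrrCharacter (G ⧸ ⁅D, D⁆))
    (h : SameBlock M ((χ : G ⧸ ⁅D, D⁆ → ℂ) ∘ QuotientGroup.mk)
      ((ψ : G ⧸ ⁅D, D⁆ → ℂ) ∘ QuotientGroup.mk)) :
    SameBlock M (χ : G ⧸ ⁅D, D⁆ → ℂ) (ψ : G ⧸ ⁅D, D⁆ → ℂ) := by
  classical
  haveI : Fintype (G ⧸ ⁅D, D⁆) := Fintype.ofFinite _
  have hB : IsPBlock M (blockOf M (χ : G ⧸ ⁅D, D⁆ → ℂ)) := isPBlock_blockOf χ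
  have hχB := self_mem_blockOf hM χ
  rw [← mem_blockOf_iff]
  by_contra hψ
  have h1 := omega_blockCoeff (blockOf M (χ : G ⧸ ⁅D, D⁆ → ℂ)) χ
  have h2 := omega_blockCoeff (blockOf M (χ : G ⧸ ⁅D, D⁆ → ℂ)) ψ
  rw [if_pos hχB] at h1
  rw [if_neg hψ] at h2
  haveI hDn : (D.map (QuotientGroup.mk' ⁅D, D⁆)).Normal :=
    Subgroup.Normal.map inferInstance _ (QuotientGroup.mk'_surjective _)
  have hDp : IsPGroup p (D.map (QuotientGroup.mk' ⁅D, D⁆)) := hD.map _
  have key : MemLocalIdeal M (omega (blockCoeff (blockOf M (χ : G ⧸ ⁅D, D⁆ → ℂ))) χ -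
      omega (blockCoeff (blockOf M (χ : G ⧸ ⁅D, D⁆ → ℂ))) ψ) := by
    have e : omega (blockCoeff (blockOf M (χ : G ⧸ ⁅D, D⁆ → ℂ))) χ -
        omega (blockCoeff (blockOf M (χ : G ⧸ ⁅D, D⁆ → ℂ))) ψ =
        ∑ g : G ⧸ ⁅D, D⁆, blockCoeff (blockOf M (χ : G ⧸ ⁅D, D⁆ → ℂ)) g *
          ((χ : G ⧸ ⁅D, D⁆ → ℂ) g / (χ : G ⧸ ⁅D, D⁆ → ℂ) 1 -
            (ψ : G ⧸ ⁅D, D⁆ → ℂ) g / (ψ : G ⧸ ⁅D, D⁆ → ℂ) 1) := by
      unfold omega
      rw [Finset.sum_div, Finset.sum_div, ← Finset.sum_sub_distrib]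
      apply Finset.sum_congr rfl
      intro g _
      ring
    rw [e]
    apply li_sum_classFun hM
    · intro g x
      simp only [blockCoeff_conj, irr_conj]
    · intro g
      by_cases hreg : p ∣ orderOf g
      · rw [blockCoeff_eq_zero_of_singular hM hB g hreg, zero_mul, mul_zero]
        exact li_zero hM
      · by_cases hc : g ∈ Subgroup.centralizer
            ((D.map (QuotientGroup.mk' ⁅D, D⁆) : Subgroup (G ⧸ ⁅D, D⁆)) : Set (G ⧸ ⁅D, D⁆))
        · obtain ⟨x, hx, hidx⟩ := exists_lift_regular D hD g hreg hc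
          have e2 : ((Subgroup.centralizer ({g} : Set (G ⧸ ⁅D, D⁆))).index : ℂ) *
              (blockCoeff (blockOf M (χ : G ⧸ ⁅D, D⁆ → ℂ)) g *
                ((χ : G ⧸ ⁅D, D⁆ → ℂ) g / (χ : G ⧸ ⁅D, D⁆ → ℂ) 1 -
                  (ψ : G ⧸ ⁅D, D⁆ → ℂ) g / (ψ : G ⧸ ⁅D, D⁆ → ℂ) 1)) =
              blockCoeff (blockOf M (χ : G ⧸ ⁅D, D⁆ → ℂ)) g *
                (centralChar ((χ : G ⧸ ⁅D, D⁆ → ℂ) ∘ QuotientGroup.mk) x -
                  centralChar ((ψ : G ⧸ ⁅D, D⁆ → ℂ) ∘ QuotientGroup.mk) x) := by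
            unfold centralChar
            simp only [Function.comp_apply, QuotientGroup.mk_one]
            rw [hx, hidx]
            ring
          rw [e2]
          exact lr_mul_li hM (blockCoeff_lr hM hB g) (h x)
        · rw [blockCoeff_eq_zero_of_not_mem_centralizer hM _ hDp hB hc, zero_mul, mul_zero]
          exact li_zero hM
  rw [h1, h2, sub_zero] at key
  exact not_li_one hM key

/-- inflation induces a bijection between the blocks of `G / D'` and the blocks of `G` for a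
normal `p`-subgroup `D` -/
theorem blocks_quot_commutator [Finite G] [Fact p.Prime] (hM : IsPModular p M) (D : Subgroup G)
    [D.Normal] (hD : IsPGroup p D) :
    (∀ χ ψ : IrrCharacter (G ⧸ ⁅D, D⁆),
      SameBlock M (χ : G ⧸ ⁅D, D⁆ → ℂ) (ψ : G ⧸ ⁅D, D⁆ → ℂ) ↔
        SameBlock M ((χ : G ⧸ ⁅D, D⁆ → ℂ) ∘ QuotientGroup.mk)
          ((ψ : G ⧸ ⁅D, D⁆ → ℂ) ∘ QuotientGroup.mk)) ∧
    ∀ B : Set (IrrCharacter G), IsPBlock M B → ∃ χ : IrrCharacter (G ⧸ ⁅D, D⁆), ∃ θ ∈ B,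
      (θ : G → ℂ) = (χ : G ⧸ ⁅D, D⁆ → ℂ) ∘ QuotientGroup.mk := by
  refine ⟨fun χ ψ => ⟨sameBlock_inflate hM _ χ ψ, sameBlock_deflate hM D hD χ ψ⟩, fun B hB => ?_⟩
  obtain ⟨θ, hθB, hker⟩ := exists_mem_block_le_irrKer hM ⁅D, D⁆
    (hD.to_le (Subgroup.commutator_le_right D D)) hB
  obtain ⟨χ, hχ⟩ := exists_deflate θ ⁅D, D⁆ hker
  exact ⟨χ, θ, hθB, funext (fun g => (hχ g).symm)⟩

end Cfsg.Agent.Helper26
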