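import Mathlib
import Cfsg.Prelude.Def_FusionSystem
import Cfsg.Agent.Helper26.NormalSys

set_option autoImplicit false

namespace Cfsg.Agent.Helper26

open Cfsg Cfsg.FusionSystem

variable {Ω : Type*} [Group Ω] {S : Subgroup Ω}

/-- the maps of `F` that extend to `P ⊔ Q` fixing `Q` elementwise -/
def centralHom (F : FusionSystem S) (Q P : Subgroup Ω) : Set (P →* Ω) :=
  {φ | φ ∈ F.Hom P ∧ ∃ ψ ∈ F.Hom (P ⊔ Q),
    (∀ x : P, ψ (Subgroup.inclusion le_sup_left x) = φ x) ∧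
      ∀ x : Q, ψ (Subgroup.inclusion le_sup_right x) = x}

/-- The subsystem of `F` over `S` of maps extending to `P ⊔ Q` and centralizing `Q`,
for `Q ≤ Z(S)`. -/
def centralSystem (F : FusionSystem S) (Q : Subgroup Ω) (hQ : Q ≤ S)
    (hQc : ∀ g ∈ S, ∀ q ∈ Q, g * q * g⁻¹ = q) : FusionSystem S where
  Hom P := centralHom F Q P
  le_of_mem h := F.le_of_mem h.1
  injective_of_mem h := F.injective_of_mem h.1
  conj_mem := by
    intro P g hP hg
    refine ⟨F.conj_mem hP hg, conjHom (P ⊔ Q) g,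
      F.conj_mem (sup_le hP hQ) hg, fun x => rfl, ?_⟩
    intro q
    exact hQc g hg q q.2
  comp_mem := by
    rintro P P' φ ψ ⟨hφ, φ', hφ', hφ'φ, hφ'Q⟩ ⟨hψ, ψ', hψ', hψ'ψ, hψ'Q⟩ h
    refine ⟨F.comp_mem hφ hψ h, ?_⟩
    have h' : ∀ x : ↥(P ⊔ Q), φ' x ∈ P' ⊔ Q :=
      forall_mem_of_sup (fun x => by rw [hφ'φ]; exact le_sup_left (a := P') (h x))
        (fun q => by rw [hφ'Q]; exact le_sup_right (a := P') q.2)
    refine ⟨ψ'.comp (φ'.codRestrict (P' ⊔ Q) h'), F.comp_mem hφ' hψ' h', ?_, ?_⟩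
    · intro x
      show ψ' ⟨φ' (Subgroup.inclusion le_sup_left x), _⟩ = ψ ⟨φ x, h x⟩
      rw [← hψ'ψ]
      congr 1
      apply Subtype.ext
      exact hφ'φ x
    · intro q
      show ψ' ⟨φ' (Subgroup.inclusion le_sup_right q), _⟩ = q
      rw [← hψ'Q q]
      congr 1
      apply Subtype.ext
      exact hφ'Q q
  inv_mem := by
    rintro P φ ⟨hφ, φ', hφ', hφ'φ, hφ'Q⟩
    obtain ⟨ψ, hψ, hψφ⟩ := F.inv_mem hφ
    obtain ⟨χ, hχ, hχφ'⟩ := F.inv_mem hφ'
    have hle : φ.range ⊔ Q ≤ φ'.range :=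
      sup_le (by rintro _ ⟨x, rfl⟩; exact ⟨Subgroup.inclusion le_sup_left x, hφ'φ x⟩)
        (fun y hy => ⟨Subgroup.inclusion le_sup_right ⟨y, hy⟩, hφ'Q ⟨y, hy⟩⟩)
    refine ⟨ψ, ⟨hψ, χ.comp (Subgroup.inclusion hle), restrict_mem F hχ hle, ?_, ?_⟩, hψφ⟩
    · rintro ⟨_, x, rfl⟩
      rw [hψφ]
      have h1 := hχφ' (Subgroup.inclusion le_sup_left x)
      have e : (⟨φ' (Subgroup.inclusion le_sup_left x), ⟨_, rfl⟩⟩ : φ'.range) =
          Subgroup.inclusion hle (Subgroup.inclusion le_sup_left ⟨φ x, ⟨x, rfl⟩⟩) :=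
        Subtype.ext (hφ'φ x)
      rw [e] at h1
      exact h1
    · intro q
      have h1 := hχφ' (Subgroup.inclusion le_sup_right q)
      have e : (⟨φ' (Subgroup.inclusion le_sup_right q), ⟨_, rfl⟩⟩ : φ'.range) =
          Subgroup.inclusion hle (Subgroup.inclusion le_sup_right q) :=
        Subtype.ext (hφ'Q q)
      rw [e] at h1
      exact h1

theorem isCentral_iff_centralSystem (F : FusionSystem S) (Q : Subgroup Ω) (hQ : Q ≤ S)
    (hQc : ∀ g ∈ S, ∀ q ∈ Q, g * q * g⁻¹ = q) :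
    F.IsCentral Q ↔ F ≤ centralSystem F Q hQ hQc := by
  constructor
  · intro h P φ hφ
    exact ⟨hφ, h.2 P φ hφ⟩
  · intro h
    exact ⟨hQ, fun P φ hφ => (h P hφ).2⟩

/-- a central subgroup of the system is centralized by `S` -/
theorem central_comm (F : FusionSystem S) {Q : Subgroup Ω} (h : F.IsCentral Q) :
    ∀ g ∈ S, ∀ q ∈ Q, g * q * g⁻¹ = q := by
  intro g hg q hq
  obtain ⟨ψ, hψ, h1, h2⟩ := h.2 Q (conjHom Q g) (F.conj_mem h.1 hg)
  have h3 := h1 ⟨q, hq⟩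
  have h4 := h2 ⟨q, hq⟩
  have e : (Subgroup.inclusion le_sup_left ⟨q, hq⟩ : ↥(Q ⊔ Q)) =
      Subgroup.inclusion le_sup_right ⟨q, hq⟩ := Subtype.ext rfl
  rw [e, h4] at h3
  exact h3.symm

/-- a subgroup contained in `S` and all essential subgroups and fixed elementwise by their
automorphism groups is central in a saturated system -/
theorem central_of_fixed [Finite S] (p : ℕ) [Fact p.Prime] (hS : IsPGroup p S)
    (F : FusionSystem S) (hF : F.IsSaturated p) (Q : Subgroup Ω)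
    (h : ∀ P : Subgroup Ω, (P = S ∨ F.IsEssential p P) →
      (Q ≤ P ∧ ∀ α ∈ F.autGroup P, ∀ x : P, (x : Ω) ∈ Q → α x = x)) :
    F.IsCentral Q := by
  have hQS : Q ≤ S := (h S (Or.inl rfl)).1
  have hQc : ∀ g ∈ S, ∀ q ∈ Q, g * q * g⁻¹ = q := by
    intro g hg q hq
    have hα : MulAut.conj (⟨g, hg⟩ : S) ∈ F.autGroup S := inn_le_autGroup F le_rfl ⟨_, rfl⟩
    have h1 := (h S (Or.inl rfl)).2 _ hα ⟨q, hQS hq⟩ hq
    exact congrArg Subtype.val h1
  rw [isCentral_iff_centralSystem F Q hQS hQc]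
  intro P φ hφ
  refine alperin_goldschmidt p hS F hF (centralSystem F Q hQS hQc) ?_ _ P (F.le_of_mem hφ).1 rfl
    φ hφ
  intro P' hP' α hα
  have hP'S : P' ≤ S := by
    rcases hP' with h1 | h1
    · rw [h1]
    · exact h1.1.1
  obtain ⟨hQP, hinv⟩ := h P' hP'
  have hφ' := (mem_autGroup_iff F hP'S).mp hα
  have hle : P' ⊔ Q ≤ P' := sup_le le_rfl hQP
  apply Subgroup.subset_closure
  refine ⟨hφ', (P'.subtype.comp α.toMonoidHom).comp (Subgroup.inclusion hle),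
    restrict_mem F hφ' hle, fun x => rfl, ?_⟩
  intro q
  exact congrArg Subtype.val (hinv α hα ⟨q, hQP q.2⟩ q.2)

/-- elementwise form of centrality in a saturated system -/
theorem central_iff_conjElt [Finite S] (p : ℕ) [Fact p.Prime] (hS : IsPGroup p S)
    (F : FusionSystem S) (hF : F.IsSaturated p) (Q : Subgroup Ω) :
    F.IsCentral Q ↔ (Q ≤ S ∧ ∀ x ∈ Q, ∀ y : Ω, F.IsConjElt x y → y = x) := by
  constructor
  · intro h
    refine ⟨h.1, ?_⟩
    rintro x hx y ⟨φ, hφ, rfl⟩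
    obtain ⟨ψ, hψ, h1, h2⟩ := h.2 _ φ hφ
    have h3 := h1 ⟨x, Subgroup.mem_zpowers x⟩
    have h4 := h2 ⟨x, hx⟩
    have e : (Subgroup.inclusion le_sup_left ⟨x, Subgroup.mem_zpowers x⟩ :
        ↥(Subgroup.zpowers x ⊔ Q)) = Subgroup.inclusion le_sup_right ⟨x, hx⟩ := Subtype.ext rfl
    rw [e, h4] at h3
    exact h3.symm
  · rintro ⟨hQS, hconj⟩
    have hQc : ∀ g ∈ S, ∀ q ∈ Q, g * q * g⁻¹ = q := by
      intro g hg q hq
      exact hconj q hq _ ⟨conjHom (Subgroup.zpowers q) g,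
        F.conj_mem ((Subgroup.zpowers_le).mpr (hQS hq)) hg, rfl⟩
    apply central_of_fixed p hS F hF Q
    intro P hP
    have hPS : P ≤ S := by
      rcases hP with h1 | h1
      · rw [h1]
      · exact h1.1.1
    have hQP : Q ≤ P := by
      rcases hP with h1 | h1
      · rw [h1]; exact hQS
      · intro q hq
        apply h1.1.2 P (isConj_refl F hPS)
        refine ⟨hQS hq, Subgroup.mem_centralizer_iff.mpr ?_⟩
        intro g hg
        have h2 := hQc g (hPS hg) q hq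
        calc g * q = g * q * g⁻¹ * g := by group
          _ = q * g := by rw [h2]
    refine ⟨hQP, ?_⟩
    intro α hα x hx
    have hφ' := (mem_autGroup_iff F hPS).mp hα
    have hle : Subgroup.zpowers (x : Ω) ≤ P := (Subgroup.zpowers_le).mpr x.2
    have h3 := hconj x hx (α x) ⟨(P.subtype.comp α.toMonoidHom).comp (Subgroup.inclusion hle),
      restrict_mem F hφ' hle, rfl⟩
    exact Subtype.ext h3

end Cfsg.Agent.Helper26
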