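import Mathlib
import Cfsg.Agent.Helper1.CharBasic
import Cfsg.Agent.Helper11.CharBound

set_option autoImplicit false

namespace Cfsg.Agent.Helper26

open Cfsg

/-- positive reals with product at least one have sum of squares at least their number -/
theorem card_le_sum_sq_of_one_le_prod {ι : Type*} [Fintype ι] (x : ι → ℝ) (hx : ∀ i, 0 < x i)
    (hp : 1 ≤ ∏ i, x i) : (Fintype.card ι : ℝ) ≤ ∑ i, x i ^ 2 := by
  have h1 : ∀ i, Real.log (x i ^ 2) ≤ x i ^ 2 - 1 :=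
    fun i => Real.log_le_sub_one_of_pos (by have := hx i; positivity)
  have h2 : ∑ i, Real.log (x i ^ 2) = Real.log (∏ i, x i ^ 2) :=
    (Real.log_prod (fun i _ => (by have := hx i; positivity))).symm
  have h3 : (1 : ℝ) ≤ ∏ i, x i ^ 2 := by
    rw [Finset.prod_pow]
    exact one_le_pow₀ hp
  have h4 : 0 ≤ ∑ i, Real.log (x i ^ 2) := by
    rw [h2]
    exact Real.log_nonneg h3
  have h5 : ∑ i, Real.log (x i ^ 2) ≤ ∑ i, (x i ^ 2 - 1) := Finset.sum_le_sum (fun i _ => h1 i)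
  rw [Finset.sum_sub_distrib] at h5
  simp only [Finset.sum_const, Finset.card_univ, nsmul_eq_mul, mul_one] at h5
  linarith

/-- Burnside's averaging argument: over the Galois conjugates of a non-zero character value
the squares of the absolute values sum to at least the number of conjugates -/
theorem char_galois_sum {G : Type*} [Group G] [Finite G] {χ : G → ℂ} (hχ : IsCharacter G χ) :
    ∃ (ι : Type) (_ : Fintype ι) (_ : Nonempty ι) (m : ι → ℕ),
      (∀ i, Nat.Coprime (Nat.card G) (m i)) ∧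
      ∀ g : G, χ g ≠ 0 → (Fintype.card ι : ℝ) ≤ ∑ i, ‖χ (g ^ m i)‖ ^ 2 := by
  classical
  obtain ⟨k, ρ, rfl⟩ := hχ
  have hN : 0 < Nat.card G := Nat.card_pos
  obtain ⟨ζ, hζ⟩ : ∃ ζ : ℂ, IsPrimitiveRoot ζ (Nat.card G) :=
    ⟨_, Complex.isPrimitiveRoot_exp (Nat.card G) hN.ne'⟩
  have hζint : IsIntegral ℚ ζ :=
    IsIntegral.of_pow hN (by rw [hζ.pow_eq_one]; exact isIntegral_one)
  let K : IntermediateField ℚ ℂ := IntermediateField.adjoin ℚ {ζ}
  have hKfin : FiniteDimensional ℚ K := IntermediateField.adjoin.finiteDimensional hζint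
  have hζK : ζ ∈ K := IntermediateField.subset_adjoin ℚ _ rfl
  have hmem : ∀ μ : ℂ, μ ^ Nat.card G = 1 → μ ∈ K := by
    intro μ hμ
    obtain ⟨i, -, rfl⟩ := hζ.eq_pow_of_pow_eq_one hμ
    exact pow_mem hζK i
  have hσ : ∀ σ : K →ₐ[ℚ] ℂ, ∃ m : ℕ, Nat.Coprime (Nat.card G) m ∧
      ∀ (μ : ℂ) (hμ : μ ^ Nat.card G = 1), σ ⟨μ, hmem μ hμ⟩ = μ ^ m := by
    intro σ
    have h1 : IsPrimitiveRoot (⟨ζ, hζK⟩ : K) (Nat.card G) :=
      IsPrimitiveRoot.of_map_of_injective (f := (algebraMap K ℂ)) hζ (algebraMap K ℂ).injective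
    have h2 : IsPrimitiveRoot (σ ⟨ζ, hζK⟩) (Nat.card G) :=
      h1.map_of_injective σ.toRingHom.injective
    obtain ⟨m, -, hm⟩ := hζ.eq_pow_of_pow_eq_one h2.pow_eq_one
    refine ⟨m, ?_, fun μ hμ => ?_⟩
    · rw [← hm] at h2
      exact ((hζ.pow_iff_coprime hN m).mp h2).symm
    · obtain ⟨i, -, rfl⟩ := hζ.eq_pow_of_pow_eq_one hμ
      have h3 : (⟨ζ ^ i, hmem (ζ ^ i) hμ⟩ : K) = (⟨ζ, hζK⟩ : K) ^ i := Subtype.ext rfl
      rw [h3, map_pow, ← hm, ← pow_mul, ← pow_mul, mul_comm]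
  choose m hm1 hm2 using hσ
  refine ⟨K →ₐ[ℚ] ℂ, inferInstance, ⟨(algebraMap K ℂ).toRatAlgHom⟩, m, hm1, fun g hg => ?_⟩
  obtain ⟨b, μ, hμ, -, hb, -, hc, -⟩ := Cfsg.Agent.Helper1.exists_eigenbasis ρ g
  have hpow : ∀ n : ℕ, ρ.character (g ^ n) = ∑ i, (μ i) ^ n := by
    intro n
    have hb' : ∀ i, ρ (g ^ n) (b i) = (μ i) ^ n • b i := by
      intro i
      rw [map_pow]
      exact Cfsg.Agent.Helper1.pow_apply_of_apply_eq_smul (ρ g) (b i) (μ i) (hb i) n
    exact Cfsg.Agent.Helper1.trace_eq_sum_of_eigenbasis b (ρ (g ^ n)) (fun i => (μ i) ^ n) hb'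
  let a : K := ∑ i, ⟨μ i, hmem (μ i) (hμ i)⟩
  have ha : (a : ℂ) = ρ.character g := by
    rw [hc]
    simp [a]
  have hσa : ∀ σ : K →ₐ[ℚ] ℂ, σ a = ρ.character (g ^ m σ) := by
    intro σ
    rw [hpow, map_sum]
    exact Finset.sum_congr rfl (fun i _ => hm2 σ (μ i) (hμ i))
  have ha0 : a ≠ 0 := by
    intro h
    apply hg
    rw [← ha, h]
    rfl
  have haint : IsIntegral ℤ a := by
    apply IsIntegral.sum
    intro i _
    apply IsIntegral.of_pow hN
    have : (⟨μ i, hmem (μ i) (hμ i)⟩ : K) ^ Nat.card G = 1 := Subtype.ext (by simp [hμ i])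
    rw [this]
    exact isIntegral_one
  have hnorm_int : IsIntegral ℤ (Algebra.norm ℚ a) := Algebra.isIntegral_norm ℚ haint
  obtain ⟨z, hz⟩ := IsIntegrallyClosed.isIntegral_iff.mp hnorm_int
  have hz0 : z ≠ 0 := by
    intro h
    rw [h] at hz
    simp only [algebraMap_int_eq, eq_intCast, Int.cast_zero] at hz
    exact ha0 (Algebra.norm_eq_zero_iff.mp hz.symm)
  have hprod := Algebra.norm_eq_prod_embeddings ℚ ℂ a
  have h1 : ‖algebraMap ℚ ℂ (Algebra.norm ℚ a)‖ = ‖(z : ℂ)‖ := by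
    rw [← hz]; simp
  have h2 : (1 : ℝ) ≤ ‖(z : ℂ)‖ := by
    rw [Complex.norm_intCast]
    exact_mod_cast Int.one_le_abs hz0
  rw [← h1, hprod, norm_prod] at h2
  have h3 := card_le_sum_sq_of_one_le_prod (fun σ : K →ₐ[ℚ] ℂ => ‖σ a‖)
    (fun σ => norm_pos_iff.mpr (fun h => ha0 (by
      have := σ.toRingHom.injective (a₁ := a) (a₂ := 0) (by simpa using h)
      exact this))) h2
  refine h3.trans (le_of_eq ?_)
  exact Finset.sum_congr rfl (fun σ _ => by rw [hσa σ])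

/-- outside a subgroup, the squares of the absolute values of a character sum to at least the
number of non-zeros -/
theorem ncard_nonzero_le_sum {G : Type*} [Group G] [Fintype G] {χ : G → ℂ}
    (hχ : IsCharacter G χ) (H : Subgroup G) [DecidablePred fun g => g ∈ H] :
    (Set.ncard {g : G | g ∉ H ∧ χ g ≠ 0} : ℝ) ≤ ∑ g : G, if g ∈ H then 0 else ‖χ g‖ ^ 2 := by
  classical
  obtain ⟨ι, _, hne, m, hm, hsum⟩ := char_galois_sum hχ
  have hpow : ∀ i, ∀ g : G, g ^ m i ∈ H ↔ g ∈ H := by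
    intro i g
    constructor
    · intro h
      have := (powCoprime (hm i)).left_inv g
      rw [← this]
      exact H.zpow_mem h _
    · intro h
      exact H.pow_mem h _
  have h1 : ∀ i, ∑ g : G, (if g ∈ H then 0 else ‖χ g‖ ^ 2) =
      ∑ g : G, (if g ∈ H then 0 else ‖χ (g ^ m i)‖ ^ 2) := by
    intro i
    rw [← Equiv.sum_comp (powCoprime (hm i))]
    apply Finset.sum_congr rfl
    intro g _
    show (if g ^ m i ∈ H then 0 else ‖χ (g ^ m i)‖ ^ 2) = _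
    by_cases hg : g ∈ H
    · rw [if_pos hg, if_pos ((hpow i g).mpr hg)]
    · rw [if_neg hg, if_neg (fun h => hg ((hpow i g).mp h))]
  have h2 : (Fintype.card ι : ℝ) * ∑ g : G, (if g ∈ H then 0 else ‖χ g‖ ^ 2) =
      ∑ g : G, if g ∈ H then 0 else ∑ i, ‖χ (g ^ m i)‖ ^ 2 := by
    have : (Fintype.card ι : ℝ) * ∑ g : G, (if g ∈ H then 0 else ‖χ g‖ ^ 2) =
        ∑ i : ι, ∑ g : G, (if g ∈ H then 0 else ‖χ (g ^ m i)‖ ^ 2) := by
      rw [← Finset.sum_congr rfl (fun i _ => h1 i)]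
      simp
    rw [this, Finset.sum_comm]
    apply Finset.sum_congr rfl
    intro g _
    by_cases hg : g ∈ H
    · simp [hg]
    · simp [hg]
  have h3 : ∑ g : G, (if g ∉ H ∧ χ g ≠ 0 then (Fintype.card ι : ℝ) else 0) ≤
      ∑ g : G, if g ∈ H then 0 else ∑ i, ‖χ (g ^ m i)‖ ^ 2 := by
    apply Finset.sum_le_sum
    intro g _
    by_cases hg : g ∈ H
    · simp [hg]
    · by_cases h0 : χ g = 0
      · simp only [hg, h0, not_false_eq_true, ne_eq, not_true_eq_false, and_false, if_false]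
        exact Finset.sum_nonneg (fun i _ => by positivity)
      · simp only [hg, h0, not_false_eq_true, ne_eq, and_self, if_true, if_false]
        exact hsum g h0
  have h4 : ∑ g : G, (if g ∉ H ∧ χ g ≠ 0 then (Fintype.card ι : ℝ) else 0) =
      (Fintype.card ι : ℝ) * (Set.ncard {g : G | g ∉ H ∧ χ g ≠ 0} : ℝ) := by
    rw [← Finset.sum_filter, Finset.sum_const, nsmul_eq_mul, mul_comm]
    congr 2
    rw [Set.ncard_eq_toFinset_card']
    congr 1
    ext g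
    simp
  rw [h4, ← h2] at h3
  have hpos : (0 : ℝ) < Fintype.card ι := by exact_mod_cast Fintype.card_pos
  exact le_of_mul_le_mul_left h3 hpos

/-- `[χ_H, χ_H] ≤ 1 + |Z ∖ H| / |H|` for the zero set `Z` of the irreducible character `χ` -/
theorem restrict_norm_le {G : Type*} [Group G] [Finite G] (H : Subgroup G)
    (χ : IrrCharacter G) :
    (Nat.card ↥H : ℝ)⁻¹ * ∑ᶠ h : ↥H, ‖(χ : G → ℂ) h‖ ^ 2 ≤
      1 + (Set.ncard ({x : G | (χ : G → ℂ) x = 0} \ (H : Set G)) : ℝ) / (Nat.card ↥H : ℝ) := by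
  classical
  haveI : Fintype G := Fintype.ofFinite G
  have hχ : IsCharacter G (χ : G → ℂ) := by
    obtain ⟨n, ρ, -, h⟩ := χ.2
    exact ⟨n, ρ, h⟩
  have h1 := ncard_nonzero_le_sum hχ H
  have h2 := Cfsg.Agent.Helper11.irr_sum_normSq χ
  have h3 : ∑ᶠ h : ↥H, ‖(χ : G → ℂ) h‖ ^ 2 =
      ∑ g : G, if g ∈ H then ‖(χ : G → ℂ) g‖ ^ 2 else 0 := by
    rw [finsum_eq_sum_of_fintype, ← Finset.sum_filter]
    exact (Finset.sum_subtype (Finset.univ.filter (· ∈ H)) (by simp)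
      (fun g => ‖(χ : G → ℂ) g‖ ^ 2)).symm
  have h4 : ∑ g : G, (if g ∈ H then ‖(χ : G → ℂ) g‖ ^ 2 else 0) +
      ∑ g : G, (if g ∈ H then 0 else ‖(χ : G → ℂ) g‖ ^ 2) = (Nat.card G : ℝ) := by
    rw [← Finset.sum_add_distrib, ← h2]
    apply Finset.sum_congr rfl
    intro g _
    rw [Complex.normSq_eq_norm_sq]
    split_ifs <;> simp
  have h5 : Nat.card G = Nat.card H +
      Set.ncard ({x : G | (χ : G → ℂ) x = 0} \ (H : Set G)) +
      Set.ncard {g : G | g ∉ H ∧ (χ : G → ℂ) g ≠ 0} := by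
    have e1 : Nat.card H = Set.ncard (H : Set G) := rfl
    have hd1 : Disjoint (H : Set G) ({x : G | (χ : G → ℂ) x = 0} \ (H : Set G)) :=
      Set.disjoint_sdiff_right
    have hd2 : Disjoint ((H : Set G) ∪ ({x : G | (χ : G → ℂ) x = 0} \ (H : Set G)))
        {g : G | g ∉ H ∧ (χ : G → ℂ) g ≠ 0} := by
      rw [Set.disjoint_left]
      rintro g (hg | hg) ⟨h1, h2⟩
      · exact h1 hg
      · exact h2 hg.1
    rw [e1, ← Set.ncard_union_eq hd1, ← Set.ncard_union_eq hd2, ← Set.ncard_univ]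
    congr 1
    ext g
    simp only [Set.mem_univ, Set.mem_union, SetLike.mem_coe, Set.mem_diff, Set.mem_setOf_eq,
      true_iff]
    by_cases hg : g ∈ H
    · exact Or.inl (Or.inl hg)
    · by_cases h0 : (χ : G → ℂ) g = 0
      · exact Or.inl (Or.inr ⟨h0, hg⟩)
      · exact Or.inr ⟨hg, h0⟩
  have h5' : (Nat.card G : ℝ) = (Nat.card H : ℝ) +
      (Set.ncard ({x : G | (χ : G → ℂ) x = 0} \ (H : Set G)) : ℝ) +
      (Set.ncard {g : G | g ∉ H ∧ (χ : G → ℂ) g ≠ 0} : ℝ) := by exact_mod_cast h5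
  have hH : (0 : ℝ) < Nat.card H := by exact_mod_cast Nat.card_pos
  rw [h3, inv_mul_le_iff₀ hH, mul_add, mul_one, mul_div_cancel₀ _ hH.ne']
  linarith

end Cfsg.Agent.Helper26
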