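import Mathlib
import Cfsg.Agent.Helper2.CharExtra
import Cfsg.Agent.Helper25.CharArith
import Cfsg.Agent.Helper25.CharMore

/-!
Helper library (seat helper26): the Glauberman correspondence for a `p`-group of operators,
through orbit-sum congruences modulo `p` (the Brauer homomorphism argument).
-/

set_option autoImplicit false

namespace Cfsg.Agent.Helper26

open Cfsg
open scoped ComplexConjugate

universe u

/-- The action on a level set of an invariant function. -/
@[reducible] def gb_levelAct {P X : Type*} [Group P] [MulAction P X] (f : X → ℂ)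
    (hf : ∀ (s : P) (x : X), f (s • x) = f x) (v : ℂ) : MulAction P {x : X // f x = v} where
  smul s x := ⟨s • x.1, by rw [hf]; exact x.2⟩
  one_smul x := Subtype.ext (one_smul P x.1)
  mul_smul s t x := Subtype.ext (mul_smul s t x.1)

/-- An integer that is `p` times an algebraic integer is divisible by `p`. -/
theorem gb_int_dvd (p : ℕ) (hp : p ≠ 0) (z : ℤ) (r : ℂ) (hr : IsIntegral ℤ r)
    (h : (z : ℂ) = p * r) : (p : ℤ) ∣ z := by
  have hp' : (p : ℂ) ≠ 0 := by exact_mod_cast hp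
  have h1 : r = algebraMap ℚ ℂ ((z : ℚ) / (p : ℚ)) := by
    rw [map_div₀]
    simp only [map_intCast, map_natCast]
    rw [h]; field_simp
  rw [h1, isIntegral_algebraMap_iff (algebraMap ℚ ℂ).injective] at hr
  obtain ⟨k, hk⟩ := IsIntegrallyClosed.isIntegral_iff.mp hr
  have hb' : (p : ℚ) ≠ 0 := by exact_mod_cast hp
  have h2 : (z : ℚ) = (k : ℚ) * (p : ℚ) := by
    have : (k : ℚ) = (z : ℚ) / (p : ℚ) := by simpa using hk
    rw [this, div_mul_cancel₀ _ hb']
  have h3 : z = k * (p : ℤ) := by exact_mod_cast h2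
  exact ⟨k, by rw [h3, mul_comm]⟩

/-- Orbit sums: for a `p`-group acting on a finite set, the sum of an invariant function
with algebraic integer values is congruent modulo `p` to its sum over the fixed points. -/
theorem gb_orbit_sum {P X : Type*} [Group P] [MulAction P X] [Fintype X] (p : ℕ) [Fact p.Prime]
    (hP : IsPGroup p P) (f : X → ℂ) (hf : ∀ (s : P) (x : X), f (s • x) = f x)
    (hint : ∀ x, IsIntegral ℤ (f x)) [DecidablePred (fun x : X => ∀ s : P, s • x = x)] :
    ∃ r : ℂ, IsIntegral ℤ r ∧ ∑ x : X, f x =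
      ∑ x ∈ Finset.univ.filter (fun x : X => ∀ s : P, s • x = x), f x + p * r := by
  classical
  have hlev : ∀ v : ℂ, ∃ k : ℕ, (Finset.univ.filter (fun x : X => f x = v)).card =
      ((Finset.univ.filter (fun x : X => ∀ s : P, s • x = x)).filter
        (fun x => f x = v)).card + p * k := by
    intro v
    letI : MulAction P {x : X // f x = v} := gb_levelAct f hf v
    have h1 := hP.card_modEq_card_fixedPoints {x : X // f x = v}
    have e1 : Nat.card {x : X // f x = v} = (Finset.univ.filter (fun x : X => f x = v)).card := by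
      rw [Nat.card_eq_fintype_card, Fintype.card_subtype]
    have e2 : Nat.card (MulAction.fixedPoints P {x : X // f x = v}) =
        ((Finset.univ.filter (fun x : X => ∀ s : P, s • x = x)).filter
          (fun x => f x = v)).card := by
      rw [← Nat.card_eq_finsetCard]
      apply Nat.card_congr
      refine ⟨fun y => ⟨y.1.1, ?_⟩, fun y => ⟨⟨y.1, ?_⟩, ?_⟩, ?_, ?_⟩
      · rw [Finset.mem_filter, Finset.mem_filter]
        refine ⟨⟨Finset.mem_univ _, fun s => ?_⟩, y.1.2⟩
        have := y.2 s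
        exact congrArg Subtype.val this
      · have := y.2
        rw [Finset.mem_filter] at this
        exact this.2
      · intro s
        have := y.2
        rw [Finset.mem_filter, Finset.mem_filter] at this
        exact Subtype.ext (this.1.2 s)
      · intro y; rfl
      · intro y; rfl
    rw [e1, e2] at h1
    have hle : ((Finset.univ.filter (fun x : X => ∀ s : P, s • x = x)).filter
        (fun x => f x = v)).card ≤ (Finset.univ.filter (fun x : X => f x = v)).card := by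
      apply Finset.card_le_card
      intro x hx
      rw [Finset.mem_filter] at hx ⊢
      exact ⟨Finset.mem_univ _, hx.2⟩
    obtain ⟨k, hk⟩ := (Nat.modEq_iff_dvd' hle).mp h1.symm
    exact ⟨k, by omega⟩
  choose k hk using hlev
  refine ⟨∑ v ∈ Finset.univ.image f, (k v : ℂ) * v, ?_, ?_⟩
  · apply IsIntegral.sum; intro v hv
    obtain ⟨x, _, rfl⟩ := Finset.mem_image.mp hv
    have hk0 : IsIntegral ℤ ((k (f x) : ℕ) : ℂ) := by
      have := isIntegral_algebraMap (R := ℤ) (A := ℂ) (x := ((k (f x) : ℕ) : ℤ))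
      simpa using this
    exact hk0.mul (hint x)
  · have h1 : ∑ x : X, f x = ∑ v ∈ Finset.univ.image f,
        ((Finset.univ.filter (fun x : X => f x = v)).card : ℂ) * v := by
      rw [Finset.sum_comp (fun v => v) f]
      apply Finset.sum_congr rfl; intro v _
      rw [nsmul_eq_mul]
    have h2 : ∑ x ∈ Finset.univ.filter (fun x : X => ∀ s : P, s • x = x), f x =
        ∑ v ∈ Finset.univ.image f,
          (((Finset.univ.filter (fun x : X => ∀ s : P, s • x = x)).filter
            (fun x => f x = v)).card : ℂ) * v := by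
      rw [Finset.sum_comp (fun v => v) f]
      rw [Finset.sum_subset (Finset.image_subset_image (Finset.filter_subset _ _))]
      · apply Finset.sum_congr rfl; intro v _
        rw [nsmul_eq_mul]
      · intro v _ hv
        have : ((Finset.univ.filter (fun x : X => ∀ s : P, s • x = x)).filter
            (fun x => f x = v)) = ∅ := by
          rw [Finset.filter_eq_empty_iff]
          intro x hx hfx
          exact hv (Finset.mem_image.mpr ⟨x, hx, hfx⟩)
        rw [this]; simp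
    rw [h1, h2, Finset.mul_sum, ← Finset.sum_add_distrib]
    apply Finset.sum_congr rfl; intro v _
    rw [hk v]; push_cast; ring

/-- Multiplicativity of the central character, in convolution form. -/
theorem gb_omega {K : Type*} [Group K] [Fintype K] (χ : IrrCharacter K) (B : K → ℂ)
    (hB : IsClassFunction K B) (g : K) :
    (χ : K → ℂ) 1 * ∑ h : K, B h * (χ : K → ℂ) (g * h) =
      (χ : K → ℂ) g * ∑ h : K, B h * (χ : K → ℂ) h := by
  have h10 := Helper25.irr_one_ne_zero χ
  obtain ⟨n, ρ, hρ, hχ⟩ := χ.2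
  rw [← hχ] at h10 ⊢
  haveI := hρ
  have h1 := Helper1.sumOp_eq_smul ρ B hB
  have h3 : LinearMap.trace ℂ _ (ρ g ∘ₗ Helper1.sumOp ρ B) =
      ∑ h : K, B h * ρ.character (g * h) := by
    unfold Helper1.sumOp
    show LinearMap.trace ℂ _ (ρ g * ∑ h : K, B h • ρ h) = _
    rw [Finset.mul_sum, map_sum]
    apply Finset.sum_congr rfl; intro h _
    rw [mul_smul_comm, map_smul, smul_eq_mul, ← map_mul]
    rfl
  have h4 : LinearMap.trace ℂ _ (ρ g ∘ₗ (((∑ h, B h * ρ.character h) /
      (Module.finrank ℂ (Fin n → ℂ) : ℂ)) • LinearMap.id)) =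
      ((∑ h, B h * ρ.character h) / (Module.finrank ℂ (Fin n → ℂ) : ℂ)) * ρ.character g := by
    rw [LinearMap.comp_smul, map_smul, smul_eq_mul, LinearMap.comp_id]; rfl
  rw [h1, h4] at h3
  have h5 : ρ.character 1 = (Module.finrank ℂ (Fin n → ℂ) : ℂ) := by
    rw [Helper25.rep_char_one]; simp
  rw [← h5] at h3
  rw [← h3]; field_simp

section Glaub

variable {Γ : Type u} [Group Γ] (G S : Subgroup Γ)

/-- Conjugation by an element of `S`, as an endomorphism of `G`. -/
def gb_conjHom (hnorm : ∀ s ∈ S, ∀ g ∈ G, s * g * s⁻¹ ∈ G) (s : S) : G →* G where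
  toFun g := ⟨s * g * s⁻¹, hnorm s s.2 g g.2⟩
  map_one' := Subtype.ext (by simp)
  map_mul' a b := Subtype.ext (by simp)

variable (hnorm : ∀ s ∈ S, ∀ g ∈ G, s * g * s⁻¹ ∈ G)

theorem gb_conjHom_coe (s : S) (g : G) :
    ((gb_conjHom G S hnorm s g : G) : Γ) = s * g * (s : Γ)⁻¹ := rfl

theorem gb_conjHom_one (g : G) : gb_conjHom G S hnorm 1 g = g :=
  Subtype.ext (by rw [gb_conjHom_coe]; simp)

theorem gb_conjHom_mul (s t : S) (g : G) :
    gb_conjHom G S hnorm (s * t) g = gb_conjHom G S hnorm s (gb_conjHom G S hnorm t g) :=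
  Subtype.ext (by
    rw [gb_conjHom_coe, gb_conjHom_coe, gb_conjHom_coe, Subgroup.coe_mul]; group)

theorem gb_conjHom_inv_left (s : S) (g : G) :
    gb_conjHom G S hnorm s⁻¹ (gb_conjHom G S hnorm s g) = g := by
  rw [← gb_conjHom_mul, inv_mul_cancel, gb_conjHom_one]

theorem gb_conjHom_inv_right (s : S) (g : G) :
    gb_conjHom G S hnorm s (gb_conjHom G S hnorm s⁻¹ g) = g := by
  rw [← gb_conjHom_mul, mul_inv_cancel, gb_conjHom_one]

/-- The conjugation action of `S` on `G`. -/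
@[reducible] def gb_act : MulAction S G where
  smul s g := gb_conjHom G S hnorm s g
  one_smul g := gb_conjHom_one G S hnorm g
  mul_smul s t g := gb_conjHom_mul G S hnorm s t g

/-- The diagonal conjugation action of `S` on `G × G`. -/
@[reducible] def gb_act2 : MulAction S (G × G) where
  smul s x := (gb_conjHom G S hnorm s x.1, gb_conjHom G S hnorm s x.2)
  one_smul x := Prod.ext (gb_conjHom_one G S hnorm x.1) (gb_conjHom_one G S hnorm x.2)
  mul_smul s t x := Prod.ext (gb_conjHom_mul G S hnorm s t x.1) (gb_conjHom_mul G S hnorm s t x.2)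

/-- The conjugation action of `S` on the irreducible characters of `G`. -/
@[reducible] noncomputable def gb_actIrr : MulAction S (IrrCharacter G) where
  smul s χ := ⟨fun g => (χ : G → ℂ) (gb_conjHom G S hnorm s⁻¹ g),
    Helper2.isIrrCharacter_comp_of_surjective (gb_conjHom G S hnorm s⁻¹)
      (fun g => ⟨gb_conjHom G S hnorm s g, by
        have := gb_conjHom_inv_left G S hnorm s g
        exact this⟩) χ.2⟩
  one_smul χ := by
    apply Subtype.ext; funext g
    show (χ : G → ℂ) (gb_conjHom G S hnorm (1 : S)⁻¹ g) = (χ : G → ℂ) g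
    rw [inv_one, gb_conjHom_one]
  mul_smul s t χ := by
    apply Subtype.ext; funext g
    show (χ : G → ℂ) (gb_conjHom G S hnorm (s * t)⁻¹ g) =
      (χ : G → ℂ) (gb_conjHom G S hnorm t⁻¹ (gb_conjHom G S hnorm s⁻¹ g))
    rw [mul_inv_rev, gb_conjHom_mul]

theorem gb_fixed_iff (g : G) :
    (∀ s : S, gb_conjHom G S hnorm s g = g) ↔
      (g : Γ) ∈ G ⊓ Subgroup.centralizer (S : Set Γ) := by
  constructor
  · intro h
    refine Subgroup.mem_inf.mpr ⟨g.2, ?_⟩
    rw [Subgroup.mem_centralizer_iff]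
    intro s hs
    have h1 : (s : Γ) * g * s⁻¹ = g := congrArg Subtype.val (h ⟨s, hs⟩)
    calc s * (g : Γ) = (s * g * s⁻¹) * s := by group
      _ = g * s := by rw [h1]
  · intro h s
    apply Subtype.ext
    rw [gb_conjHom_coe]
    have h1 := (Subgroup.mem_centralizer_iff.mp (Subgroup.mem_inf.mp h).2) s s.2
    rw [h1]; group

/-- Two `S`-fixed elements of `G` that are conjugate in `G` are conjugate by an `S`-fixed
element. -/
theorem gb_conj_in_C [Finite G] (p : ℕ) [Fact p.Prime] (hP : IsPGroup p S)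
    (hpG : ¬ p ∣ Nat.card G) (c c' : G) (hc : ∀ s : S, gb_conjHom G S hnorm s c = c)
    (hc' : ∀ s : S, gb_conjHom G S hnorm s c' = c') (x : G) (hx : x * c * x⁻¹ = c') :
    ∃ y : G, (∀ s : S, gb_conjHom G S hnorm s y = y) ∧ y * c * y⁻¹ = c' := by
  letI : MulAction S {y : G // y * c * y⁻¹ = c'} :=
    { smul := fun s y => ⟨gb_conjHom G S hnorm s y.1, by
        have h1 := congrArg (gb_conjHom G S hnorm s) y.2
        rw [map_mul, map_mul, map_inv, hc, hc'] at h1
        exact h1⟩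
      one_smul := fun y => Subtype.ext (gb_conjHom_one G S hnorm y.1)
      mul_smul := fun s t y => Subtype.ext (gb_conjHom_mul G S hnorm s t y.1) }
  have hcard : ¬ p ∣ Nat.card {y : G // y * c * y⁻¹ = c'} := by
    have e : {y : G // y * c * y⁻¹ = c'} ≃ (Subgroup.centralizer ({c} : Set G)) :=
      { toFun := fun y => ⟨x⁻¹ * y.1, by
          rw [Subgroup.mem_centralizer_iff]; intro h hh
          rw [Set.mem_singleton_iff] at hh; subst hh
          have h1 := y.2
          calc h * (x⁻¹ * y.1) = x⁻¹ * (x * h * x⁻¹) * y.1 := by group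
            _ = x⁻¹ * (y.1 * h * y.1⁻¹) * y.1 := by rw [hx, h1]
            _ = x⁻¹ * y.1 * h := by group⟩
        invFun := fun z => ⟨x * z.1, by
          have hz := (Subgroup.mem_centralizer_iff.mp z.2) c (Set.mem_singleton c)
          calc x * z.1 * c * (x * z.1)⁻¹ = x * (z.1 * c) * z.1⁻¹ * x⁻¹ := by group
            _ = x * (c * z.1) * z.1⁻¹ * x⁻¹ := by rw [hz]
            _ = x * c * x⁻¹ := by group
            _ = c' := hx⟩
        left_inv := fun y => Subtype.ext (by simp)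
        right_inv := fun z => Subtype.ext (by simp) }
    rw [Nat.card_congr e]
    intro h
    exact hpG (h.trans (Subgroup.card_subgroup_dvd_card _))
  obtain ⟨y, hy⟩ := hP.nonempty_fixed_point_of_prime_not_dvd_card _ hcard
  exact ⟨y.1, fun s => congrArg Subtype.val (hy s), y.2⟩

theorem gb_mem_C_fixed (C : Subgroup Γ) (hC : C = G ⊓ Subgroup.centralizer (S : Set Γ))
    (hCG : C ≤ G) (c : C) (s : S) :
    gb_conjHom G S hnorm s (Subgroup.inclusion hCG c) = Subgroup.inclusion hCG c := by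
  have h : ((Subgroup.inclusion hCG c : G) : Γ) ∈ G ⊓ Subgroup.centralizer (S : Set Γ) := by
    rw [← hC]; exact c.2
  exact (gb_fixed_iff G S hnorm _).mpr h s

open Classical in
/-- Extension of a class function on the fixed-point subgroup `C` to a class function on `G`
(zero on the classes not meeting `C`). -/
noncomputable def gb_ext (C : Subgroup Γ) (hCG : C ≤ G) (a : C → ℂ) : G → ℂ :=
  fun g => if h : ∃ c : C, IsConj (Subgroup.inclusion hCG c) g then a (Classical.choose h) else 0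

include hnorm in
theorem gb_ext_of_conj [Finite G] (C : Subgroup Γ)
    (hC : C = G ⊓ Subgroup.centralizer (S : Set Γ)) (hCG : C ≤ G) (p : ℕ) [Fact p.Prime]
    (hP : IsPGroup p S) (hpG : ¬ p ∣ Nat.card G) (a : C → ℂ) (ha : IsClassFunction C a)
    (c : C) (g : G) (hcg : IsConj (Subgroup.inclusion hCG c) g) :
    gb_ext G C hCG a g = a c := by
  classical
  have hex : ∃ c : C, IsConj (Subgroup.inclusion hCG c) g := ⟨c, hcg⟩
  unfold gb_ext
  rw [dif_pos hex]
  have h0 := Classical.choose_spec hex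
  obtain ⟨x, hx⟩ := isConj_iff.mp (h0.trans hcg.symm)
  obtain ⟨y, hyfix, hy⟩ := gb_conj_in_C G S hnorm p hP hpG _ _
    (gb_mem_C_fixed G S hnorm C hC hCG _) (gb_mem_C_fixed G S hnorm C hC hCG _) x hx
  have hyC : (y : Γ) ∈ C := by rw [hC]; exact (gb_fixed_iff G S hnorm y).mp hyfix
  have e : c = ⟨y, hyC⟩ * Classical.choose hex * (⟨y, hyC⟩ : C)⁻¹ := by
    apply Subtype.ext
    have := congrArg (fun z : G => (z : Γ)) hy
    simpa using this.symm
  rw [e, ha]

include hnorm in
theorem gb_ext_class [Finite G] (C : Subgroup Γ)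
    (hC : C = G ⊓ Subgroup.centralizer (S : Set Γ)) (hCG : C ≤ G) (p : ℕ) [Fact p.Prime]
    (hP : IsPGroup p S) (hpG : ¬ p ∣ Nat.card G) (a : C → ℂ) (ha : IsClassFunction C a) :
    IsClassFunction G (gb_ext G C hCG a) := by
  classical
  intro g h
  by_cases hex : ∃ c : C, IsConj (Subgroup.inclusion hCG c) g
  · obtain ⟨c, hc⟩ := hex
    rw [gb_ext_of_conj G S hnorm C hC hCG p hP hpG a ha c g hc,
      gb_ext_of_conj G S hnorm C hC hCG p hP hpG a ha c (h * g * h⁻¹)
        (hc.trans (isConj_iff.mpr ⟨h, rfl⟩))]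
  · have hex' : ¬ ∃ c : C, IsConj (Subgroup.inclusion hCG c) (h * g * h⁻¹) :=
      fun ⟨c, hc⟩ => hex ⟨c, hc.trans (isConj_iff.mpr ⟨h, rfl⟩).symm⟩
    unfold gb_ext
    rw [dif_neg hex, dif_neg hex']

theorem gb_ext_inv [Finite G] (C : Subgroup Γ)
    (hC : C = G ⊓ Subgroup.centralizer (S : Set Γ)) (hCG : C ≤ G) (p : ℕ) [Fact p.Prime]
    (hP : IsPGroup p S) (hpG : ¬ p ∣ Nat.card G) (a : C → ℂ) (ha : IsClassFunction C a)
    (s : S) (g : G) :
    gb_ext G C hCG a (gb_conjHom G S hnorm s g) = gb_ext G C hCG a g := by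
  classical
  have key : ∀ (t : S) (c : C) (g : G), IsConj (Subgroup.inclusion hCG c) g →
      IsConj (Subgroup.inclusion hCG c) (gb_conjHom G S hnorm t g) := by
    intro t c g hc
    obtain ⟨x, hx⟩ := isConj_iff.mp hc
    refine isConj_iff.mpr ⟨gb_conjHom G S hnorm t x, ?_⟩
    have h1 := congrArg (gb_conjHom G S hnorm t) hx
    rw [map_mul, map_mul, map_inv, gb_mem_C_fixed G S hnorm C hC hCG c t] at h1
    exact h1
  by_cases hex : ∃ c : C, IsConj (Subgroup.inclusion hCG c) g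
  · obtain ⟨c, hc⟩ := hex
    rw [gb_ext_of_conj G S hnorm C hC hCG p hP hpG a ha c g hc,
      gb_ext_of_conj G S hnorm C hC hCG p hP hpG a ha c _ (key s c g hc)]
  · have hex' : ¬ ∃ c : C, IsConj (Subgroup.inclusion hCG c) (gb_conjHom G S hnorm s g) := by
      rintro ⟨c, hc⟩
      apply hex
      refine ⟨c, ?_⟩
      have := key s⁻¹ c _ hc
      rw [gb_conjHom_inv_left] at this
      exact this
    unfold gb_ext
    rw [dif_neg hex, dif_neg hex']

include hnorm in
theorem gb_ext_coe [Finite G] (C : Subgroup Γ)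
    (hC : C = G ⊓ Subgroup.centralizer (S : Set Γ)) (hCG : C ≤ G) (p : ℕ) [Fact p.Prime]
    (hP : IsPGroup p S) (hpG : ¬ p ∣ Nat.card G) (a : C → ℂ) (ha : IsClassFunction C a)
    (c : C) : gb_ext G C hCG a (Subgroup.inclusion hCG c) = a c :=
  gb_ext_of_conj G S hnorm C hC hCG p hP hpG a ha c _ (IsConj.refl _)

omit hnorm in
theorem gb_ext_int (C : Subgroup Γ) (hCG : C ≤ G) (a : C → ℂ)
    (hai : ∀ c, IsIntegral ℤ (a c)) (g : G) : IsIntegral ℤ (gb_ext G C hCG a g) := by
  classical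
  unfold gb_ext
  split_ifs
  · exact hai _
  · exact isIntegral_zero

theorem gb_sum_fixed [Fintype G] (C : Subgroup Γ) [Fintype C]
    (hC : C = G ⊓ Subgroup.centralizer (S : Set Γ)) (hCG : C ≤ G) (F : G → ℂ)
    [DecidablePred (fun g : G => ∀ s : S, gb_conjHom G S hnorm s g = g)] :
    ∑ g ∈ Finset.univ.filter (fun g : G => ∀ s : S, gb_conjHom G S hnorm s g = g), F g =
      ∑ c : C, F (Subgroup.inclusion hCG c) := by
  symm
  apply Finset.sum_bij (fun (c : C) _ => Subgroup.inclusion hCG c)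
  · intro c _
    rw [Finset.mem_filter]
    exact ⟨Finset.mem_univ _, fun s => gb_mem_C_fixed G S hnorm C hC hCG c s⟩
  · intro a _ b _ h
    exact Subgroup.inclusion_injective hCG h
  · intro g hg
    rw [Finset.mem_filter] at hg
    have hgC : (g : Γ) ∈ C := by rw [hC]; exact (gb_fixed_iff G S hnorm g).mp hg.2
    exact ⟨⟨g, hgC⟩, Finset.mem_univ _, Subtype.ext rfl⟩
  · intro c _; rfl

theorem gb_sum_fixed2 [Fintype G] (C : Subgroup Γ) [Fintype C]
    (hC : C = G ⊓ Subgroup.centralizer (S : Set Γ)) (hCG : C ≤ G) (F : G × G → ℂ)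
    [DecidablePred (fun x : G × G =>
      ∀ s : S, (gb_conjHom G S hnorm s x.1, gb_conjHom G S hnorm s x.2) = x)] :
    ∑ x ∈ Finset.univ.filter (fun x : G × G =>
        ∀ s : S, (gb_conjHom G S hnorm s x.1, gb_conjHom G S hnorm s x.2) = x), F x =
      ∑ c : C, ∑ c' : C, F (Subgroup.inclusion hCG c, Subgroup.inclusion hCG c') := by
  rw [← Fintype.sum_prod_type']
  symm
  apply Finset.sum_bij (fun (c : C × C) _ =>
    ((Subgroup.inclusion hCG c.1, Subgroup.inclusion hCG c.2) : G × G))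
  · intro c _
    rw [Finset.mem_filter]
    exact ⟨Finset.mem_univ _, fun s => Prod.ext (gb_mem_C_fixed G S hnorm C hC hCG c.1 s)
      (gb_mem_C_fixed G S hnorm C hC hCG c.2 s)⟩
  · intro a _ b _ h
    exact Prod.ext (Subgroup.inclusion_injective hCG (congrArg Prod.fst h))
      (Subgroup.inclusion_injective hCG (congrArg Prod.snd h))
  · intro x hx
    rw [Finset.mem_filter] at hx
    have h1 : (x.1 : Γ) ∈ C := by
      rw [hC]; exact (gb_fixed_iff G S hnorm x.1).mp (fun s => congrArg Prod.fst (hx.2 s))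
    have h2 : (x.2 : Γ) ∈ C := by
      rw [hC]; exact (gb_fixed_iff G S hnorm x.2).mp (fun s => congrArg Prod.snd (hx.2 s))
    exact ⟨(⟨x.1, h1⟩, ⟨x.2, h2⟩), Finset.mem_univ _, Prod.ext (Subtype.ext rfl) (Subtype.ext rfl)⟩
  · intro c _; rfl

/-- Orbit-sum congruence on `G`. -/
theorem gb_orbit_G [Fintype G] (C : Subgroup Γ) [Fintype C]
    (hC : C = G ⊓ Subgroup.centralizer (S : Set Γ)) (hCG : C ≤ G) (p : ℕ) [Fact p.Prime]
    (hP : IsPGroup p S) (F : G → ℂ)
    (hF : ∀ (s : S) (g : G), F (gb_conjHom G S hnorm s g) = F g)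
    (hint : ∀ g, IsIntegral ℤ (F g)) :
    ∃ r : ℂ, IsIntegral ℤ r ∧
      ∑ g : G, F g = ∑ c : C, F (Subgroup.inclusion hCG c) + p * r := by
  classical
  letI := gb_act G S hnorm
  obtain ⟨r, hr, h⟩ := gb_orbit_sum p hP F hF hint
  refine ⟨r, hr, ?_⟩
  rw [h]
  congr 1
  exact gb_sum_fixed G S hnorm C hC hCG F

/-- Orbit-sum congruence on `G × G`. -/
theorem gb_orbit_G2 [Fintype G] (C : Subgroup Γ) [Fintype C]
    (hC : C = G ⊓ Subgroup.centralizer (S : Set Γ)) (hCG : C ≤ G) (p : ℕ) [Fact p.Prime]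
    (hP : IsPGroup p S) (F : G × G → ℂ)
    (hF : ∀ (s : S) (x : G × G),
      F (gb_conjHom G S hnorm s x.1, gb_conjHom G S hnorm s x.2) = F x)
    (hint : ∀ x, IsIntegral ℤ (F x)) :
    ∃ r : ℂ, IsIntegral ℤ r ∧ ∑ x : G × G, F x =
      ∑ c : C, ∑ c' : C, F (Subgroup.inclusion hCG c, Subgroup.inclusion hCG c') + p * r := by
  classical
  letI := gb_act2 G S hnorm
  obtain ⟨r, hr, h⟩ := gb_orbit_sum p hP F hF hint
  refine ⟨r, hr, ?_⟩
  rw [h]
  congr 1
  exact gb_sum_fixed2 G S hnorm C hC hCG F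

end Glaub

/-- Multiplicativity of the central character, in double-sum form. -/
theorem gb_omega2 {K : Type*} [Group K] [Fintype K] (χ : IrrCharacter K) (A B : K → ℂ)
    (hB : IsClassFunction K B) :
    (χ : K → ℂ) 1 * ∑ x : K × K, A x.1 * B x.2 * (χ : K → ℂ) (x.1 * x.2) =
      (∑ g : K, A g * (χ : K → ℂ) g) * (∑ h : K, B h * (χ : K → ℂ) h) := by
  rw [Fintype.sum_prod_type, Finset.mul_sum, Finset.sum_mul]
  apply Finset.sum_congr rfl; intro g _
  have := gb_omega χ B hB g
  calc (χ : K → ℂ) 1 * ∑ h : K, A g * B h * (χ : K → ℂ) (g * h)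
      = A g * ((χ : K → ℂ) 1 * ∑ h : K, B h * (χ : K → ℂ) (g * h)) := by
        rw [Finset.mul_sum, Finset.mul_sum, Finset.mul_sum]
        apply Finset.sum_congr rfl; intro h _; ring
    _ = A g * (χ : K → ℂ) g * ∑ h : K, B h * (χ : K → ℂ) h := by rw [this]; ring

section GlaubMain

variable {Γ : Type u} [Group Γ] (G S : Subgroup Γ) [Fintype G]
  (hnorm : ∀ s ∈ S, ∀ g ∈ G, s * g * s⁻¹ ∈ G)
  (C : Subgroup Γ) [Fintype C] (hC : C = G ⊓ Subgroup.centralizer (S : Set Γ)) (hCG : C ≤ G)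
  (p : ℕ) [Fact p.Prime] (hP : IsPGroup p S) (hpG : ¬ p ∣ Nat.card G)

include hC hP hpG

/-- The Brauer-homomorphism congruence on the fixed-point subgroup. -/
theorem gb_star (χ : IrrCharacter G)
    (hχ : ∀ (s : S) (g : G), (χ : G → ℂ) (gb_conjHom G S hnorm s g) = (χ : G → ℂ) g)
    (a b : C → ℂ) (ha : IsClassFunction C a) (hb : IsClassFunction C b)
    (hai : ∀ c, IsIntegral ℤ (a c)) (hbi : ∀ c, IsIntegral ℤ (b c)) :
    ∃ r : ℂ, IsIntegral ℤ r ∧
      (χ : G → ℂ) 1 * ∑ c : C, ∑ c' : C, a c * b c' *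
          (χ : G → ℂ) (Subgroup.inclusion hCG c * Subgroup.inclusion hCG c') =
        (∑ c : C, a c * (χ : G → ℂ) (Subgroup.inclusion hCG c)) *
          (∑ c : C, b c * (χ : G → ℂ) (Subgroup.inclusion hCG c)) + p * r := by
  have hAc : ∀ c : C, gb_ext G C hCG a (Subgroup.inclusion hCG c) = a c :=
    gb_ext_coe G S hnorm C hC hCG p hP hpG a ha
  have hBc : ∀ c : C, gb_ext G C hCG b (Subgroup.inclusion hCG c) = b c :=
    gb_ext_coe G S hnorm C hC hCG p hP hpG b hb
  have hχi : ∀ g, IsIntegral ℤ ((χ : G → ℂ) g) := Helper25.irr_isIntegral χ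
  have h0 := gb_omega2 χ (gb_ext G C hCG a) (gb_ext G C hCG b)
    (gb_ext_class G S hnorm C hC hCG p hP hpG b hb)
  obtain ⟨r1, hr1, h1⟩ := gb_orbit_G2 G S hnorm C hC hCG p hP
    (fun x => gb_ext G C hCG a x.1 * gb_ext G C hCG b x.2 * (χ : G → ℂ) (x.1 * x.2))
    (fun s x => by
      simp only
      rw [gb_ext_inv G S hnorm C hC hCG p hP hpG a ha,
        gb_ext_inv G S hnorm C hC hCG p hP hpG b hb, ← map_mul, hχ])
    (fun x => ((gb_ext_int G C hCG a hai _).mul (gb_ext_int G C hCG b hbi _)).mul (hχi _))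
  obtain ⟨r2, hr2, h2⟩ := gb_orbit_G G S hnorm C hC hCG p hP
    (fun g => gb_ext G C hCG a g * (χ : G → ℂ) g)
    (fun s g => by rw [gb_ext_inv G S hnorm C hC hCG p hP hpG a ha, hχ])
    (fun g => (gb_ext_int G C hCG a hai _).mul (hχi _))
  obtain ⟨r3, hr3, h3⟩ := gb_orbit_G G S hnorm C hC hCG p hP
    (fun g => gb_ext G C hCG b g * (χ : G → ℂ) g)
    (fun s g => by rw [gb_ext_inv G S hnorm C hC hCG p hP hpG b hb, hχ])
    (fun g => (gb_ext_int G C hCG b hbi _).mul (hχi _))
  simp only [hAc, hBc] at h1 h2 h3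
  rw [h1, h2, h3] at h0
  have hU : IsIntegral ℤ (∑ c : C, a c * (χ : G → ℂ) (Subgroup.inclusion hCG c)) :=
    IsIntegral.sum _ (fun c _ => (hai c).mul (hχi _))
  have hV : IsIntegral ℤ (∑ c : C, b c * (χ : G → ℂ) (Subgroup.inclusion hCG c)) :=
    IsIntegral.sum _ (fun c _ => (hbi c).mul (hχi _))
  have hp : IsIntegral ℤ (p : ℂ) := by
    have := isIntegral_algebraMap (R := ℤ) (A := ℂ) (x := (p : ℤ))
    simpa using this
  refine ⟨r2 * (∑ c : C, b c * (χ : G → ℂ) (Subgroup.inclusion hCG c)) +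
    (∑ c : C, a c * (χ : G → ℂ) (Subgroup.inclusion hCG c)) * r3 + p * r2 * r3 -
    (χ : G → ℂ) 1 * r1, ?_, ?_⟩
  · exact (((hr2.mul hV).add (hU.mul hr3)).add ((hp.mul hr2).mul hr3)).sub ((hχi 1).mul hr1)
  · linear_combination h0

/-- Two distinct irreducible characters of `C` cannot both have multiplicity prime to `p`
in the restriction of an invariant irreducible character. -/
theorem gb_mult_mul (χ : IrrCharacter G)
    (hχ : ∀ (s : S) (g : G), (χ : G → ℂ) (gb_conjHom G S hnorm s g) = (χ : G → ℂ) g)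
    (β β' : IrrCharacter C) (hne : β ≠ β') (m m' : ℕ)
    (hm : classInner (fun c : C => (χ : G → ℂ) (Subgroup.inclusion hCG c)) (β : C → ℂ) = m)
    (hm' : classInner (fun c : C => (χ : G → ℂ) (Subgroup.inclusion hCG c)) (β' : C → ℂ) = m') :
    p ∣ m * m' := by
  classical
  have hCne : (Nat.card C : ℂ) ≠ 0 := by exact_mod_cast Nat.card_pos.ne'
  have hcl : ∀ γ : IrrCharacter C, IsClassFunction C (fun c => (γ : C → ℂ) c⁻¹) := by
    intro γ g h
    show (γ : C → ℂ) (h * g * h⁻¹)⁻¹ = (γ : C → ℂ) g⁻¹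
    have e : (h * g * h⁻¹)⁻¹ = h * g⁻¹ * h⁻¹ := by group
    rw [e, Helper1.isClassFunction_irr γ]
  obtain ⟨r, hr, h⟩ := gb_star G S hnorm C hC hCG p hP hpG χ hχ
    (fun c => (β : C → ℂ) c⁻¹) (fun c => (β' : C → ℂ) c⁻¹) (hcl β) (hcl β')
    (fun c => Helper25.irr_isIntegral β _) (fun c => Helper25.irr_isIntegral β' _)
  have hU : ∀ (γ : IrrCharacter C) (k : ℕ),
      classInner (fun c : C => (χ : G → ℂ) (Subgroup.inclusion hCG c)) (γ : C → ℂ) = k →
      ∑ c : C, (γ : C → ℂ) c⁻¹ * (χ : G → ℂ) (Subgroup.inclusion hCG c) =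
        (Nat.card C : ℂ) * k := by
    intro γ k hk
    unfold classInner at hk
    rw [← hk, ← mul_assoc, mul_inv_cancel₀ hCne, one_mul]
    apply Finset.sum_congr rfl; intro c _
    rw [Helper1.irr_inv γ c, mul_comm]
  have hT : ∑ c : C, ∑ c' : C, (β : C → ℂ) c⁻¹ * (β' : C → ℂ) c'⁻¹ *
      (χ : G → ℂ) (Subgroup.inclusion hCG c * Subgroup.inclusion hCG c') = 0 := by
    have e1 : ∀ c : C, ∑ c' : C, (β : C → ℂ) c⁻¹ * (β' : C → ℂ) c'⁻¹ *
        (χ : G → ℂ) (Subgroup.inclusion hCG c * Subgroup.inclusion hCG c') =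
        ∑ d : C, (β : C → ℂ) c⁻¹ * (β' : C → ℂ) (c⁻¹ * d)⁻¹ *
          (χ : G → ℂ) (Subgroup.inclusion hCG d) := by
      intro c
      rw [← Equiv.sum_comp (Equiv.mulLeft c) (fun d : C => (β : C → ℂ) c⁻¹ *
        (β' : C → ℂ) (c⁻¹ * d)⁻¹ * (χ : G → ℂ) (Subgroup.inclusion hCG d))]
      apply Finset.sum_congr rfl; intro c' _
      simp only [Equiv.coe_mulLeft, inv_mul_cancel_left, map_mul]
    rw [Finset.sum_congr rfl (fun c _ => e1 c), Finset.sum_comm]
    apply Finset.sum_eq_zero; intro d _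
    rw [← Finset.sum_mul]
    have e2 : ∑ c : C, (β : C → ℂ) c⁻¹ * (β' : C → ℂ) (c⁻¹ * d)⁻¹ = 0 := by
      have e5 := Equiv.sum_comp (Equiv.inv C)
        (fun x : C => (β : C → ℂ) x * (β' : C → ℂ) (x * d)⁻¹)
      simp only [Equiv.inv_apply] at e5
      rw [e5]
      have e3 := Helper25.irr_convolution' β β' d⁻¹
      rw [if_neg hne] at e3
      rw [← e3]
      apply Finset.sum_congr rfl; intro x _
      congr 1
      have e4 : (x * d)⁻¹ = x * (x⁻¹ * d⁻¹) * x⁻¹ := by group
      rw [e4, Helper1.isClassFunction_irr β']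
    rw [e2, zero_mul]
  rw [hT, mul_zero, hU β m hm, hU β' m' hm'] at h
  have h2 : (((Nat.card C * Nat.card C * (m * m') : ℕ) : ℤ) : ℂ) = p * (-r) := by
    push_cast; linear_combination -h
  have h3 := gb_int_dvd p (Fact.out : p.Prime).ne_zero _ (-r) hr.neg h2
  have h4 : p ∣ Nat.card C * Nat.card C * (m * m') := Int.natCast_dvd_natCast.mp h3
  have hpC : ¬ p ∣ Nat.card C := fun h => hpG (h.trans (Subgroup.card_dvd_of_le hCG))
  have hp := (Fact.out : p.Prime)
  rcases hp.dvd_mul.mp h4 with h5 | h5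
  · rcases hp.dvd_mul.mp h5 with h6 | h6 <;> exact absurd h6 hpC
  · exact h5

omit hC hP [Fact p.Prime] in
/-- Some irreducible constituent of the restriction has multiplicity prime to `p`. -/
theorem gb_exists_mult (χ : IrrCharacter G) :
    ∃ β : IrrCharacter C, ∃ m : ℕ,
      classInner (fun c : C => (χ : G → ℂ) (Subgroup.inclusion hCG c)) (β : C → ℂ) = m ∧
        ¬ p ∣ m := by
  classical
  have hch := Helper2.isCharacter_comp (Subgroup.inclusion hCG)
    (Helper2.isCharacter_of_isIrrCharacter χ.2)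
  have hm : ∀ β : IrrCharacter C, ∃ m : ℕ,
      classInner (fun c : C => (χ : G → ℂ) (Subgroup.inclusion hCG c)) (β : C → ℂ) = m :=
    fun β => Helper2.classInner_char_nat hch (Helper2.isCharacter_of_isIrrCharacter β.2)
  choose m hm using hm
  by_contra hcon
  have hall : ∀ β, p ∣ m β := by
    intro β
    by_contra hp
    exact hcon ⟨β, m β, hm β, hp⟩
  have h1 := Helper2.classFun_eq_sum_classInner (Helper2.isClassFunction_of_isCharacter hch)
  have h2 := congrFun h1 1
  simp only [Finset.sum_apply, Pi.smul_apply, smul_eq_mul, map_one] at h2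
  have h3 : ((charDegree (χ : G → ℂ) : ℕ) : ℂ) =
      ((∑ β : IrrCharacter C, m β * charDegree (β : C → ℂ) : ℕ) : ℂ) := by
    rw [← Helper25.irr_one_eq_degree χ]; push_cast
    rw [h2]; apply Finset.sum_congr rfl; intro β _
    rw [hm β, Helper25.irr_one_eq_degree β]
  have h4 : charDegree (χ : G → ℂ) = ∑ β : IrrCharacter C, m β * charDegree (β : C → ℂ) := by
    exact_mod_cast h3
  have h5 : p ∣ charDegree (χ : G → ℂ) := by
    rw [h4]; apply Finset.dvd_sum; intro β _; exact Dvd.dvd.mul_right (hall β) _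
  exact hpG (h5.trans (Helper25.irr_degree_dvd_card χ))

omit hpG in
/-- The norm congruence between `G` and `C`. -/
theorem gb_norm (χ χ' : IrrCharacter G)
    (hχ : ∀ (s : S) (g : G), (χ : G → ℂ) (gb_conjHom G S hnorm s g) = (χ : G → ℂ) g)
    (hχ' : ∀ (s : S) (g : G), (χ' : G → ℂ) (gb_conjHom G S hnorm s g) = (χ' : G → ℂ) g) :
    ∃ r : ℂ, IsIntegral ℤ r ∧ (Nat.card G : ℂ) * classInner (χ : G → ℂ) (χ' : G → ℂ) =
      (Nat.card C : ℂ) * classInner (fun c : C => (χ : G → ℂ) (Subgroup.inclusion hCG c))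
        (fun c : C => (χ' : G → ℂ) (Subgroup.inclusion hCG c)) + p * r := by
  obtain ⟨r, hr, h⟩ := gb_orbit_G G S hnorm C hC hCG p hP
    (fun g => (χ : G → ℂ) g * (χ' : G → ℂ) g⁻¹)
    (fun s g => by rw [← map_inv, hχ, hχ'])
    (fun g => (Helper25.irr_isIntegral χ g).mul (Helper25.irr_isIntegral χ' g⁻¹))
  refine ⟨r, hr, ?_⟩
  have hG : (Nat.card G : ℂ) ≠ 0 := by exact_mod_cast Nat.card_pos.ne'
  have hCne : (Nat.card C : ℂ) ≠ 0 := by exact_mod_cast Nat.card_pos.ne'
  unfold classInner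
  rw [← mul_assoc, mul_inv_cancel₀ hG, one_mul, ← mul_assoc, mul_inv_cancel₀ hCne, one_mul]
  have e1 : ∑ g : G, (χ : G → ℂ) g * conj ((χ' : G → ℂ) g) =
      ∑ g : G, (χ : G → ℂ) g * (χ' : G → ℂ) g⁻¹ := by
    apply Finset.sum_congr rfl; intro g _; rw [Helper1.irr_inv χ' g]
  have e2 : ∑ c : C, (χ : G → ℂ) (Subgroup.inclusion hCG c) *
      conj ((χ' : G → ℂ) (Subgroup.inclusion hCG c)) =
      ∑ c : C, (χ : G → ℂ) (Subgroup.inclusion hCG c) *
        (χ' : G → ℂ) (Subgroup.inclusion hCG c)⁻¹ := by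
    apply Finset.sum_congr rfl; intro c _; rw [Helper1.irr_inv χ' _]
  rw [e1, e2]; exact h

/-- (i) Exactly one irreducible character of `C` has multiplicity prime to `p`. -/
theorem gb_main_unique (χ : IrrCharacter G)
    (hχ : ∀ (s : S) (g : G), (χ : G → ℂ) (gb_conjHom G S hnorm s g) = (χ : G → ℂ) g) :
    ∃! β : IrrCharacter C, ∃ m : ℕ,
      classInner (fun c : C => (χ : G → ℂ) (Subgroup.inclusion hCG c)) (β : C → ℂ) = m ∧
        ¬ p ∣ m := by
  obtain ⟨β, m, hm, hpm⟩ := gb_exists_mult G C hCG p hpG χ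
  refine ⟨β, ⟨m, hm, hpm⟩, ?_⟩
  rintro β' ⟨m', hm', hpm'⟩
  by_contra hne
  have := gb_mult_mul G S hnorm C hC hCG p hP hpG χ hχ β' β hne m' m hm' hm
  rcases (Fact.out : p.Prime).dvd_mul.mp this with h | h
  · exact hpm' h
  · exact hpm h

/-- (ii) The multiplicity prime to `p` is `±1` modulo `p`. -/
theorem gb_main_pm (χ : IrrCharacter G)
    (hχ : ∀ (s : S) (g : G), (χ : G → ℂ) (gb_conjHom G S hnorm s g) = (χ : G → ℂ) g)
    (β : IrrCharacter C) (m : ℕ)
    (hm : classInner (fun c : C => (χ : G → ℂ) (Subgroup.inclusion hCG c)) (β : C → ℂ) = m)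
    (hpm : ¬ p ∣ m) : (m : ℤ) ≡ 1 [ZMOD p] ∨ (m : ℤ) ≡ -1 [ZMOD p] := by
  classical
  have hprime := (Fact.out : p.Prime)
  have hch := Helper2.isCharacter_comp (Subgroup.inclusion hCG)
    (Helper2.isCharacter_of_isIrrCharacter χ.2)
  have hmm : ∀ β' : IrrCharacter C, ∃ k : ℕ,
      classInner (fun c : C => (χ : G → ℂ) (Subgroup.inclusion hCG c)) (β' : C → ℂ) = k :=
    fun β' => Helper2.classInner_char_nat hch (Helper2.isCharacter_of_isIrrCharacter β'.2)
  choose mm hmm using hmm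
  have hmβ : mm β = m := by
    have := (hmm β).symm.trans hm
    exact_mod_cast this
  have hdiv : ∀ β', β' ≠ β → p ∣ mm β' := by
    intro β' hne
    have := gb_mult_mul G S hnorm C hC hCG p hP hpG χ hχ β' β hne (mm β') m (hmm β') hm
    rcases hprime.dvd_mul.mp this with h | h
    · exact h
    · exact absurd h hpm
  obtain ⟨r, hr, h⟩ := gb_norm G S hnorm C hC hCG p hP χ χ hχ hχ
  rw [Helper2.classInner_irr_irr, if_pos rfl, mul_one] at h
  have hpar : classInner (fun c : C => (χ : G → ℂ) (Subgroup.inclusion hCG c))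
      (fun c : C => (χ : G → ℂ) (Subgroup.inclusion hCG c)) =
      ((∑ β' : IrrCharacter C, mm β' * mm β' : ℕ) : ℂ) := by
    rw [Helper2.classInner_eq_sum_mul (Helper2.isClassFunction_of_isCharacter hch)]
    push_cast
    apply Finset.sum_congr rfl; intro β' _
    rw [hmm β']; simp
  rw [hpar] at h
  have h1 : (((Nat.card G : ℤ) - (Nat.card C : ℤ) *
      ((∑ β' : IrrCharacter C, mm β' * mm β' : ℕ) : ℤ) : ℤ) : ℂ) = p * r := by
    push_cast; push_cast at h; linear_combination h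
  have d1 := gb_int_dvd p hprime.ne_zero _ r hr h1
  obtain ⟨r', hr', h'⟩ := gb_orbit_G G S hnorm C hC hCG p hP (fun _ => 1) (fun _ _ => rfl)
    (fun _ => isIntegral_one)
  simp only [Finset.sum_const, Finset.card_univ, nsmul_eq_mul, mul_one] at h'
  have h2 : (((Nat.card G : ℤ) - (Nat.card C : ℤ) : ℤ) : ℂ) = p * r' := by
    rw [Nat.card_eq_fintype_card, Nat.card_eq_fintype_card]; push_cast; linear_combination h'
  have d2 := gb_int_dvd p hprime.ne_zero _ r' hr' h2
  have hN : (∑ β' : IrrCharacter C, mm β' * mm β' : ℕ) =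
      m * m + ∑ β' ∈ Finset.univ.erase β, mm β' * mm β' := by
    rw [← Finset.add_sum_erase Finset.univ _ (Finset.mem_univ β), hmβ]
  have d3 : (p : ℤ) ∣ ((∑ β' ∈ Finset.univ.erase β, mm β' * mm β' : ℕ) : ℤ) := by
    apply Int.natCast_dvd_natCast.mpr
    apply Finset.dvd_sum; intro β' hβ'
    exact Dvd.dvd.mul_right (hdiv β' (Finset.ne_of_mem_erase hβ')) _
  have d4 : (p : ℤ) ∣ (Nat.card C : ℤ) * ((m : ℤ) * m - 1) := by
    have e : (Nat.card C : ℤ) * ((m : ℤ) * m - 1) =
        ((Nat.card G : ℤ) - (Nat.card C : ℤ)) -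
        ((Nat.card G : ℤ) - (Nat.card C : ℤ) *
          ((∑ β' : IrrCharacter C, mm β' * mm β' : ℕ) : ℤ)) -
        (Nat.card C : ℤ) * ((∑ β' ∈ Finset.univ.erase β, mm β' * mm β' : ℕ) : ℤ) := by
      rw [hN]; push_cast; ring
    rw [e]
    exact dvd_sub (dvd_sub d2 d1) (Dvd.dvd.mul_left d3 _)
  have hpC : ¬ (p : ℤ) ∣ (Nat.card C : ℤ) := by
    intro h
    exact hpG ((Int.natCast_dvd_natCast.mp h).trans (Subgroup.card_dvd_of_le hCG))
  have hpZ : Prime (p : ℤ) := Nat.prime_iff_prime_int.mp hprime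
  have d5 : (p : ℤ) ∣ (m : ℤ) * m - 1 := (hpZ.dvd_or_dvd d4).resolve_left hpC
  have d6 : (p : ℤ) ∣ ((m : ℤ) - 1) * ((m : ℤ) + 1) := by
    have e : ((m : ℤ) - 1) * ((m : ℤ) + 1) = (m : ℤ) * m - 1 := by ring
    rw [e]; exact d5
  rcases hpZ.dvd_or_dvd d6 with h | h
  · left
    exact (Int.modEq_iff_dvd.mpr h).symm
  · right
    refine (Int.modEq_iff_dvd.mpr ?_).symm
    rw [sub_neg_eq_add]; exact h

/-- (iii) The correspondence is injective. -/
theorem gb_main_inj (χ χ' : IrrCharacter G)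
    (hχ : ∀ (s : S) (g : G), (χ : G → ℂ) (gb_conjHom G S hnorm s g) = (χ : G → ℂ) g)
    (hχ' : ∀ (s : S) (g : G), (χ' : G → ℂ) (gb_conjHom G S hnorm s g) = (χ' : G → ℂ) g)
    (β : IrrCharacter C) (m m' : ℕ)
    (hm : classInner (fun c : C => (χ : G → ℂ) (Subgroup.inclusion hCG c)) (β : C → ℂ) = m)
    (hpm : ¬ p ∣ m)
    (hm' : classInner (fun c : C => (χ' : G → ℂ) (Subgroup.inclusion hCG c)) (β : C → ℂ) = m')
    (hpm' : ¬ p ∣ m') : χ = χ' := by
  classical
  by_contra hne
  have hprime := (Fact.out : p.Prime)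
  have hch := Helper2.isCharacter_comp (Subgroup.inclusion hCG)
    (Helper2.isCharacter_of_isIrrCharacter χ.2)
  have hch' := Helper2.isCharacter_comp (Subgroup.inclusion hCG)
    (Helper2.isCharacter_of_isIrrCharacter χ'.2)
  have hmm : ∀ β' : IrrCharacter C, ∃ k : ℕ,
      classInner (fun c : C => (χ : G → ℂ) (Subgroup.inclusion hCG c)) (β' : C → ℂ) = k :=
    fun β' => Helper2.classInner_char_nat hch (Helper2.isCharacter_of_isIrrCharacter β'.2)
  choose mm hmm using hmm
  have hmm' : ∀ β' : IrrCharacter C, ∃ k : ℕ,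
      classInner (fun c : C => (χ' : G → ℂ) (Subgroup.inclusion hCG c)) (β' : C → ℂ) = k :=
    fun β' => Helper2.classInner_char_nat hch' (Helper2.isCharacter_of_isIrrCharacter β'.2)
  choose mm' hmm' using hmm'
  have hmβ : mm β = m := by
    have := (hmm β).symm.trans hm
    exact_mod_cast this
  have hmβ' : mm' β = m' := by
    have := (hmm' β).symm.trans hm'
    exact_mod_cast this
  have hdiv : ∀ β', β' ≠ β → p ∣ mm β' := by
    intro β' hne
    have := gb_mult_mul G S hnorm C hC hCG p hP hpG χ hχ β' β hne (mm β') m (hmm β') hm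
    rcases hprime.dvd_mul.mp this with h | h
    · exact h
    · exact absurd h hpm
  obtain ⟨r, hr, h⟩ := gb_norm G S hnorm C hC hCG p hP χ χ' hχ hχ'
  rw [Helper2.classInner_irr_irr, if_neg hne, mul_zero] at h
  have hpar : classInner (fun c : C => (χ : G → ℂ) (Subgroup.inclusion hCG c))
      (fun c : C => (χ' : G → ℂ) (Subgroup.inclusion hCG c)) =
      ((∑ β' : IrrCharacter C, mm β' * mm' β' : ℕ) : ℂ) := by
    rw [Helper2.classInner_eq_sum_mul (Helper2.isClassFunction_of_isCharacter hch)]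
    push_cast
    apply Finset.sum_congr rfl; intro β' _
    rw [hmm β', hmm' β']; simp
  rw [hpar] at h
  have h1 : (((Nat.card C * (∑ β' : IrrCharacter C, mm β' * mm' β') : ℕ) : ℤ) : ℂ) =
      p * (-r) := by
    push_cast; push_cast at h; linear_combination -h
  have d1 := gb_int_dvd p hprime.ne_zero _ (-r) hr.neg h1
  have d2 : p ∣ Nat.card C * (∑ β' : IrrCharacter C, mm β' * mm' β') :=
    Int.natCast_dvd_natCast.mp d1
  have hpC : ¬ p ∣ Nat.card C := fun h => hpG (h.trans (Subgroup.card_dvd_of_le hCG))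
  have d3 : p ∣ ∑ β' : IrrCharacter C, mm β' * mm' β' :=
    (hprime.dvd_mul.mp d2).resolve_left hpC
  rw [← Finset.add_sum_erase Finset.univ _ (Finset.mem_univ β), hmβ, hmβ'] at d3
  have d4 : p ∣ ∑ β' ∈ Finset.univ.erase β, mm β' * mm' β' := by
    apply Finset.dvd_sum; intro β' hβ'
    exact Dvd.dvd.mul_right (hdiv β' (Finset.ne_of_mem_erase hβ')) _
  have d5 : p ∣ m * m' := (Nat.dvd_add_left d4).mp d3
  rcases hprime.dvd_mul.mp d5 with h | h
  · exact hpm h
  · exact hpm' h

/-- (iv) The correspondence is surjective. -/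
theorem gb_main_surj (β : IrrCharacter C) :
    ∃ χ : IrrCharacter G,
      (∀ (s : S) (g : G), (χ : G → ℂ) (gb_conjHom G S hnorm s g) = (χ : G → ℂ) g) ∧
      ∃ m : ℕ,
        classInner (fun c : C => (χ : G → ℂ) (Subgroup.inclusion hCG c)) (β : C → ℂ) = m ∧
          ¬ p ∣ m := by
  classical
  have hprime := (Fact.out : p.Prime)
  have hG : (Nat.card G : ℂ) ≠ 0 := by exact_mod_cast Nat.card_pos.ne'
  have hCne : (Nat.card C : ℂ) ≠ 0 := by exact_mod_cast Nat.card_pos.ne'
  have hmex : ∀ χ : IrrCharacter G, ∃ m : ℕ,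
      classInner (fun c : C => (χ : G → ℂ) (Subgroup.inclusion hCG c)) (β : C → ℂ) = m :=
    fun χ => Helper2.classInner_char_nat (Helper2.isCharacter_comp (Subgroup.inclusion hCG)
      (Helper2.isCharacter_of_isIrrCharacter χ.2)) (Helper2.isCharacter_of_isIrrCharacter β.2)
  choose mm hmm using hmex
  by_contra hcon
  have hall : ∀ χ : IrrCharacter G,
      (∀ (s : S) (g : G), (χ : G → ℂ) (gb_conjHom G S hnorm s g) = (χ : G → ℂ) g) →
      p ∣ mm χ := by
    intro χ hχ
    by_contra hp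
    exact hcon ⟨χ, hχ, mm χ, hmm χ, hp⟩
  have htot : ∑ χ : IrrCharacter G, (mm χ : ℂ) * (χ : G → ℂ) 1 =
      (Nat.card C : ℂ)⁻¹ * ((Nat.card G : ℂ) * (β : C → ℂ) 1) := by
    have e1 : ∀ χ : IrrCharacter G, (mm χ : ℂ) * (χ : G → ℂ) 1 = (Nat.card C : ℂ)⁻¹ *
        ∑ c : C, conj ((β : C → ℂ) c) *
          ((χ : G → ℂ) (Subgroup.inclusion hCG c) * (χ : G → ℂ) 1) := by
      intro χ
      rw [← hmm χ]; unfold classInner
      rw [mul_assoc, Finset.sum_mul]; congr 1; apply Finset.sum_congr rfl; intro c _; ring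
    rw [Finset.sum_congr rfl (fun χ _ => e1 χ), ← Finset.mul_sum, Finset.sum_comm]
    congr 1
    have e2 : ∀ c : C, ∑ χ : IrrCharacter G, conj ((β : C → ℂ) c) *
        ((χ : G → ℂ) (Subgroup.inclusion hCG c) * (χ : G → ℂ) 1) =
        if c = 1 then conj ((β : C → ℂ) 1) * (Nat.card G : ℂ) else 0 := by
      intro c
      rw [← Finset.mul_sum]
      have h2 := Helper25.second_orthogonality (G := G) (Subgroup.inclusion hCG c) 1
      rw [inv_one] at h2
      rw [h2]
      by_cases hc : c = 1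
      · subst hc
        rw [if_pos rfl, if_pos (by rw [map_one])]
        congr 2
        have : Subgroup.centralizer ({1} : Set G) = ⊤ := by
          rw [Subgroup.centralizer_eq_top_iff_subset]
          intro x hx
          rw [Set.mem_singleton_iff] at hx
          rw [hx]; exact Subgroup.one_mem _
        rw [this, Subgroup.card_top]
      · rw [if_neg hc, if_neg, mul_zero]
        intro hconj
        apply hc
        have h3 := isConj_one_left.mp hconj
        exact Subgroup.inclusion_injective hCG (by rw [h3, map_one])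
    rw [Finset.sum_congr rfl (fun c _ => e2 c), Finset.sum_ite_eq' Finset.univ (1 : C),
      if_pos (Finset.mem_univ _), Helper25.irr_one_eq_degree β, Complex.conj_natCast, mul_comm]
  letI := gb_actIrr G S hnorm
  obtain ⟨r, hr, h⟩ := gb_orbit_sum p hP
    (fun χ : IrrCharacter G => (mm χ : ℂ) * (χ : G → ℂ) 1)
    (fun s χ => by
      have e1 : ((s • χ : IrrCharacter G) : G → ℂ) 1 = (χ : G → ℂ) 1 := by
        show (χ : G → ℂ) (gb_conjHom G S hnorm s⁻¹ 1) = (χ : G → ℂ) 1
        rw [map_one]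
      have e2 : (mm (s • χ) : ℂ) = (mm χ : ℂ) := by
        rw [← hmm (s • χ), ← hmm χ]
        congr 1
        funext c
        show (χ : G → ℂ) (gb_conjHom G S hnorm s⁻¹ (Subgroup.inclusion hCG c)) =
          (χ : G → ℂ) (Subgroup.inclusion hCG c)
        rw [gb_mem_C_fixed G S hnorm C hC hCG c s⁻¹]
      show (mm (s • χ) : ℂ) * ((s • χ : IrrCharacter G) : G → ℂ) 1 = (mm χ : ℂ) * (χ : G → ℂ) 1
      rw [e1, e2])
    (fun χ => by
      have hk0 : IsIntegral ℤ ((mm χ : ℕ) : ℂ) := by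
        have := isIntegral_algebraMap (R := ℤ) (A := ℂ) (x := ((mm χ : ℕ) : ℤ))
        simpa using this
      exact hk0.mul (Helper25.irr_isIntegral χ 1))
  have hfix : ∃ r' : ℂ, IsIntegral ℤ r' ∧
      ∑ χ ∈ Finset.univ.filter (fun χ : IrrCharacter G => ∀ s : S, s • χ = χ),
        (mm χ : ℂ) * (χ : G → ℂ) 1 = p * r' := by
    refine ⟨∑ χ ∈ Finset.univ.filter (fun χ : IrrCharacter G => ∀ s : S, s • χ = χ),
      ((mm χ / p : ℕ) : ℂ) * (χ : G → ℂ) 1, ?_, ?_⟩
    · apply IsIntegral.sum; intro χ _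
      have hk0 : ∀ q : ℕ, IsIntegral ℤ ((q : ℕ) : ℂ) := fun q => by
        have := isIntegral_algebraMap (R := ℤ) (A := ℂ) (x := (q : ℤ))
        simpa using this
      exact (hk0 _).mul (Helper25.irr_isIntegral χ 1)
    · rw [Finset.mul_sum]; apply Finset.sum_congr rfl; intro χ hχ
      have hinv : ∀ (s : S) (g : G),
          (χ : G → ℂ) (gb_conjHom G S hnorm s g) = (χ : G → ℂ) g := by
        intro s g
        have h1 := (Finset.mem_filter.mp hχ).2 s⁻¹
        have h2 := congrFun (congrArg Subtype.val h1) g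
        have h3 : (χ : G → ℂ) (gb_conjHom G S hnorm s⁻¹⁻¹ g) = (χ : G → ℂ) g := h2
        rw [inv_inv] at h3; exact h3
      obtain ⟨k, hk⟩ := hall χ hinv
      rw [hk, Nat.mul_div_cancel_left k hprime.pos]; push_cast; ring
  obtain ⟨r', hr', h'⟩ := hfix
  rw [h', htot] at h
  have hCint : IsIntegral ℤ (Nat.card C : ℂ) := by
    have := isIntegral_algebraMap (R := ℤ) (A := ℂ) (x := ((Nat.card C : ℕ) : ℤ))
    simpa using this
  have h1 : (((Nat.card G * charDegree (β : C → ℂ) : ℕ) : ℤ) : ℂ) =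
      p * ((Nat.card C : ℂ) * (r' + r)) := by
    push_cast; rw [← Helper25.irr_one_eq_degree β]
    have h5 : (Nat.card G : ℂ) * (β : C → ℂ) 1 =
        (Nat.card C : ℂ) * ((Nat.card C : ℂ)⁻¹ * ((Nat.card G : ℂ) * (β : C → ℂ) 1)) := by
      field_simp
    rw [h5, h]; ring
  have d := gb_int_dvd p hprime.ne_zero _ _ (hCint.mul (hr'.add hr)) h1
  have d' : p ∣ Nat.card G * charDegree (β : C → ℂ) := Int.natCast_dvd_natCast.mp d
  rcases hprime.dvd_mul.mp d' with h | h
  · exact hpG h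
  · exact hpG (h.trans ((Helper25.irr_degree_dvd_card β).trans (Subgroup.card_dvd_of_le hCG)))

end GlaubMain

end Cfsg.Agent.Helper26
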