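import Mathlib
import Cfsg.Agent.Helper26.Glauberman
import Cfsg.Agent.Helper24.Ito
import Cfsg.Agent.Helper1.CharClass
import Cfsg.Agent.Helper25.Landau

/-!
# Counting invariant characters and classes under a solvable coprime action (helper26)

Prefix `gc_`.  The count of `S`-invariant irreducible characters of `G` equals the count of
`S`-invariant classes, for `S` solvable acting coprimely; proved by induction along normal
`p`-sections of `S`, using the `p`-group Glauberman correspondence of `Glauberman.lean`.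
-/

set_option autoImplicit false

namespace Cfsg.Agent.Helper26

open Cfsg

universe u

/-- In a finite solvable group `S` with a proper normal subgroup `T`, there are a `p`-subgroup
`P₀` not contained in `T` and a normal subgroup `Pn = P₀ T`. -/
theorem gc_exists_section {S : Type u} [Group S] [Finite S] (hsolv : Group.IsSolvable S)
    (T : Subgroup S) [hTn : T.Normal] (hT : T ≠ ⊤) :
    ∃ (p : ℕ) (P₀ Pn : Subgroup S), p.Prime ∧ IsPGroup p P₀ ∧ ¬ P₀ ≤ T ∧ Pn.Normal ∧ T ≤ Pn ∧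
      P₀ ≤ Pn ∧ (∀ x ∈ Pn, ∃ y ∈ P₀, ∃ t ∈ T, x = y * t) ∧ p ∣ T.index := by
  classical
  haveI : Nontrivial (S ⧸ T) := QuotientGroup.nontrivial_iff.mpr hT
  have hsolvQ : Group.IsSolvable (S ⧸ T) := inferInstance
  obtain ⟨p, V, hp, hVn, hV1, hVp, -⟩ :=
    Helper24.exists_normal_abelian_pgroup (G := S ⧸ T) hsolvQ
  haveI : Fact p.Prime := ⟨hp⟩
  obtain ⟨Pn, hPndef⟩ : ∃ Pn : Subgroup S, Pn = V.comap (QuotientGroup.mk' T) := ⟨_, rfl⟩
  have hmemPn : ∀ x : S, x ∈ Pn ↔ (QuotientGroup.mk' T) x ∈ V := by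
    intro x; rw [hPndef]; exact Subgroup.mem_comap
  have hPn : Pn.Normal := by rw [hPndef]; exact hVn.comap _
  have hTP : T ≤ Pn := by
    intro t ht
    rw [hmemPn, QuotientGroup.mk'_apply, (QuotientGroup.eq_one_iff t).mpr ht]
    exact V.one_mem
  obtain ⟨Syl⟩ : Nonempty (Sylow p Pn) := inferInstance
  obtain ⟨P₀, hP₀def⟩ : ∃ P₀ : Subgroup S, P₀ = (Syl : Subgroup Pn).map Pn.subtype := ⟨_, rfl⟩
  have hP₀p : IsPGroup p P₀ := by rw [hP₀def]; exact Syl.isPGroup'.map _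
  have hP₀le : P₀ ≤ Pn := by rw [hP₀def]; exact Subgroup.map_subtype_le _
  have hdec : ∀ x ∈ Pn, ∃ y ∈ P₀, ∃ t ∈ T, x = y * t := by
    intro x hx
    let f : Pn →* V := ((QuotientGroup.mk' T).comp Pn.subtype).codRestrict V
      (fun y => (hmemPn y.1).mp y.2)
    have hf : Function.Surjective f := by
      rintro ⟨v, hv⟩
      obtain ⟨s, rfl⟩ := QuotientGroup.mk'_surjective T v
      exact ⟨⟨s, (hmemPn s).mpr hv⟩, Subtype.ext rfl⟩
    have htop : (Syl.mapSurjective hf : Subgroup V) = ⊤ :=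
      ((Syl.mapSurjective hf).is_maximal' (hVp.to_subgroup ⊤) le_top).symm
    rw [Sylow.coe_mapSurjective] at htop
    have hx' : f ⟨x, hx⟩ ∈ (Syl : Subgroup Pn).map f := by rw [htop]; trivial
    obtain ⟨y, hy, hyx⟩ := Subgroup.mem_map.mp hx'
    have h2 : (QuotientGroup.mk' T) (y : S) = (QuotientGroup.mk' T) x :=
      congrArg Subtype.val hyx
    have h3 : (y : S)⁻¹ * x ∈ T := by
      rw [QuotientGroup.mk'_apply, QuotientGroup.mk'_apply] at h2
      exact QuotientGroup.eq.mp h2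
    refine ⟨(y : S), ?_, (y : S)⁻¹ * x, h3, by group⟩
    rw [hP₀def]; exact ⟨y, hy, rfl⟩
  refine ⟨p, P₀, Pn, hp, hP₀p, ?_, hPn, hTP, hP₀le, hdec, ?_⟩
  · intro hle
    have h1 : Pn ≤ T := by
      intro x hx
      obtain ⟨y, hy, t, ht, rfl⟩ := hdec x hx
      exact T.mul_mem (hle hy) ht
    apply hV1
    rw [eq_bot_iff]
    intro v hv
    obtain ⟨s, rfl⟩ := QuotientGroup.mk'_surjective T v
    have hs : s ∈ T := h1 ((hmemPn s).mpr hv)
    rw [Subgroup.mem_bot]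
    exact (QuotientGroup.eq_one_iff s).mpr hs
  · rw [Subgroup.index_eq_card]
    obtain ⟨k, hk⟩ := IsPGroup.iff_card.mp hVp
    have hk0 : k ≠ 0 := by
      rintro rfl
      rw [pow_zero] at hk
      exact hV1 (Subgroup.card_eq_one.mp hk)
    have h1 : p ∣ Nat.card V := by rw [hk]; exact dvd_pow_self p hk0
    exact h1.trans (Subgroup.card_subgroup_dvd_card V)

/-- Ambient version of `gc_exists_section`. -/
theorem gc_exists_p {Γ : Type u} [Group Γ] [Finite Γ] (S T : Subgroup Γ)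
    (hsolv : Group.IsSolvable S) (hTS : T ≤ S) (hTn : ∀ s ∈ S, ∀ t ∈ T, s * t * s⁻¹ ∈ T)
    (hne : ¬ S ≤ T) :
    ∃ (p : ℕ) (P₀ Pn : Subgroup Γ), p.Prime ∧ IsPGroup p P₀ ∧ ¬ P₀ ≤ T ∧
      (∀ s ∈ S, ∀ x ∈ Pn, s * x * s⁻¹ ∈ Pn) ∧ T ≤ Pn ∧ P₀ ≤ Pn ∧ Pn ≤ S ∧
      (∀ x ∈ Pn, ∃ y ∈ P₀, ∃ t ∈ T, x = y * t) ∧ p ∣ T.relIndex S := by
  haveI hTn' : (T.subgroupOf S).Normal := by
    constructor
    intro t ht s
    exact Subgroup.mem_subgroupOf.mpr (hTn s.1 s.2 t.1 (Subgroup.mem_subgroupOf.mp ht))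
  have hT' : T.subgroupOf S ≠ ⊤ := fun h => hne (Subgroup.subgroupOf_eq_top.mp h)
  obtain ⟨p, P₀', Pn', hp, hPp, hnle, hnorm, hTPn, hP₀Pn, hdec, hdvd⟩ :=
    gc_exists_section hsolv (T.subgroupOf S) hT'
  refine ⟨p, P₀'.map S.subtype, Pn'.map S.subtype, hp, hPp.map _, ?_, ?_, ?_,
    Subgroup.map_mono hP₀Pn, Subgroup.map_subtype_le _, ?_, hdvd⟩
  · intro hle
    apply hnle
    intro x hx
    exact Subgroup.mem_subgroupOf.mpr (hle ⟨x, hx, rfl⟩)
  · intro s hs x hx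
    obtain ⟨y, hy, rfl⟩ := Subgroup.mem_map.mp hx
    exact Subgroup.mem_map.mpr ⟨⟨s, hs⟩ * y * ⟨s, hs⟩⁻¹, hnorm.conj_mem y hy ⟨s, hs⟩, rfl⟩
  · intro t ht
    exact Subgroup.mem_map.mpr ⟨⟨t, hTS ht⟩, hTPn (Subgroup.mem_subgroupOf.mpr ht), rfl⟩
  · intro x hx
    obtain ⟨x', hx', rfl⟩ := Subgroup.mem_map.mp hx
    obtain ⟨y, hy, t, ht, rfl⟩ := hdec x' hx'
    exact ⟨y.1, Subgroup.mem_map.mpr ⟨y, hy, rfl⟩, t.1, Subgroup.mem_subgroupOf.mp ht, rfl⟩

/-- `S`-invariance of a function on `G` (statement form). -/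
def gc_InvFun {Γ : Type u} [Group Γ] (G S : Subgroup Γ) (χ : G → ℂ) : Prop :=
  ∀ s ∈ S, ∀ g g' : G, (g' : Γ) = s * g * s⁻¹ → χ g' = χ g

/-- `S`-invariance of a conjugacy class of `G` (statement form). -/
def gc_InvClass {Γ : Type u} [Group Γ] (G S : Subgroup Γ) (K : ConjClasses G) : Prop :=
  ∀ s ∈ S, ∀ g g' : G, (g' : Γ) = s * g * s⁻¹ → ConjClasses.mk g = K → ConjClasses.mk g' = K

/-- A relation that restricts to a bijection between two subsets gives equal cardinalities. -/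
theorem gc_card_of_rel {X Y : Type*} (pX : X → Prop) (pY : Y → Prop) (R : X → Y → Prop)
    (h1 : ∀ x, pX x → ∃ y, pY y ∧ R x y)
    (h2 : ∀ y, pY y → ∃ x, pX x ∧ R x y)
    (h3 : ∀ x y y', pX x → pY y → pY y' → R x y → R x y' → y = y')
    (h4 : ∀ x x' y, pX x → pX x' → pY y → R x y → R x' y → x = x') :
    Nat.card {x // pX x} = Nat.card {y // pY y} := by
  choose f hf using h1
  refine Nat.card_congr (Equiv.ofBijective
    (fun x : {x // pX x} => (⟨f x.1 x.2, (hf x.1 x.2).1⟩ : {y // pY y})) ⟨?_, ?_⟩)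
  · intro x x' h
    have h' : f x.1 x.2 = f x'.1 x'.2 := congrArg Subtype.val h
    apply Subtype.ext
    exact h4 x.1 x'.1 (f x.1 x.2) x.2 x'.2 (hf x.1 x.2).1 (hf x.1 x.2).2
      (h' ▸ (hf x'.1 x'.2).2)
  · intro y
    obtain ⟨x, hx, hR⟩ := h2 y.1 y.2
    refine ⟨⟨x, hx⟩, Subtype.ext ?_⟩
    exact h3 x _ _ hx (hf x hx).1 y.2 (hf x hx).2 hR

section Count

variable {Γ : Type u} [Group Γ] [Finite Γ] (G S P₀ C : Subgroup Γ) (p : ℕ) [Fact p.Prime]
  (hnorm : ∀ s ∈ S, ∀ g ∈ G, s * g * s⁻¹ ∈ G) (hP₀S : P₀ ≤ S) (hP : IsPGroup p P₀)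
  (hpG : ¬ p ∣ Nat.card G) (hC : C = G ⊓ Subgroup.centralizer (P₀ : Set Γ))
  (hnormC : ∀ s ∈ S, ∀ c ∈ C, s * c * s⁻¹ ∈ C)

include hnorm hP₀S hP hpG hC hnormC in
/-- Invariant classes of `G` correspond to invariant classes of the fixed points of a
normal-ish `p`-subgroup. -/
theorem gc_class_count :
    Nat.card {K : ConjClasses G // gc_InvClass G S K} =
      Nat.card {D : ConjClasses C // gc_InvClass C S D} := by
  classical
  have hCG : C ≤ G := by rw [hC]; exact inf_le_left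
  have hnormP : ∀ s ∈ P₀, ∀ g ∈ G, s * g * s⁻¹ ∈ G := fun s hs => hnorm s (hP₀S hs)
  have F1 : ∀ (c : C) (s : P₀), gb_conjHom G P₀ hnormP s (Subgroup.inclusion hCG c) =
      Subgroup.inclusion hCG c := fun c s => gb_mem_C_fixed G P₀ hnormP C hC hCG c s
  have F2 : ∀ g : G, (∀ s : P₀, gb_conjHom G P₀ hnormP s g = g) → (g : Γ) ∈ C := by
    intro g hg; rw [hC]; exact (gb_fixed_iff G P₀ hnormP g).mp hg
  have F3 : ∀ c c' : C, IsConj (Subgroup.inclusion hCG c) (Subgroup.inclusion hCG c') →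
      IsConj c c' := by
    intro c c' h
    obtain ⟨x, hx⟩ := isConj_iff.mp h
    obtain ⟨y, hyfix, hy⟩ := gb_conj_in_C G P₀ hnormP p hP hpG _ _ (F1 c) (F1 c') x hx
    refine isConj_iff.mpr ⟨⟨y, F2 y hyfix⟩, Subtype.ext ?_⟩
    have := congrArg (fun z : G => (z : Γ)) hy
    simpa using this
  symm
  refine gc_card_of_rel (fun D : ConjClasses C => gc_InvClass C S D)
    (fun K : ConjClasses G => gc_InvClass G S K)
    (fun D K => ConjClasses.map (Subgroup.inclusion hCG) D = K) ?_ ?_ ?_ ?_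
  · intro D hD
    refine ⟨_, ?_, rfl⟩
    obtain ⟨c, rfl⟩ := ConjClasses.mk_surjective D
    intro s hs g g' hg' hK
    have hK' : IsConj g (Subgroup.inclusion hCG c) := ConjClasses.mk_eq_mk_iff_isConj.mp hK
    obtain ⟨x, hx⟩ := isConj_iff.mp hK'
    let c' : C := ⟨s * c * s⁻¹, hnormC s hs c c.2⟩
    have hc' : ConjClasses.mk c' = ConjClasses.mk c := hD s hs c c' rfl rfl
    show ConjClasses.mk g' = ConjClasses.map (Subgroup.inclusion hCG) (ConjClasses.mk c)
    rw [← hc']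
    show ConjClasses.mk g' = ConjClasses.mk (Subgroup.inclusion hCG c')
    rw [ConjClasses.mk_eq_mk_iff_isConj]
    refine isConj_iff.mpr ⟨⟨s * x * s⁻¹, hnorm s hs x x.2⟩, Subtype.ext ?_⟩
    have hx' : (x : Γ) * g * (x : Γ)⁻¹ = c := congrArg (fun z : G => (z : Γ)) hx
    show s * x * s⁻¹ * (g' : Γ) * (s * x * s⁻¹)⁻¹ = s * c * s⁻¹
    rw [hg', ← hx']; group
  · intro K hK
    letI : MulAction P₀ {g : G // ConjClasses.mk g = K} :=
      { smul := fun s g => ⟨gb_conjHom G P₀ hnormP s g.1,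
          hK s.1 (hP₀S s.2) g.1 _ (gb_conjHom_coe G P₀ hnormP s g.1) g.2⟩
        one_smul := fun g => Subtype.ext (gb_conjHom_one G P₀ hnormP g.1)
        mul_smul := fun s t g => Subtype.ext (gb_conjHom_mul G P₀ hnormP s t g.1) }
    have hcard : ¬ p ∣ Nat.card {g : G // ConjClasses.mk g = K} := by
      have e : {g : G // ConjClasses.mk g = K} ≃ K.carrier :=
        Equiv.subtypeEquivRight (fun g => ConjClasses.mem_carrier_iff_mk_eq.symm)
      rw [Nat.card_congr e, Nat.card_coe_set_eq]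
      intro h
      exact hpG (h.trans (Helper25.ncard_carrier_dvd K))
    obtain ⟨g₁, hg₁⟩ := hP.nonempty_fixed_point_of_prime_not_dvd_card _ hcard
    have hfix : ∀ s : P₀, gb_conjHom G P₀ hnormP s g₁.1 = g₁.1 :=
      fun s => congrArg Subtype.val (hg₁ s)
    let c₁ : C := ⟨g₁.1, F2 g₁.1 hfix⟩
    have hc₁ : ConjClasses.mk (Subgroup.inclusion hCG c₁) = K := g₁.2
    refine ⟨ConjClasses.mk c₁, ?_, hc₁⟩
    intro s hs d d' hd' hD
    have hD' : IsConj d c₁ := ConjClasses.mk_eq_mk_iff_isConj.mp hD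
    rw [ConjClasses.mk_eq_mk_iff_isConj]
    apply F3
    rw [← ConjClasses.mk_eq_mk_iff_isConj]
    have h1 : ConjClasses.mk (Subgroup.inclusion hCG d) = K := by
      have := (Subgroup.inclusion hCG).map_isConj hD'
      rw [ConjClasses.mk_eq_mk_iff_isConj.mpr this]
      exact hc₁
    have h2 := hK s hs (Subgroup.inclusion hCG d) (Subgroup.inclusion hCG d') hd' h1
    rw [h2]; exact hc₁.symm
  · intro D K K' _ _ _ h h'; exact h.symm.trans h'
  · intro D D' K _ _ _ h h'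
    obtain ⟨c, rfl⟩ := ConjClasses.mk_surjective D
    obtain ⟨c', rfl⟩ := ConjClasses.mk_surjective D'
    have h0 : ConjClasses.mk (Subgroup.inclusion hCG c) =
        ConjClasses.mk (Subgroup.inclusion hCG c') := h.trans h'.symm
    exact ConjClasses.mk_eq_mk_iff_isConj.mpr
      (F3 c c' (ConjClasses.mk_eq_mk_iff_isConj.mp h0))

include hnorm hP₀S hP hpG hC hnormC in
/-- Invariant irreducible characters of `G` correspond to invariant irreducible characters of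
the fixed points of a `p`-subgroup `P₀` with `P₀ T` normalized by `S`. -/
theorem gc_char_count (T : Subgroup Γ) (hTc : ∀ t ∈ T, ∀ g ∈ G, t * g = g * t)
    (hdec : ∀ s ∈ S, ∀ x ∈ P₀, ∃ y ∈ P₀, ∃ t ∈ T, s * x * s⁻¹ = y * t) :
    Nat.card {χ : IrrCharacter G // gc_InvFun G S (χ : G → ℂ)} =
      Nat.card {β : IrrCharacter C // gc_InvFun C S (β : C → ℂ)} := by
  classical
  letI : Fintype G := Fintype.ofFinite G
  letI : Fintype C := Fintype.ofFinite C
  have hCG : C ≤ G := by rw [hC]; exact inf_le_left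
  have hnormP : ∀ s ∈ P₀, ∀ g ∈ G, s * g * s⁻¹ ∈ G := fun s hs => hnorm s (hP₀S hs)
  letI aG := gb_actIrr G S hnorm
  letI aC := gb_actIrr C S hnormC
  let R : IrrCharacter G → IrrCharacter C → Prop := fun χ β =>
    ∃ m : ℕ, classInner (fun c : C => (χ : G → ℂ) (Subgroup.inclusion hCG c)) (β : C → ℂ) = m ∧
      ¬ p ∣ m
  have toP : ∀ χ : IrrCharacter G, gc_InvFun G S (χ : G → ℂ) →
      ∀ (x : P₀) (g : G), (χ : G → ℂ) (gb_conjHom G P₀ hnormP x g) = (χ : G → ℂ) g :=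
    fun χ h x g => h x.1 (hP₀S x.2) g _ (gb_conjHom_coe G P₀ hnormP x g)
  have invG : ∀ χ : IrrCharacter G, gc_InvFun G S (χ : G → ℂ) ↔ ∀ s : S, s • χ = χ := by
    intro χ
    constructor
    · intro h s
      apply Subtype.ext; funext g
      show (χ : G → ℂ) (gb_conjHom G S hnorm s⁻¹ g) = (χ : G → ℂ) g
      exact h (s⁻¹ : S).1 (s⁻¹ : S).2 g _ (gb_conjHom_coe G S hnorm s⁻¹ g)
    · intro h s hs g g' hg'
      have h1 := congrFun (congrArg Subtype.val (h (⟨s, hs⟩ : S)⁻¹)) g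
      have h2 : ((⟨s, hs⟩ : S)⁻¹ • χ : IrrCharacter G).1 g =
          (χ : G → ℂ) (gb_conjHom G S hnorm (⟨s, hs⟩ : S)⁻¹⁻¹ g) := rfl
      rw [h2, inv_inv] at h1
      have h3 : g' = gb_conjHom G S hnorm ⟨s, hs⟩ g :=
        Subtype.ext (by rw [hg', gb_conjHom_coe])
      rw [h3]; exact h1
  have invC : ∀ β : IrrCharacter C, gc_InvFun C S (β : C → ℂ) ↔ ∀ s : S, s • β = β := by
    intro β
    constructor
    · intro h s
      apply Subtype.ext; funext g
      show (β : C → ℂ) (gb_conjHom C S hnormC s⁻¹ g) = (β : C → ℂ) g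
      exact h (s⁻¹ : S).1 (s⁻¹ : S).2 g _ (gb_conjHom_coe C S hnormC s⁻¹ g)
    · intro h s hs g g' hg'
      have h1 := congrFun (congrArg Subtype.val (h (⟨s, hs⟩ : S)⁻¹)) g
      have h2 : ((⟨s, hs⟩ : S)⁻¹ • β : IrrCharacter C).1 g =
          (β : C → ℂ) (gb_conjHom C S hnormC (⟨s, hs⟩ : S)⁻¹⁻¹ g) := rfl
      rw [h2, inv_inv] at h1
      have h3 : g' = gb_conjHom C S hnormC ⟨s, hs⟩ g :=
        Subtype.ext (by rw [hg', gb_conjHom_coe])
      rw [h3]; exact h1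
  have hequiv : ∀ (s : S) (χ : IrrCharacter G) (β : IrrCharacter C), R χ β →
      R (s • χ) (s • β) := by
    rintro s χ β ⟨m, hm, hpm⟩
    refine ⟨m, ?_, hpm⟩
    rw [← hm]
    unfold classInner
    congr 1
    let σ : C ≃ C :=
      { toFun := fun c => gb_conjHom C S hnormC s⁻¹ c
        invFun := fun c => gb_conjHom C S hnormC s c
        left_inv := fun c => gb_conjHom_inv_right C S hnormC s c
        right_inv := fun c => gb_conjHom_inv_left C S hnormC s c }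
    rw [← Equiv.sum_comp σ (fun c : C => (χ : G → ℂ) (Subgroup.inclusion hCG c) *
      (starRingEnd ℂ) ((β : C → ℂ) c))]
    apply Finset.sum_congr rfl; intro c _
    rfl
  have hPinv : ∀ (s : S) (χ : IrrCharacter G),
      (∀ (x : P₀) (g : G), (χ : G → ℂ) (gb_conjHom G P₀ hnormP x g) = (χ : G → ℂ) g) →
      ∀ (x : P₀) (g : G), ((s • χ : IrrCharacter G) : G → ℂ) (gb_conjHom G P₀ hnormP x g) =
        ((s • χ : IrrCharacter G) : G → ℂ) g := by
    intro s χ h x g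
    show (χ : G → ℂ) (gb_conjHom G S hnorm s⁻¹ (gb_conjHom G P₀ hnormP x g)) =
      (χ : G → ℂ) (gb_conjHom G S hnorm s⁻¹ g)
    obtain ⟨y, hy, t, ht, hyt⟩ := hdec (s⁻¹ : S).1 (s⁻¹ : S).2 x.1 x.2
    have key : gb_conjHom G S hnorm s⁻¹ (gb_conjHom G P₀ hnormP x g) =
        gb_conjHom G P₀ hnormP ⟨y, hy⟩ (gb_conjHom G S hnorm s⁻¹ g) := by
      apply Subtype.ext
      have htc := hTc t ht _ (gb_conjHom G S hnorm s⁻¹ g).2
      rw [gb_conjHom_coe] at htc
      rw [gb_conjHom_coe, gb_conjHom_coe, gb_conjHom_coe, gb_conjHom_coe]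
      calc ((s⁻¹ : S) : Γ) * (x * g * (x : Γ)⁻¹) * ((s⁻¹ : S) : Γ)⁻¹
          = (((s⁻¹ : S) : Γ) * x * ((s⁻¹ : S) : Γ)⁻¹) *
              (((s⁻¹ : S) : Γ) * g * ((s⁻¹ : S) : Γ)⁻¹) *
              (((s⁻¹ : S) : Γ) * x * ((s⁻¹ : S) : Γ)⁻¹)⁻¹ := by group
        _ = y * (t * (((s⁻¹ : S) : Γ) * g * ((s⁻¹ : S) : Γ)⁻¹)) * t⁻¹ * y⁻¹ := by
            rw [hyt]; group
        _ = y * (((s⁻¹ : S) : Γ) * g * ((s⁻¹ : S) : Γ)⁻¹) * y⁻¹ := by rw [htc]; group
    rw [key, h]
  refine gc_card_of_rel (fun χ : IrrCharacter G => gc_InvFun G S (χ : G → ℂ))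
    (fun β : IrrCharacter C => gc_InvFun C S (β : C → ℂ)) R ?_ ?_ ?_ ?_
  · intro χ hχ
    obtain ⟨β, hβ, huniq⟩ := gb_main_unique G P₀ hnormP C hC hCG p hP hpG χ (toP χ hχ)
    refine ⟨β, ?_, hβ⟩
    rw [invC]
    intro s
    have h1 := hequiv s χ β hβ
    rw [(invG χ).mp hχ s] at h1
    exact huniq _ h1
  · intro β hβ
    obtain ⟨χ, hχ, hR⟩ := gb_main_surj G P₀ hnormP C hC hCG p hP hpG β
    refine ⟨χ, ?_, hR⟩
    rw [invG]
    intro s
    have h1 := hequiv s χ β hR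
    rw [(invC β).mp hβ s] at h1
    obtain ⟨m, hm, hpm⟩ := hR
    obtain ⟨m', hm', hpm'⟩ := h1
    exact gb_main_inj G P₀ hnormP C hC hCG p hP hpG (s • χ) χ (hPinv s χ hχ) hχ β m' m
      hm' hpm' hm hpm
  · intro χ β β' hχ _ _ hR hR'
    obtain ⟨β₀, _, huniq⟩ := gb_main_unique G P₀ hnormP C hC hCG p hP hpG χ (toP χ hχ)
    rw [huniq β hR, huniq β' hR']
  · rintro χ χ' β hχ hχ' _ ⟨m, hm, hpm⟩ ⟨m', hm', hpm'⟩
    exact gb_main_inj G P₀ hnormP C hC hCG p hP hpG χ χ' (toP χ hχ) (toP χ' hχ') β m m'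
      hm hpm hm' hpm'

end Count

theorem gc_relIndex_ne_zero {Γ : Type u} [Group Γ] [Finite Γ] (A B : Subgroup Γ) :
    A.relIndex B ≠ 0 :=
  Subgroup.index_ne_zero_of_finite (H := A.subgroupOf B)

/-- The main count, generalized for induction: `T ≤ S` is normalized by `S` and centralizes
`G`, and `|S : T|` is coprime to `|G|`. -/
theorem gc_count {Γ : Type u} [Group Γ] [Finite Γ] (S : Subgroup Γ)
    (hsolv : Group.IsSolvable S) :
    ∀ (n : ℕ) (G T : Subgroup Γ), T ≤ S → (∀ s ∈ S, ∀ t ∈ T, s * t * s⁻¹ ∈ T) →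
      (∀ t ∈ T, ∀ g ∈ G, t * g = g * t) → (∀ s ∈ S, ∀ g ∈ G, s * g * s⁻¹ ∈ G) →
      (Nat.card G).Coprime (T.relIndex S) → T.relIndex S ≤ n →
      Nat.card {χ : IrrCharacter G // gc_InvFun G S (χ : G → ℂ)} =
        Nat.card {K : ConjClasses G // gc_InvClass G S K} := by
  intro n
  induction n with
  | zero =>
    intro G T hTS hTn hTc hnorm hcop hle
    exfalso
    have : T.relIndex S ≠ 0 := gc_relIndex_ne_zero T S
    omega
  | succ n ih =>
    intro G T hTS hTn hTc hnorm hcop hle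
    by_cases hST : S ≤ T
    · have h1 : ∀ χ : IrrCharacter G, gc_InvFun G S (χ : G → ℂ) := by
        intro χ s hs g g' hg'
        have hg : g' = g := by
          apply Subtype.ext
          rw [hg', hTc s (hST hs) g g.2]; group
        rw [hg]
      have h2 : ∀ K : ConjClasses G, gc_InvClass G S K := by
        intro K s hs g g' hg' hK
        have hg : g' = g := by
          apply Subtype.ext
          rw [hg', hTc s (hST hs) g g.2]; group
        rw [hg]; exact hK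
      letI : Fintype G := Fintype.ofFinite G
      rw [Nat.card_congr (Equiv.subtypeUnivEquiv h1), Nat.card_congr (Equiv.subtypeUnivEquiv h2)]
      exact Helper1.card_irr
    · obtain ⟨p, P₀, Pn, hp, hPp, hnle, hPnn, hTPn, hP₀Pn, hPnS, hdec, hdvd⟩ :=
        gc_exists_p S T hsolv hTS hTn hST
      haveI : Fact p.Prime := ⟨hp⟩
      have hpG : ¬ p ∣ Nat.card G := by
        intro h
        have h1 : p ∣ Nat.gcd (Nat.card G) (T.relIndex S) := Nat.dvd_gcd h hdvd
        rw [Nat.Coprime.gcd_eq_one hcop] at h1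
        exact hp.one_lt.ne' (Nat.dvd_one.mp h1)
      obtain ⟨C, hC⟩ : ∃ C : Subgroup Γ, C = G ⊓ Subgroup.centralizer (P₀ : Set Γ) := ⟨_, rfl⟩
      have hCG : C ≤ G := by rw [hC]; exact inf_le_left
      have hCcent : ∀ c ∈ C, ∀ y ∈ P₀, y * c = c * y := by
        intro c hc y hy
        rw [hC] at hc
        exact (Subgroup.mem_centralizer_iff.mp (Subgroup.mem_inf.mp hc).2 y hy)
      have hPc : ∀ x ∈ Pn, ∀ c ∈ C, x * c = c * x := by
        intro x hx c hc
        obtain ⟨y, hy, t, ht, rfl⟩ := hdec x hx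
        have h1 := hTc t ht c (hCG hc)
        have h2 := hCcent c hc y hy
        calc y * t * c = y * (t * c) := by group
          _ = y * (c * t) := by rw [h1]
          _ = (y * c) * t := by group
          _ = (c * y) * t := by rw [h2]
          _ = c * (y * t) := by group
      have hnormC : ∀ s ∈ S, ∀ c ∈ C, s * c * s⁻¹ ∈ C := by
        intro s hs c hc
        rw [hC]
        refine Subgroup.mem_inf.mpr ⟨hnorm s hs c (hCG hc), ?_⟩
        rw [Subgroup.mem_centralizer_iff]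
        intro x hx
        have h1 : s⁻¹ * x * s⁻¹⁻¹ ∈ Pn := hPnn s⁻¹ (S.inv_mem hs) x (hP₀Pn hx)
        have h2 := hPc _ h1 c hc
        calc x * (s * c * s⁻¹) = s * ((s⁻¹ * x * s⁻¹⁻¹) * c) * s⁻¹ := by group
          _ = s * (c * (s⁻¹ * x * s⁻¹⁻¹)) * s⁻¹ := by rw [h2]
          _ = s * c * s⁻¹ * x := by group
      have hdec' : ∀ s ∈ S, ∀ x ∈ P₀, ∃ y ∈ P₀, ∃ t ∈ T, s * x * s⁻¹ = y * t :=
        fun s hs x hx => hdec _ (hPnn s hs x (hP₀Pn hx))
      have hP₀S : P₀ ≤ S := hP₀Pn.trans hPnS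
      have hcop' : (Nat.card C).Coprime (Pn.relIndex S) :=
        Nat.Coprime.coprime_dvd_left (Subgroup.card_dvd_of_le hCG)
          (Nat.Coprime.coprime_dvd_right (Subgroup.relIndex_dvd_of_le_left S hTPn) hcop)
      have hlt : Pn.relIndex S < T.relIndex S := by
        rw [← Subgroup.relIndex_mul_relIndex T Pn S hTPn hPnS]
        have h1 : T.relIndex Pn ≠ 1 := by
          intro h
          exact hnle (hP₀Pn.trans (Subgroup.relIndex_eq_one.mp h))
        have h0 : T.relIndex Pn ≠ 0 := gc_relIndex_ne_zero T Pn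
        have h2 : Pn.relIndex S ≠ 0 := gc_relIndex_ne_zero Pn S
        calc Pn.relIndex S = 1 * Pn.relIndex S := (one_mul _).symm
          _ < T.relIndex Pn * Pn.relIndex S :=
            Nat.mul_lt_mul_of_pos_right (by omega) (Nat.pos_of_ne_zero h2)
      have IH := ih C Pn hPnS hPnn hPc hnormC hcop' (by omega)
      rw [gc_char_count G S P₀ C p hnorm hP₀S hPp hpG hC hnormC T hTc hdec',
        gc_class_count G S P₀ C p hnorm hP₀S hPp hpG hC hnormC]
      exact IH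

/-- Coprime solvable action: the number of invariant irreducible characters equals the number
of invariant classes. -/
theorem gc_main {Γ : Type u} [Group Γ] [Finite Γ] (G S : Subgroup Γ)
    (hnorm : ∀ s ∈ S, ∀ g ∈ G, s * g * s⁻¹ ∈ G) (hcop : (Nat.card G).Coprime (Nat.card S))
    (hsolv : Group.IsSolvable S) :
    Nat.card {χ : IrrCharacter G // gc_InvFun G S (χ : G → ℂ)} =
      Nat.card {K : ConjClasses G // gc_InvClass G S K} := by
  refine gc_count S hsolv (Nat.card S) G ⊥ bot_le ?_ ?_ hnorm ?_ ?_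
  · intro s _ t ht
    rw [Subgroup.mem_bot] at ht ⊢
    rw [ht]; group
  · intro t ht g _
    rw [Subgroup.mem_bot] at ht
    rw [ht]; simp
  · rw [Subgroup.relIndex_bot_left]; exact hcop
  · rw [Subgroup.relIndex_bot_left]

end Cfsg.Agent.Helper26
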