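import Mathlib
import Cfsg.Agent.Helper26.GlaubCount
import Cfsg.Agent.Helper7.DetChar
import Cfsg.Agent.Helper2.PRestrict
import Cfsg.Agent.S0866

/-!
# Characters of a group with a normal Hall subgroup and a solvable complement (helper26)

Prefix `gx_`.  For `X = A ⋊ B` with `A` normal, `(|A|, |B|) = 1` and `B` solvable:
the irreducible characters of `X` of degree prime to `|B|` are exactly the extensions of the
`X`-invariant irreducible characters of `A`, and each such character has exactly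
`|Hom(B, ℂˣ)|` extensions.
-/

set_option autoImplicit false

namespace Cfsg.Agent.Helper26

open Cfsg

universe u

section Retr

variable {X : Type u} [Group X] (A B : Subgroup X) [hA : A.Normal]

/-- A normal subgroup with a complement: the retraction onto the complement. -/
theorem gx_exists_retr (hsup : A ⊔ B = ⊤) (hinf : A ⊓ B = ⊥) :
    ∃ r : X →* B, (∀ b : B, r (b : X) = b) ∧ (∀ a ∈ A, r a = 1) ∧
      (∀ x : X, x * ((r x : B) : X)⁻¹ ∈ A) ∧
      Function.Bijective ((QuotientGroup.mk' A).comp B.subtype) := by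
  obtain ⟨φ, hφ⟩ : ∃ φ : B →* X ⧸ A, φ = (QuotientGroup.mk' A).comp B.subtype := ⟨_, rfl⟩
  have hφa : ∀ b : B, φ b = ((b : X) : X ⧸ A) := fun b => by rw [hφ]; rfl
  have hinj : Function.Injective φ := by
    rw [injective_iff_map_eq_one]
    intro b hb
    rw [hφa] at hb
    have hbA : (b : X) ∈ A := (QuotientGroup.eq_one_iff (b : X)).mp hb
    have : (b : X) ∈ A ⊓ B := Subgroup.mem_inf.mpr ⟨hbA, b.2⟩
    rw [hinf, Subgroup.mem_bot] at this
    exact Subtype.ext this
  have hdec : ∀ x : X, ∃ a ∈ A, ∃ b ∈ B, a * b = x := by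
    intro x
    have hx : x ∈ ((A ⊔ B : Subgroup X) : Set X) := by rw [hsup]; trivial
    rw [Subgroup.normal_mul] at hx
    obtain ⟨a, ha, b, hb, hab⟩ := Set.mem_mul.mp hx
    exact ⟨a, ha, b, hb, hab⟩
  have hsurj : Function.Surjective φ := by
    intro q
    obtain ⟨x, rfl⟩ := QuotientGroup.mk'_surjective A q
    obtain ⟨a, ha, b, hb, rfl⟩ := hdec x
    refine ⟨⟨b, hb⟩, ?_⟩
    rw [hφa]
    show ((b : X) : X ⧸ A) = ((a * b : X) : X ⧸ A)
    rw [QuotientGroup.mk_mul, (QuotientGroup.eq_one_iff a).mpr ha, one_mul]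
  obtain ⟨e, he⟩ : ∃ e : B ≃* X ⧸ A, ∀ b : B, e b = φ b :=
    ⟨MulEquiv.ofBijective φ ⟨hinj, hsurj⟩, fun _ => rfl⟩
  obtain ⟨r, hr⟩ : ∃ r : X →* B, ∀ x : X, r x = e.symm ((x : X) : X ⧸ A) :=
    ⟨e.symm.toMonoidHom.comp (QuotientGroup.mk' A), fun _ => rfl⟩
  have hrφ : ∀ x : X, (((r x : B) : X) : X ⧸ A) = (x : X ⧸ A) := by
    intro x
    rw [← hφa, ← he, hr, e.apply_symm_apply]
  refine ⟨r, ?_, ?_, ?_, ?_⟩
  · intro b
    rw [hr, ← hφa, ← he, e.symm_apply_apply]
  · intro a ha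
    rw [hr, (QuotientGroup.eq_one_iff a).mpr ha, map_one]
  · intro x
    apply (QuotientGroup.eq_one_iff _).mp
    rw [QuotientGroup.mk_mul, QuotientGroup.mk_inv, hrφ, mul_inv_cancel]
  · rw [← hφ]; exact ⟨hinj, hsurj⟩

end Retr

section Ext

variable {X : Type u} [Group X] [Finite X] (A B : Subgroup X) [hA : A.Normal]

theorem gx_index_eq (hsup : A ⊔ B = ⊤) (hcop : (Nat.card A).Coprime (Nat.card B)) :
    A.index = Nat.card B := by
  obtain ⟨r, -, -, -, hbij⟩ := gx_exists_retr A B hsup (Subgroup.inf_eq_bot_of_coprime hcop)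
  rw [Subgroup.index_eq_card]
  exact (Nat.card_eq_of_bijective _ hbij).symm

/-- An invariant irreducible character of a normal Hall subgroup with a complement extends. -/
theorem gx_exists_ext (hsup : A ⊔ B = ⊤) (hcop : (Nat.card A).Coprime (Nat.card B))
    (θ : IrrCharacter A)
    (hinv : ∀ (x : X) (a : A), (θ : A → ℂ) ⟨x * a * x⁻¹, hA.conj_mem a a.2 x⟩ = (θ : A → ℂ) a) :
    ∃ χ : IrrCharacter X, ∀ a : A, (χ : X → ℂ) a = (θ : A → ℂ) a := by
  classical
  have hinf := Subgroup.inf_eq_bot_of_coprime hcop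
  obtain ⟨r, hrB, hrA, hrmem, -⟩ := gx_exists_retr A B hsup hinf
  have hd := Helper25.irr_one_eq_degree θ
  have hcop' : Nat.Coprime A.index (charDegree (θ : A → ℂ)) := by
    rw [gx_index_eq A B hsup hcop]
    exact (Nat.Coprime.coprime_dvd_left (Helper25.irr_degree_dvd_card θ) hcop).symm
  have hcrit := Cfsg.Agent.S0866.result A (θ : A → ℂ) θ.2 hinv (charDegree (θ : A → ℂ)) hd hcop'
  obtain ⟨δ, hδ⟩ := Helper7.exists_hom_detChar (θ : A → ℂ)
    (Helper2.isCharacter_of_isIrrCharacter θ.2)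
  have hδinv : ∀ (x : X) (a : A), δ ⟨x * a * x⁻¹, hA.conj_mem a a.2 x⟩ = δ a := by
    intro x a
    have h1 := Helper7.detChar_comp (MulAut.conjNormal x : A ≃* A).toMonoidHom (θ : A → ℂ)
      (Helper2.isCharacter_of_isIrrCharacter θ.2)
    have h2 : (fun h : A => (θ : A → ℂ) ((MulAut.conjNormal x : A ≃* A).toMonoidHom h)) =
        (θ : A → ℂ) := by
      funext a'; exact hinv x a'
    rw [h2] at h1
    have h3 := congrFun h1 a
    rw [hδ] at h3
    apply Units.ext
    exact h3.symm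
  obtain ⟨μ, hμ⟩ : ∃ μ : X →* ℂˣ, ∀ x : X, μ x = δ ⟨x * ((r x : B) : X)⁻¹, hrmem x⟩ := by
    refine ⟨MonoidHom.mk' (fun x => δ ⟨x * ((r x : B) : X)⁻¹, hrmem x⟩) ?_, fun _ => rfl⟩
    intro x y
    have e : (⟨x * y * ((r (x * y) : B) : X)⁻¹, hrmem (x * y)⟩ : A) =
        ⟨x * ((⟨y * ((r y : B) : X)⁻¹, hrmem y⟩ : A) : X) * x⁻¹,
          hA.conj_mem _ (hrmem y) x⟩ * ⟨x * ((r x : B) : X)⁻¹, hrmem x⟩ := by
      apply Subtype.ext
      show x * y * ((r (x * y) : B) : X)⁻¹ =
        x * (y * ((r y : B) : X)⁻¹) * x⁻¹ * (x * ((r x : B) : X)⁻¹)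
      rw [map_mul, Subgroup.coe_mul]; group
    show δ _ = δ _ * δ _
    rw [e, map_mul, hδinv, mul_comm]
  have hμA : ∀ a : A, μ (a : X) = δ a := by
    intro a
    rw [hμ]
    congr 1
    apply Subtype.ext
    show (a : X) * ((r (a : X) : B) : X)⁻¹ = a
    rw [hrA a a.2]; simp
  obtain ⟨χ, hχ, hχA⟩ := hcrit.mpr ⟨fun x => ((μ x : ℂˣ) : ℂ), Helper7.isCharacter_of_hom μ,
    by simp, fun a => by
      show ((μ (a : X) : ℂˣ) : ℂ) = detChar (θ : A → ℂ) a
      rw [hμA a, hδ]⟩
  exact ⟨⟨χ, hχ⟩, hχA⟩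

end Ext

/-- A proper normal subgroup with solvable quotient lies in a normal subgroup of prime index. -/
theorem gx_exists_prime_index {X : Type u} [Group X] [Finite X] (A : Subgroup X) [A.Normal]
    (hsolv : Group.IsSolvable (X ⧸ A)) (hA : A ≠ ⊤) :
    ∃ M : Subgroup X, M.Normal ∧ A ≤ M ∧ (M.index).Prime := by
  classical
  obtain ⟨M₀, hM₀n, hAM₀, hM₀top, g, hg⟩ := Helper7.exists_normal_cyclic_quotient A hsolv hA
  haveI := hM₀n
  haveI hcyc : IsCyclic (X ⧸ M₀) := Helper7.isCyclic_quotient_of_gen M₀ g hg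
  obtain ⟨t, ht⟩ := IsCyclic.exists_generator (α := X ⧸ M₀)
  have hord : orderOf t = Nat.card (X ⧸ M₀) := orderOf_eq_card_of_forall_mem_zpowers ht
  have hc1 : Nat.card (X ⧸ M₀) ≠ 1 := by
    intro h
    apply hM₀top
    rw [← Subgroup.index_eq_one, Subgroup.index_eq_card]; exact h
  obtain ⟨q, hq, hqc⟩ := Nat.exists_prime_and_dvd hc1
  obtain ⟨R, hR⟩ : ∃ R : Subgroup (X ⧸ M₀), R = Subgroup.zpowers (t ^ q) := ⟨_, rfl⟩
  have hRcard : Nat.card R = Nat.card (X ⧸ M₀) / q := by
    rw [hR, Nat.card_zpowers, orderOf_pow_of_dvd hq.ne_zero (hord ▸ hqc), hord]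
  have hRidx : R.index = q := by
    have h1 := Subgroup.card_mul_index R
    rw [hRcard] at h1
    obtain ⟨c, hc⟩ := hqc
    rw [hc, Nat.mul_div_cancel_left c hq.pos] at h1
    have hc0 : 0 < c := by
      rcases Nat.eq_zero_or_pos c with h0 | h0
      · rw [h0, mul_zero] at hc; exact absurd hc Nat.card_pos.ne'
      · exact h0
    exact Nat.eq_of_mul_eq_mul_left hc0 (by rw [h1, mul_comm])
  haveI : R.Normal := Subgroup.normal_of_isMulCommutative R
  refine ⟨R.comap (QuotientGroup.mk' M₀), inferInstance, ?_, ?_⟩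
  · intro a ha
    show QuotientGroup.mk' M₀ a ∈ R
    rw [QuotientGroup.mk'_apply, (QuotientGroup.eq_one_iff a).mpr (hAM₀ ha)]
    exact R.one_mem
  · rw [Subgroup.index_comap_of_surjective R (QuotientGroup.mk'_surjective M₀), hRidx]; exact hq

theorem gx_charDegree_restrict {X : Type u} [Group X] (M : Subgroup X) (χ : X → ℂ) :
    charDegree (fun m : M => χ m) = charDegree χ := by
  unfold charDegree
  show ⌊(χ ((1 : M) : X)).re⌋₊ = ⌊(χ 1).re⌋₊
  rw [OneMemClass.coe_one]

/-- Restriction to a normal subgroup with solvable quotient of an irreducible character whose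
degree is prime to the index stays irreducible (induction on the index). -/
theorem gx_restrict_irr_aux (n : ℕ) : ∀ (X : Type u) [Group X] [Finite X] (A : Subgroup X)
    [A.Normal], Group.IsSolvable (X ⧸ A) → A.index ≤ n → ∀ χ : IrrCharacter X,
    (charDegree (χ : X → ℂ)).Coprime A.index →
    IsIrrCharacter A (fun a : A => (χ : X → ℂ) a) := by
  induction n with
  | zero =>
    intro X _ _ A _ _ hidx χ _
    exact absurd (Nat.le_zero.mp hidx) Subgroup.index_ne_zero_of_finite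
  | succ n ih =>
    intro X _ _ A _ hsolv hidx χ hcop
    by_cases hA : A = ⊤
    · have hsurj : Function.Surjective A.subtype := by
        intro x; exact ⟨⟨x, by rw [hA]; trivial⟩, rfl⟩
      exact Helper2.isIrrCharacter_comp_of_surjective A.subtype hsurj χ.2
    · obtain ⟨M, hMn, hAM, hMp⟩ := gx_exists_prime_index A hsolv hA
      haveI := hMn
      haveI : Fact (M.index).Prime := ⟨hMp⟩
      have hdvd : M.index ∣ A.index := Subgroup.index_dvd_of_le hAM
      have hdeg : ¬ M.index ∣ charDegree (χ : X → ℂ) := by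
        intro h
        have h1 : M.index ∣ Nat.gcd (charDegree (χ : X → ℂ)) A.index := Nat.dvd_gcd h hdvd
        rw [Nat.Coprime.gcd_eq_one hcop] at h1
        exact hMp.one_lt.ne' (Nat.dvd_one.mp h1)
      have hirrM := Helper2.irr_restrict_of_prime_index M.index M rfl χ hdeg
      have hrel : A.relIndex M * M.index = A.index := Subgroup.relIndex_mul_index hAM
      have hidx' : (A.subgroupOf M).index ≤ n := by
        show A.relIndex M ≤ n
        have h2 : 2 ≤ M.index := hMp.two_le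
        have hpos : 0 < A.relIndex M := by
          rcases Nat.eq_zero_or_pos (A.relIndex M) with h0 | h0
          · rw [h0, zero_mul] at hrel
            exact absurd hrel.symm Subgroup.index_ne_zero_of_finite
          · exact h0
        nlinarith
      have hsolvM : Group.IsSolvable (M ⧸ A.subgroupOf M) := by
        obtain ⟨f, hf⟩ : ∃ f : M ⧸ A.subgroupOf M →* X ⧸ A,
            ∀ m : M, f (m : M ⧸ A.subgroupOf M) = ((m : X) : X ⧸ A) :=
          ⟨QuotientGroup.map (A.subgroupOf M) A M.subtype (fun _ h => h), fun _ => rfl⟩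
        apply Group.isSolvable_of_isSolvable_injective (f := f)
        rw [injective_iff_map_eq_one]
        intro q hq
        induction q using QuotientGroup.induction_on with
        | H m =>
          rw [hf] at hq
          have hm : (m : X) ∈ A := (QuotientGroup.eq_one_iff _).mp hq
          exact (QuotientGroup.eq_one_iff m).mpr (Subgroup.mem_subgroupOf.mpr hm)
      have hcopM : (charDegree ((⟨_, hirrM⟩ : IrrCharacter M) : M → ℂ)).Coprime
          (A.subgroupOf M).index := by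
        show (charDegree (fun m : M => (χ : X → ℂ) m)).Coprime (A.relIndex M)
        rw [gx_charDegree_restrict]
        exact Nat.Coprime.coprime_dvd_right (Dvd.intro _ hrel) hcop
      have h3 := ih M (A.subgroupOf M) hsolvM hidx' ⟨_, hirrM⟩ hcopM
      have h4 := Helper2.isIrrCharacter_comp_of_surjective
        (Subgroup.subgroupOfEquivOfLe hAM).symm.toMonoidHom
        (Subgroup.subgroupOfEquivOfLe hAM).symm.surjective h3
      convert h4 using 1
      funext a
      rfl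

theorem gx_restrict_irr {X : Type u} [Group X] [Finite X] (A : Subgroup X)
    [A.Normal] (hsolv : Group.IsSolvable (X ⧸ A)) (χ : IrrCharacter X)
    (hcop : (charDegree (χ : X → ℂ)).Coprime A.index) :
    IsIrrCharacter A (fun a : A => (χ : X → ℂ) a) :=
  gx_restrict_irr_aux A.index X A hsolv le_rfl χ hcop

theorem gx_charDegree_of_one {X : Type u} [Group X] (χ : X → ℂ) (d : ℕ) (h : χ 1 = d) :
    charDegree χ = d := by
  unfold charDegree
  rw [h, Complex.natCast_re, Nat.floor_natCast]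

section Count

variable {X : Type u} [Group X] [Finite X] (A B : Subgroup X) [hA : A.Normal]

/-- Counting the irreducible characters of degree prime to `|B|` of `X = A ⋊ B`
(`A` a normal Hall subgroup, `B` solvable). -/
theorem gx_count (hsup : A ⊔ B = ⊤) (hcop : (Nat.card A).Coprime (Nat.card B))
    (hsolv : Group.IsSolvable B) :
    Nat.card {χ : IrrCharacter X // (charDegree (χ : X → ℂ)).Coprime (Nat.card B)} =
      Nat.card {θ : IrrCharacter A // ∀ (x : X) (a : A),
        (θ : A → ℂ) ⟨x * a * x⁻¹, hA.conj_mem a a.2 x⟩ = (θ : A → ℂ) a} *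
        Nat.card (B →* ℂˣ) := by
  classical
  have hinf := Subgroup.inf_eq_bot_of_coprime hcop
  obtain ⟨r, hrB, hrA, hrmem, hbij⟩ := gx_exists_retr A B hsup hinf
  have hidx := gx_index_eq A B hsup hcop
  haveI := hsolv
  have hsolvQ : Group.IsSolvable (X ⧸ A) := Group.isSolvable_of_surjective hbij.2
  have hext : ∀ θ : {θ : IrrCharacter A // ∀ (x : X) (a : A),
      (θ : A → ℂ) ⟨x * a * x⁻¹, hA.conj_mem a a.2 x⟩ = (θ : A → ℂ) a},
      ∃ χ : IrrCharacter X, ∀ a : A, (χ : X → ℂ) a = (θ.1 : A → ℂ) a :=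
    fun θ => gx_exists_ext A B hsup hcop θ.1 θ.2
  choose E hE using hext
  have hdcop : ∀ θ : IrrCharacter A, (charDegree (θ : A → ℂ)).Coprime (Nat.card B) :=
    fun θ => Nat.Coprime.coprime_dvd_left (Helper25.irr_degree_dvd_card θ) hcop
  have hE1 : ∀ θ, (E θ : X → ℂ) 1 = (charDegree (θ.1 : A → ℂ) : ℂ) := by
    intro θ
    rw [← Helper25.irr_one_eq_degree θ.1, ← hE θ 1, OneMemClass.coe_one]
  have hdegE : ∀ θ (γ : B →* ℂˣ),
      (charDegree (fun x : X => ((γ (r x) : ℂˣ) : ℂ) * (E θ : X → ℂ) x)).Coprime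
        (Nat.card B) := by
    intro θ γ
    have h1 : (fun x : X => ((γ (r x) : ℂˣ) : ℂ) * (E θ : X → ℂ) x) 1
        = (charDegree (θ.1 : A → ℂ) : ℂ) := by
      show ((γ (r 1) : ℂˣ) : ℂ) * (E θ : X → ℂ) 1 = _
      rw [map_one, map_one, Units.val_one, one_mul, hE1]
    rw [gx_charDegree_of_one _ _ h1]
    exact hdcop θ.1
  obtain ⟨F, hF⟩ : ∃ F : {θ : IrrCharacter A // ∀ (x : X) (a : A),
      (θ : A → ℂ) ⟨x * a * x⁻¹, hA.conj_mem a a.2 x⟩ = (θ : A → ℂ) a} × (B →* ℂˣ) →
      {χ : IrrCharacter X // (charDegree (χ : X → ℂ)).Coprime (Nat.card B)},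
      ∀ p x, ((F p).1 : X → ℂ) x = ((p.2 (r x) : ℂˣ) : ℂ) * (E p.1 : X → ℂ) x :=
    ⟨fun p => ⟨⟨_, Helper7.isIrrCharacter_hom_mul (p.2.comp r) _ (E p.1).2⟩, hdegE p.1 p.2⟩,
      fun _ _ => rfl⟩
  rw [← Nat.card_prod]
  symm
  apply Nat.card_eq_of_bijective F
  constructor
  · rintro ⟨θ, γ⟩ ⟨θ', γ'⟩ hpp
    have hval : ∀ x : X, ((γ (r x) : ℂˣ) : ℂ) * (E θ : X → ℂ) x
        = ((γ' (r x) : ℂˣ) : ℂ) * (E θ' : X → ℂ) x := by
      intro x
      have := congrArg (fun q : {χ : IrrCharacter X //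
        (charDegree (χ : X → ℂ)).Coprime (Nat.card B)} => (q.1 : X → ℂ) x) hpp
      simp only [hF] at this
      exact this
    have hθ : θ = θ' := by
      apply Subtype.ext
      apply Subtype.ext
      funext a
      have h1 := hval (a : X)
      rw [hrA a a.2, map_one, map_one, Units.val_one, one_mul, one_mul, hE θ a, hE θ' a] at h1
      exact h1
    subst hθ
    have hγ : γ = γ' := by
      have hχ := Helper2.isCharacter_of_isIrrCharacter (E θ).2
      have hd1 := Helper7.detChar_mul_hom (E θ : X → ℂ) hχ _ (hE1 θ) (γ.comp r)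
      have hd2 := Helper7.detChar_mul_hom (E θ : X → ℂ) hχ _ (hE1 θ) (γ'.comp r)
      have hfun : (fun g : X => (((γ.comp r) g : ℂˣ) : ℂ) * (E θ : X → ℂ) g)
          = (fun g : X => (((γ'.comp r) g : ℂˣ) : ℂ) * (E θ : X → ℂ) g) := by
        funext g; exact hval g
      rw [hfun, hd2] at hd1
      obtain ⟨δ, hδ⟩ := Helper7.exists_hom_detChar (E θ : X → ℂ) hχ
      ext b
      have h2 := congrFun hd1 (b : X)
      simp only [MonoidHom.comp_apply, hrB, hδ] at h2
      have h3 : ((γ' b : ℂˣ) : ℂ) ^ charDegree (θ.1 : A → ℂ)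
          = ((γ b : ℂˣ) : ℂ) ^ charDegree (θ.1 : A → ℂ) :=
        mul_right_cancel₀ (Units.ne_zero (δ (b : X))) h2
      have h4 : (γ b * (γ' b)⁻¹) ^ charDegree (θ.1 : A → ℂ) = 1 := by
        rw [mul_pow, inv_pow, mul_inv_eq_one]
        apply Units.ext
        rw [Units.val_pow_eq_pow_val, Units.val_pow_eq_pow_val]
        exact h3.symm
      have h5 : (γ b * (γ' b)⁻¹) ^ Nat.card B = 1 := by
        rw [mul_pow, inv_pow, ← map_pow, ← map_pow, pow_card_eq_one', map_one, map_one,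
          inv_one, mul_one]
      have h6 := (pow_eq_one_iff_of_coprime (hdcop θ.1)).mp ⟨h4, h5⟩
      exact congrArg Units.val (mul_inv_eq_one.mp h6)
    rw [hγ]
  · rintro ⟨χ, hχ⟩
    have hirr : IsIrrCharacter A (fun a : A => (χ : X → ℂ) a) :=
      gx_restrict_irr A hsolvQ χ (by rw [hidx]; exact hχ)
    have hinv : ∀ (x : X) (a : A),
        ((⟨_, hirr⟩ : IrrCharacter A) : A → ℂ) ⟨x * a * x⁻¹, hA.conj_mem a a.2 x⟩
          = ((⟨_, hirr⟩ : IrrCharacter A) : A → ℂ) a := by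
      intro x a
      exact Helper25.irr_conj χ (a : X) x
    obtain ⟨θ, hθ⟩ : ∃ θ : {θ : IrrCharacter A // ∀ (x : X) (a : A),
        (θ : A → ℂ) ⟨x * a * x⁻¹, hA.conj_mem a a.2 x⟩ = (θ : A → ℂ) a},
        ∀ a : A, (θ.1 : A → ℂ) a = (χ : X → ℂ) a := ⟨⟨⟨_, hirr⟩, hinv⟩, fun _ => rfl⟩
    obtain ⟨β, hβA, hβ, -⟩ := Helper7.exists_hom_of_two_char_extensions A (θ.1 : A → ℂ) θ.1.2
      _ (Helper25.irr_one_eq_degree θ.1) (E θ : X → ℂ) (χ : X → ℂ)
      (Helper2.isCharacter_of_isIrrCharacter (E θ).2)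
      (Helper2.isCharacter_of_isIrrCharacter χ.2) (hE θ) (fun a => (hθ a).symm)
    refine ⟨(θ, β.comp B.subtype), ?_⟩
    apply Subtype.ext
    apply Subtype.ext
    funext x
    rw [hF, hβ x]
    show ((β ((r x : B) : X) : ℂˣ) : ℂ) * _ = _
    have hx : β x = β ((r x : B) : X) := by
      have e : x = (x * ((r x : B) : X)⁻¹) * ((r x : B) : X) := by group
      conv_lhs => rw [e]
      rw [map_mul, hβA ⟨_, hrmem x⟩, one_mul]
    rw [hx]

end Count

/-- Coprime solvable action (generalized for induction): the number of invariant irreducible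
characters equals the number of irreducible characters of the fixed-point subgroup. -/
theorem gx_inv_count {Γ : Type u} [Group Γ] [Finite Γ] (S : Subgroup Γ)
    (hsolv : Group.IsSolvable S) :
    ∀ (n : ℕ) (G T : Subgroup Γ), T ≤ S → (∀ s ∈ S, ∀ t ∈ T, s * t * s⁻¹ ∈ T) →
      (∀ t ∈ T, ∀ g ∈ G, t * g = g * t) → (∀ s ∈ S, ∀ g ∈ G, s * g * s⁻¹ ∈ G) →
      (Nat.card G).Coprime (T.relIndex S) → T.relIndex S ≤ n →
      Nat.card {χ : IrrCharacter G // gc_InvFun G S (χ : G → ℂ)} =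
        Nat.card (IrrCharacter ↥(G ⊓ Subgroup.centralizer (S : Set Γ))) := by
  intro n
  induction n with
  | zero =>
    intro G T hTS hTn hTc hnorm hcop hle
    exfalso
    have : T.relIndex S ≠ 0 := gc_relIndex_ne_zero T S
    omega
  | succ n ih =>
    intro G T hTS hTn hTc hnorm hcop hle
    by_cases hST : S ≤ T
    · have h1 : ∀ χ : IrrCharacter G, gc_InvFun G S (χ : G → ℂ) := by
        intro χ s hs g g' hg'
        have hg : g' = g := by
          apply Subtype.ext
          rw [hg', hTc s (hST hs) g g.2]; group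
        rw [hg]
      have hEq : G ⊓ Subgroup.centralizer (S : Set Γ) = G := by
        apply inf_eq_left.mpr
        intro g hg
        rw [Subgroup.mem_centralizer_iff]
        intro s hs
        exact hTc s (hST hs) g hg
      rw [Nat.card_congr (Equiv.subtypeUnivEquiv h1), hEq]
    · obtain ⟨p, P₀, Pn, hp, hPp, hnle, hPnn, hTPn, hP₀Pn, hPnS, hdec, hdvd⟩ :=
        gc_exists_p S T hsolv hTS hTn hST
      haveI : Fact p.Prime := ⟨hp⟩
      have hpG : ¬ p ∣ Nat.card G := by
        intro h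
        have h1 : p ∣ Nat.gcd (Nat.card G) (T.relIndex S) := Nat.dvd_gcd h hdvd
        rw [Nat.Coprime.gcd_eq_one hcop] at h1
        exact hp.one_lt.ne' (Nat.dvd_one.mp h1)
      obtain ⟨C, hC⟩ : ∃ C : Subgroup Γ, C = G ⊓ Subgroup.centralizer (P₀ : Set Γ) := ⟨_, rfl⟩
      have hCG : C ≤ G := by rw [hC]; exact inf_le_left
      have hCcent : ∀ c ∈ C, ∀ y ∈ P₀, y * c = c * y := by
        intro c hc y hy
        rw [hC] at hc
        exact (Subgroup.mem_centralizer_iff.mp (Subgroup.mem_inf.mp hc).2 y hy)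
      have hPc : ∀ x ∈ Pn, ∀ c ∈ C, x * c = c * x := by
        intro x hx c hc
        obtain ⟨y, hy, t, ht, rfl⟩ := hdec x hx
        have h1 := hTc t ht c (hCG hc)
        have h2 := hCcent c hc y hy
        calc y * t * c = y * (t * c) := by group
          _ = y * (c * t) := by rw [h1]
          _ = (y * c) * t := by group
          _ = (c * y) * t := by rw [h2]
          _ = c * (y * t) := by group
      have hnormC : ∀ s ∈ S, ∀ c ∈ C, s * c * s⁻¹ ∈ C := by
        intro s hs c hc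
        rw [hC]
        refine Subgroup.mem_inf.mpr ⟨hnorm s hs c (hCG hc), ?_⟩
        rw [Subgroup.mem_centralizer_iff]
        intro x hx
        have h1 : s⁻¹ * x * s⁻¹⁻¹ ∈ Pn := hPnn s⁻¹ (S.inv_mem hs) x (hP₀Pn hx)
        have h2 := hPc _ h1 c hc
        calc x * (s * c * s⁻¹) = s * ((s⁻¹ * x * s⁻¹⁻¹) * c) * s⁻¹ := by group
          _ = s * (c * (s⁻¹ * x * s⁻¹⁻¹)) * s⁻¹ := by rw [h2]
          _ = s * c * s⁻¹ * x := by group
      have hdec' : ∀ s ∈ S, ∀ x ∈ P₀, ∃ y ∈ P₀, ∃ t ∈ T, s * x * s⁻¹ = y * t :=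
        fun s hs x hx => hdec _ (hPnn s hs x (hP₀Pn hx))
      have hP₀S : P₀ ≤ S := hP₀Pn.trans hPnS
      have hcop' : (Nat.card C).Coprime (Pn.relIndex S) :=
        Nat.Coprime.coprime_dvd_left (Subgroup.card_dvd_of_le hCG)
          (Nat.Coprime.coprime_dvd_right (Subgroup.relIndex_dvd_of_le_left S hTPn) hcop)
      have hlt : Pn.relIndex S < T.relIndex S := by
        rw [← Subgroup.relIndex_mul_relIndex T Pn S hTPn hPnS]
        have h1 : T.relIndex Pn ≠ 1 := by
          intro h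
          exact hnle (hP₀Pn.trans (Subgroup.relIndex_eq_one.mp h))
        have h0 : T.relIndex Pn ≠ 0 := gc_relIndex_ne_zero T Pn
        have h2 : Pn.relIndex S ≠ 0 := gc_relIndex_ne_zero Pn S
        calc Pn.relIndex S = 1 * Pn.relIndex S := (one_mul _).symm
          _ < T.relIndex Pn * Pn.relIndex S :=
            Nat.mul_lt_mul_of_pos_right (by omega) (Nat.pos_of_ne_zero h2)
      have IH := ih C Pn hPnS hPnn hPc hnormC hcop' (by omega)
      have hEq : C ⊓ Subgroup.centralizer (S : Set Γ)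
          = G ⊓ Subgroup.centralizer (S : Set Γ) := by
        rw [hC, inf_assoc]
        congr 1
        exact inf_eq_right.mpr (Subgroup.centralizer_le (SetLike.coe_subset_coe.mpr hP₀S))
      rw [gc_char_count G S P₀ C p hnorm hP₀S hPp hpG hC hnormC T hTc hdec', IH, hEq]

/-- Coprime solvable action: the number of invariant irreducible characters equals the number
of irreducible characters of the fixed-point subgroup. -/
theorem gx_inv_main {Γ : Type u} [Group Γ] [Finite Γ] (G S : Subgroup Γ)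
    (hnorm : ∀ s ∈ S, ∀ g ∈ G, s * g * s⁻¹ ∈ G) (hcop : (Nat.card G).Coprime (Nat.card S))
    (hsolv : Group.IsSolvable S) :
    Nat.card {χ : IrrCharacter G // gc_InvFun G S (χ : G → ℂ)} =
      Nat.card (IrrCharacter ↥(G ⊓ Subgroup.centralizer (S : Set Γ))) := by
  refine gx_inv_count S hsolv (Nat.card S) G ⊥ bot_le ?_ ?_ hnorm ?_ ?_
  · intro s _ t ht
    rw [Subgroup.mem_bot] at ht ⊢
    rw [ht]; group
  · intro t ht g _
    rw [Subgroup.mem_bot] at ht
    rw [ht]; simp
  · rw [Subgroup.relIndex_bot_left]; exact hcop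
  · rw [Subgroup.relIndex_bot_left]

theorem gx_card_irr_congr {A₁ A₂ : Type u} [Group A₁] [Group A₂] (e : A₁ ≃* A₂) :
    Nat.card (IrrCharacter A₁) = Nat.card (IrrCharacter A₂) := by
  apply Nat.card_congr
  refine ⟨fun χ => ⟨fun a => (χ : A₁ → ℂ) (e.symm a),
      Helper2.isIrrCharacter_comp_of_surjective e.symm.toMonoidHom e.symm.surjective χ.2⟩,
    fun χ => ⟨fun a => (χ : A₂ → ℂ) (e a),
      Helper2.isIrrCharacter_comp_of_surjective e.toMonoidHom e.surjective χ.2⟩, ?_, ?_⟩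
  · intro χ; apply Subtype.ext; funext a; simp
  · intro χ; apply Subtype.ext; funext a; simp

theorem gx_card_hom_congr {B₁ B₂ : Type u} [Group B₁] [Group B₂] (e : B₁ ≃* B₂) :
    Nat.card (B₁ →* ℂˣ) = Nat.card (B₂ →* ℂˣ) := by
  apply Nat.card_congr
  refine ⟨fun f => f.comp e.symm.toMonoidHom, fun f => f.comp e.toMonoidHom, ?_, ?_⟩
  · intro f; ext b; simp
  · intro f; ext b; simp

section Main

variable {G : Type u} [Group G] [Finite G] (K H : Subgroup G) [hK : K.Normal]

omit [Finite G] in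
theorem gx_decomp (hKH : K ⊔ H = ⊤) (x : G) : ∃ k ∈ K, ∃ h ∈ H, k * h = x := by
  have hx : x ∈ ((K ⊔ H : Subgroup G) : Set G) := by rw [hKH]; trivial
  rw [Subgroup.normal_mul] at hx
  obtain ⟨a, ha, b, hb, hab⟩ := Set.mem_mul.mp hx
  exact ⟨a, ha, b, hb, hab⟩

/-- Invariance under `G = KH` is invariance under `H`. -/
theorem gx_inv_iff (hKH : K ⊔ H = ⊤) (θ : IrrCharacter K) :
    (∀ (x : G) (a : K), (θ : K → ℂ) ⟨x * a * x⁻¹, hK.conj_mem a a.2 x⟩ = (θ : K → ℂ) a) ↔
      gc_InvFun K H (θ : K → ℂ) := by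
  constructor
  · intro h s hs g g' hg'
    have e : g' = ⟨s * g * s⁻¹, hK.conj_mem g g.2 s⟩ := Subtype.ext hg'
    rw [e]; exact h s g
  · intro h x a
    obtain ⟨k, hk, b, hb, rfl⟩ := gx_decomp K H hKH x
    have h1 := h b hb a ⟨b * a * b⁻¹, hK.conj_mem a a.2 b⟩ rfl
    have h2 := Helper25.irr_conj θ ⟨b * a * b⁻¹, hK.conj_mem a a.2 b⟩ ⟨k, hk⟩
    rw [← h1, ← h2]
    refine congrArg (θ : K → ℂ) (Subtype.ext ?_)
    show k * b * a * (k * b)⁻¹ = k * (b * a * b⁻¹) * k⁻¹
    group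

omit [Finite G] in
theorem gx_comm_of_mem (hcop : (Nat.card K).Coprime (Nat.card H)) {a h : G} (ha : a ∈ K)
    (haN : a ∈ Subgroup.normalizer (H : Set G)) (hh : h ∈ H) : h * a = a * h := by
  have hinf := Subgroup.inf_eq_bot_of_coprime hcop
  have h1 : a * h * a⁻¹ * h⁻¹ ∈ K ⊓ H := by
    refine Subgroup.mem_inf.mpr ⟨?_, ?_⟩
    · have h2 : h * a⁻¹ * h⁻¹ ∈ K := hK.conj_mem _ (K.inv_mem ha) h
      have h3 := K.mul_mem ha h2
      have e : a * h * a⁻¹ * h⁻¹ = a * (h * a⁻¹ * h⁻¹) := by group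
      rw [e]; exact h3
    · have h2 : a * h * a⁻¹ ∈ H := (Subgroup.mem_normalizer_iff.mp haN h).mp hh
      exact H.mul_mem h2 (H.inv_mem hh)
  rw [hinf, Subgroup.mem_bot] at h1
  calc h * a = (a * h * a⁻¹ * h⁻¹)⁻¹ * (a * h) := by group
    _ = a * h := by rw [h1, inv_one, one_mul]

/-- Isaacs' count: for `G = KH` with `K` a normal Hall subgroup and `H` solvable, the numbers
of irreducible characters of degree prime to `|H|` of `G` and of `N_G(H)` agree. -/
theorem gx_main (hKH : K ⊔ H = ⊤) (hcop : (Nat.card K).Coprime (Nat.card H))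
    (hsolv : Group.IsSolvable H) :
    Nat.card {χ : IrrCharacter G // (charDegree (χ : G → ℂ)).Coprime (Nat.card H)} =
      Nat.card {η : IrrCharacter (Subgroup.normalizer (H : Set G)) //
        (charDegree (η : Subgroup.normalizer (H : Set G) → ℂ)).Coprime (Nat.card H)} := by
  classical
  have hNmem0 : ∀ n : Subgroup.normalizer (H : Set G),
      (n : G) ∈ Subgroup.normalizer (H : Set G) := fun n => n.2
  obtain ⟨N, hN⟩ : ∃ N : Subgroup G, N = Subgroup.normalizer (H : Set G) := ⟨_, rfl⟩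
  rw [← hN] at hNmem0 ⊢
  have hNmem : ∀ n : N, (n : G) ∈ Subgroup.normalizer (H : Set G) := by
    intro n; rw [← hN]; exact n.2
  have hHN : H ≤ N := by rw [hN]; exact Subgroup.le_normalizer
  have hnorm : ∀ s ∈ H, ∀ g ∈ K, s * g * s⁻¹ ∈ K := fun s _ g hg => hK.conj_mem g hg s
  have hL : Nat.card {χ : IrrCharacter G // (charDegree (χ : G → ℂ)).Coprime (Nat.card H)}
      = Nat.card (IrrCharacter ↥(K ⊓ Subgroup.centralizer (H : Set G))) *
        Nat.card (H →* ℂˣ) := by
    rw [gx_count K H hKH hcop hsolv,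
      Nat.card_congr (Equiv.subtypeEquivRight (gx_inv_iff K H hKH)),
      gx_inv_main K H hnorm hcop hsolv]
  obtain ⟨A', hA'⟩ : ∃ A' : Subgroup N, A' = K.subgroupOf N := ⟨_, rfl⟩
  obtain ⟨B', hB'⟩ : ∃ B' : Subgroup N, B' = H.subgroupOf N := ⟨_, rfl⟩
  haveI hA'n : A'.Normal := by rw [hA']; infer_instance
  obtain ⟨e, he⟩ : ∃ e : B' ≃* H, ∀ b : B', ((e b : H) : G) = ((b : N) : G) := by
    subst hB'
    exact ⟨Subgroup.subgroupOfEquivOfLe hHN, fun _ => rfl⟩
  have hcardB : Nat.card B' = Nat.card H := Nat.card_congr e.toEquiv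
  have hmemA : ∀ n : N, n ∈ A' ↔ (n : G) ∈ K := by
    intro n; rw [hA']; exact Subgroup.mem_subgroupOf
  have hmemB : ∀ n : N, n ∈ B' ↔ (n : G) ∈ H := by
    intro n; rw [hB']; exact Subgroup.mem_subgroupOf
  have hkN : ∀ (n : N) (k h : G), h ∈ H → k * h = (n : G) → k ∈ N := by
    intro n k h hh hkh
    have e1 : k = (n : G) * h⁻¹ := by rw [← hkh]; group
    rw [e1]; exact N.mul_mem n.2 (N.inv_mem (hHN hh))
  have hsup' : A' ⊔ B' = ⊤ := by
    rw [eq_top_iff]
    intro n _
    obtain ⟨k, hk, h, hh, hkh⟩ := gx_decomp K H hKH (n : G)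
    have e1 : n = (⟨k, hkN n k h hh hkh⟩ : N) * ⟨h, hHN hh⟩ := Subtype.ext hkh.symm
    rw [e1]
    exact Subgroup.mul_mem_sup ((hmemA _).mpr hk) ((hmemB _).mpr hh)
  have hcardA : Nat.card A' ∣ Nat.card K := by
    obtain ⟨φ, hφ⟩ : ∃ φ : A' →* K, ∀ a : A', ((φ a : K) : G) = ((a : N) : G) :=
      ⟨(N.subtype.comp A'.subtype).codRestrict K (fun a => (hmemA a.1).mp a.2), fun _ => rfl⟩
    apply Subgroup.card_dvd_of_injective φ
    intro a b hab
    apply Subtype.ext; apply Subtype.ext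
    rw [← hφ, ← hφ, hab]
  have hcop' : (Nat.card A').Coprime (Nat.card B') := by
    rw [hcardB]; exact Nat.Coprime.coprime_dvd_left hcardA hcop
  have hsolv' : Group.IsSolvable B' := by
    haveI := hsolv
    exact Group.isSolvable_of_isSolvable_injective (f := e.toMonoidHom) e.injective
  have hR := gx_count A' B' hsup' hcop' hsolv'
  rw [hcardB] at hR
  have hall : ∀ θ : IrrCharacter A', ∀ (x : N) (a : A'),
      (θ : A' → ℂ) ⟨x * a * x⁻¹, hA'n.conj_mem a a.2 x⟩ = (θ : A' → ℂ) a := by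
    intro θ x a
    obtain ⟨k, hk, h, hh, hkh⟩ := gx_decomp K H hKH (x : G)
    have hcomm : h * ((a : N) : G) = ((a : N) : G) * h :=
      gx_comm_of_mem K H hcop ((hmemA a.1).mp a.2) (hNmem a.1) hh
    have h2 := Helper25.irr_conj θ a ⟨⟨k, hkN x k h hh hkh⟩, (hmemA _).mpr hk⟩
    rw [← h2]
    refine congrArg (θ : A' → ℂ) (Subtype.ext (Subtype.ext ?_))
    show (x : G) * ((a : N) : G) * (x : G)⁻¹ = k * ((a : N) : G) * k⁻¹
    rw [← hkh]
    calc k * h * ((a : N) : G) * (k * h)⁻¹ = k * (h * ((a : N) : G)) * h⁻¹ * k⁻¹ := by group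
      _ = k * (((a : N) : G) * h) * h⁻¹ * k⁻¹ := by rw [hcomm]
      _ = k * ((a : N) : G) * k⁻¹ := by group
  rw [Nat.card_congr (Equiv.subtypeUnivEquiv hall)] at hR
  obtain ⟨ψ, hψ⟩ : ∃ ψ : A' →* ↥(K ⊓ Subgroup.centralizer (H : Set G)),
      ∀ a : A', ((ψ a : ↥(K ⊓ Subgroup.centralizer (H : Set G))) : G) = ((a : N) : G) :=
    ⟨(N.subtype.comp A'.subtype).codRestrict _ (fun a => Subgroup.mem_inf.mpr
      ⟨(hmemA a.1).mp a.2, by
        rw [Subgroup.mem_centralizer_iff]
        intro h hh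
        exact gx_comm_of_mem K H hcop ((hmemA a.1).mp a.2) (hNmem a.1) hh⟩), fun _ => rfl⟩
  have hψbij : Function.Bijective ψ := by
    constructor
    · intro a b hab
      apply Subtype.ext; apply Subtype.ext
      rw [← hψ, ← hψ, hab]
    · intro c
      have hcK : (c : G) ∈ K := (Subgroup.mem_inf.mp c.2).1
      have hcN : (c : G) ∈ N := by
        rw [hN]; exact Subgroup.centralizer_le_normalizer (H : Set G) (Subgroup.mem_inf.mp c.2).2
      refine ⟨⟨⟨c, hcN⟩, (hmemA _).mpr hcK⟩, ?_⟩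
      apply Subtype.ext
      rw [hψ]
  rw [gx_card_irr_congr (MulEquiv.ofBijective ψ hψbij), gx_card_hom_congr e] at hR
  rw [hL, hR]

end Main

end Cfsg.Agent.Helper26
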