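import Mathlib
import Cfsg.Prelude.Def_FusionSystem
import Cfsg.Agent.Helper26.HypFocal

set_option autoImplicit false

namespace Cfsg.Agent.Helper26

open Cfsg Cfsg.FusionSystem

open scoped commutatorElement

variable {G : Type*} [Group G]

theorem conj_pow_apply {P : Subgroup G} {α : MulAut P} {g : G}
    (h : ∀ x : P, ((α x : P) : G) = g * x * g⁻¹) :
    ∀ (j : ℕ) (x : P), (((α ^ j) x : P) : G) = g ^ j * x * (g ^ j)⁻¹ := by
  intro j
  induction j with
  | zero => intro x; simp
  | succ j ih =>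
    intro x
    rw [pow_succ, MulAut.mul_apply, ih, h, pow_succ]
    group

/-- an automorphism of order prime to `p` induced by conjugation is induced by an element of
`O^p(G)` -/
theorem exists_pprime_inducing [Finite G] (p : ℕ) [Fact p.Prime] {P : Subgroup G} {α : MulAut P}
    (hα : (orderOf α).Coprime p) {g : G} (h : ∀ x : P, ((α x : P) : G) = g * x * g⁻¹) :
    ∃ g' ∈ pResidual p G, ∀ x : P, ((α x : P) : G) = g' * x * g'⁻¹ := by
  have hp : p.Prime := Fact.out
  obtain ⟨a, m, hm, hgm⟩ := Nat.exists_eq_pow_mul_and_not_dvd (orderOf_pos g).ne' p hp.ne_one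
  have hcop : Nat.Coprime (p ^ a) (orderOf α) := Nat.Coprime.pow_left a hα.symm
  have hj1 := Nat.ModEq.pow_totient hcop
  have hαj : α ^ (p ^ a) ^ Nat.totient (orderOf α) = α := by
    have := (pow_eq_pow_iff_modEq (x := α)).mpr hj1
    rwa [pow_one] at this
  have hdvd : p ^ a ∣ (p ^ a) ^ Nat.totient (orderOf α) :=
    dvd_pow_self _ (Nat.totient_pos.mpr (orderOf_pos α)).ne'
  have hord : orderOf (g ^ (p ^ a) ^ Nat.totient (orderOf α)) ∣ m := by
    apply orderOf_dvd_of_pow_eq_one
    rw [← pow_mul]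
    apply orderOf_dvd_iff_pow_eq_one.mp
    rw [hgm]
    exact mul_dvd_mul hdvd dvd_rfl
  refine ⟨g ^ (p ^ a) ^ Nat.totient (orderOf α), Subgroup.subset_closure ?_, fun x => ?_⟩
  · show Nat.Coprime (orderOf (g ^ (p ^ a) ^ Nat.totient (orderOf α))) p
    exact Nat.Coprime.coprime_dvd_left hord ((Nat.Prime.coprime_iff_not_dvd hp).mpr hm).symm
  · have := conj_pow_apply h ((p ^ a) ^ Nat.totient (orderOf α)) x
    rw [hαj] at this
    exact this

theorem hyperfocal_gen_mem_pResidual [Finite G] (p : ℕ) [Fact p.Prime] (S : Subgroup G)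
    {P : Subgroup G} (hP : P ≤ S) (α : (groupFusionSystem S).autGroup P)
    (hα : α ∈ pResidual p ((groupFusionSystem S).autGroup P)) :
    ∀ x : P, (x : G)⁻¹ * (((α : MulAut P) x : P) : G) ∈ pResidual p G := by
  have hn := Cfsg.Agent.Helper13.pResidual_normal p G
  have key : pResidual p ((groupFusionSystem S).autGroup P) ≤
      { carrier := {β | ∀ x : P, (x : G)⁻¹ * (((β : MulAut P) x : P) : G) ∈ pResidual p G}
        one_mem' := by
          intro x
          show (x : G)⁻¹ * (x : G) ∈ pResidual p G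
          rw [inv_mul_cancel]
          exact Subgroup.one_mem _
        mul_mem' := by
          intro β γ hβ hγ x
          have h1 := hγ x
          have h2 := hβ ((γ : MulAut P) x)
          have e : (x : G)⁻¹ * (((β : MulAut P) ((γ : MulAut P) x) : P) : G) =
              ((x : G)⁻¹ * (((γ : MulAut P) x : P) : G)) * ((((γ : MulAut P) x : P) : G)⁻¹ *
                (((β : MulAut P) ((γ : MulAut P) x) : P) : G)) := by
            group
          show (x : G)⁻¹ * (((β : MulAut P) ((γ : MulAut P) x) : P) : G) ∈ pResidual p G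
          rw [e]
          exact Subgroup.mul_mem _ h1 h2
        inv_mem' := by
          intro β hβ x
          have h1 := hβ ((β : MulAut P)⁻¹ x)
          rw [MulAut.apply_inv_self] at h1
          have e : (x : G)⁻¹ * ((((β : MulAut P)⁻¹ x : P)) : G) =
              ((((β : MulAut P)⁻¹ x : P) : G)⁻¹ * (x : G))⁻¹ := by
            group
          show (x : G)⁻¹ * ((((β : MulAut P)⁻¹ x : P)) : G) ∈ pResidual p G
          rw [e]
          exact Subgroup.inv_mem _ h1 } := by
    conv_lhs => unfold pResidual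
    rw [Subgroup.closure_le]
    intro β hβ
    have hβ' : Nat.Coprime (orderOf β) p := hβ
    obtain ⟨-, -, g, hg⟩ := (mem_autGroup_iff _ hP).mp β.2
    obtain ⟨g', hg', hg'x⟩ := exists_pprime_inducing p (α := (β : MulAut P))
      (by rw [Subgroup.orderOf_coe]; exact hβ') (fun x => hg x)
    intro x
    rw [hg'x x]
    have e : (x : G)⁻¹ * (g' * x * g'⁻¹) = ((x : G)⁻¹ * g' * ((x : G)⁻¹)⁻¹) * g'⁻¹ := by group
    rw [e]
    exact Subgroup.mul_mem _ (hn.conj_mem g' hg' _) (Subgroup.inv_mem _ hg')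
  exact key hα

theorem exists_sylow_subgroupOf_normal [Finite G] (p : ℕ) [Fact p.Prime] (S : Sylow p G)
    (K : Subgroup G) [hK : K.Normal] :
    ∃ P₀ : Sylow p ↥K, (P₀ : Subgroup ↥K) = (S : Subgroup G).subgroupOf K := by
  have hle : (S : Subgroup G) ⊓ K ≤ K := inf_le_right
  have hp' : IsPGroup p ↥((S : Subgroup G) ⊓ K) := S.isPGroup'.to_le inf_le_left
  obtain ⟨A, hTA, hA⟩ := exists_cardSyl_ge p hp' hle
  obtain ⟨b, -, hb⟩ := exists_conj_le_of_cardSyl p (cardSyl_sylow p S) hA.isPGroup le_top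
  have hcard : Nat.card A ≤ Nat.card ↥((S : Subgroup G) ⊓ K) := by
    apply Nat.card_le_card_of_injective (fun a : A =>
      (⟨b * a * b⁻¹, hb a a.2, hK.conj_mem a (hA.1 a.2) b⟩ : ↥((S : Subgroup G) ⊓ K)))
    intro a a' h
    have h1 : b * (a : G) * b⁻¹ = b * (a' : G) * b⁻¹ := congrArg Subtype.val h
    exact Subtype.ext (mul_left_cancel (mul_right_cancel h1))
  have hcs := cardSyl_of_le_of_card_le hA hp' hle hcard
  obtain ⟨R, hR⟩ := (sylow_iff_cardSyl p hle).mpr hcs
  exact ⟨R, by rw [hR, Subgroup.inf_subgroupOf_right]⟩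

theorem sylow_le_commutator_of_pResidual_eq_top {H : Type*} [Group H] [Finite H] (p : ℕ)
    [Fact p.Prime] (P : Sylow p H) (hres : pResidual p H = ⊤) :
    (P : Subgroup H) ≤ commutator H := by
  have hp : p.Prime := Fact.out
  obtain ⟨k, m, hm, hcard⟩ :=
    Nat.exists_eq_pow_mul_and_not_dvd (Nat.card_pos (α := H)).ne' p hp.ne_one
  have hcopm : Nat.Coprime p m := (Nat.Prime.coprime_iff_not_dvd hp).mpr hm
  have hL : pResidual p H ≤
      ((powMonoidHom m : Abelianization H →* Abelianization H).ker).comap Abelianization.of := by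
    unfold pResidual
    rw [Subgroup.closure_le]
    intro g hg
    have hg' : Nat.Coprime (orderOf g) p := hg
    have h1 : orderOf g ∣ p ^ k * m := by
      rw [← hcard]
      exact orderOf_dvd_natCard g
    have h2 : orderOf g ∣ m := (Nat.Coprime.pow_right k hg').dvd_of_dvd_mul_left h1
    show (powMonoidHom m) (Abelianization.of g) = 1
    rw [powMonoidHom_apply, ← map_pow, orderOf_dvd_iff_pow_eq_one.mp h2, map_one]
  rw [hres] at hL
  intro x hx
  have h1 : (Abelianization.of x) ^ m = 1 := hL (Subgroup.mem_top x)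
  obtain ⟨j, hj⟩ := P.isPGroup' ⟨x, hx⟩
  have hj' : x ^ p ^ j = 1 := congrArg Subtype.val hj
  have h2 : (Abelianization.of x) ^ p ^ j = 1 := by rw [← map_pow, hj', map_one]
  have h3 : orderOf (Abelianization.of x) ∣ Nat.gcd (p ^ j) m :=
    Nat.dvd_gcd (orderOf_dvd_of_pow_eq_one h2) (orderOf_dvd_of_pow_eq_one h1)
  rw [Nat.Coprime.gcd_eq_one (Nat.Coprime.pow_left j hcopm), Nat.dvd_one,
    orderOf_eq_one_iff] at h3
  exact (QuotientGroup.eq_one_iff x).mp h3

theorem sylow_le_focal {H : Type*} [Group H] [Finite H] (p : ℕ) [Fact p.Prime] (P : Sylow p H)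
    (hres : pResidual p H = ⊤) :
    (P : Subgroup H) ≤ (groupFusionSystem (P : Subgroup H)).focalSubgroup := by
  have h1 : (P : Subgroup H) ≤ commutator H ⊓ P :=
    le_inf (sylow_le_commutator_of_pResidual_eq_top p P hres) le_rfl
  rw [Subgroup.commutator_inf_eq_focalSubgroup] at h1
  refine h1.trans ?_
  rw [Subgroup.focalSubgroup_def, Subgroup.closure_le]
  rintro g ⟨hgP, x, hxP, u, rfl⟩
  apply Subgroup.subset_closure
  have hux : u * x⁻¹ * u⁻¹ ∈ (P : Subgroup H) := by
    have e : u * x⁻¹ * u⁻¹ = x⁻¹ * ⁅x, u⁆ := by rw [commutatorElement_def]; group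
    rw [e]
    exact Subgroup.mul_mem _ (Subgroup.inv_mem _ hxP) hgP
  have hle : Subgroup.zpowers x⁻¹ ≤ (P : Subgroup H) :=
    (Subgroup.zpowers_le).mpr (Subgroup.inv_mem _ hxP)
  have hle2 : Subgroup.zpowers x⁻¹ ≤ (P : Subgroup H).comap (MulAut.conj u).toMonoidHom :=
    (Subgroup.zpowers_le).mpr hux
  refine ⟨Subgroup.zpowers x⁻¹, conjHom (Subgroup.zpowers x⁻¹) u,
    ⟨x⁻¹, Subgroup.mem_zpowers _⟩, ⟨hle, fun y => hle2 y.2, u, fun y => rfl⟩, ?_⟩
  show ⁅x, u⁆ = (x⁻¹)⁻¹ * (u * x⁻¹ * u⁻¹)
  rw [commutatorElement_def]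
  group

/-- a normal subgroup `N` of a finite `p`-group `S` with `S = N [S, S]` is `S` -/
theorem le_of_le_sup_commutator {Ω : Type*} [Group Ω] {S : Subgroup Ω} [Finite S] {p : ℕ}
    [Fact p.Prime] (hS : IsPGroup p S) {N : Subgroup Ω} (hNS : N ≤ S)
    (hconj : ∀ g ∈ S, ∀ y ∈ N, g * y * g⁻¹ ∈ N) (h : S ≤ N ⊔ ⁅S, S⁆) : S ≤ N := by
  haveI hn : (N.subgroupOf S).Normal := ⟨fun n hn g => by
    rw [Subgroup.mem_subgroupOf] at hn ⊢
    exact hconj g g.2 n hn⟩
  have htop : N.subgroupOf S ⊔ commutator ↥S = ⊤ := by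
    rw [eq_top_iff, ← Subgroup.map_le_map_iff_of_injective S.subtype_injective, Subgroup.map_sup,
      Subgroup.map_subgroupOf_eq_of_le hNS, Subgroup.map_subtype_commutator,
      ← MonoidHom.range_eq_map, Subgroup.range_subtype]
    exact h
  have hperf : commutator (↥S ⧸ N.subgroupOf S) = ⊤ := by
    rw [commutator_def, ← Subgroup.map_top_of_surjective (QuotientGroup.mk' (N.subgroupOf S))
      (QuotientGroup.mk'_surjective _), ← Subgroup.map_commutator, ← commutator_def]
    conv_rhs => rw [← htop]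
    rw [Subgroup.map_sup, QuotientGroup.map_mk'_self, bot_sup_eq]
  have hQp : IsPGroup p (↥S ⧸ N.subgroupOf S) := hS.to_quotient _
  haveI : Group.IsNilpotent (↥S ⧸ N.subgroupOf S) := hQp.isNilpotent
  haveI : Group.IsPerfect (↥S ⧸ N.subgroupOf S) := ⟨hperf⟩
  have hsub : Subsingleton (↥S ⧸ N.subgroupOf S) := by
    by_contra hns
    haveI : Nontrivial (↥S ⧸ N.subgroupOf S) := not_subsingleton_iff_nontrivial.mp hns
    exact Group.IsPerfect.not_isNilpotent (↥S ⧸ N.subgroupOf S) inferInstance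
  have h3 := QuotientGroup.subgroup_eq_top_of_subsingleton _ hsub
  exact Subgroup.subgroupOf_eq_top.mp h3

theorem sylow_le_hyperfocal {H : Type*} [Group H] [Finite H] (p : ℕ) [Fact p.Prime]
    (P : Sylow p H) (hres : pResidual p H = ⊤) :
    (P : Subgroup H) ≤ (groupFusionSystem (P : Subgroup H)).hyperfocalSubgroup p := by
  have hsat := groupFusion_saturated p P
  have h1 := sylow_le_focal p P hres
  rw [focal_eq p P.isPGroup' _ hsat] at h1
  exact le_of_le_sup_commutator P.isPGroup' (hyperfocal_le _ p)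
    (fun g hg => hyperfocal_conj_mem _ p hg) h1

theorem pResidual_pResidual_eq_top (p : ℕ) : pResidual p ↥(pResidual p G) = ⊤ := by
  have hle : pResidual p G ≤ (pResidual p ↥(pResidual p G)).map (Subgroup.subtype _) := by
    conv_lhs => unfold pResidual
    rw [Subgroup.closure_le]
    intro x hx
    have hx' : x ∈ pResidual p G := Subgroup.subset_closure hx
    refine ⟨⟨x, hx'⟩, Subgroup.subset_closure ?_, rfl⟩
    show Nat.Coprime (orderOf (⟨x, hx'⟩ : ↥(pResidual p G))) p
    rw [← Subgroup.orderOf_coe]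
    exact hx
  rw [eq_top_iff]
  rintro k -
  obtain ⟨k', hk', he⟩ := hle k.2
  have : k' = k := Subtype.ext he
  rw [← this]
  exact hk'

theorem hyperfocal_map_le (p : ℕ) (S K : Subgroup G) (P₀ : Subgroup ↥K)
    (hP₀ : P₀ = S.subgroupOf K) :
    ((groupFusionSystem P₀).hyperfocalSubgroup p).map K.subtype ≤
      (groupFusionSystem S).hyperfocalSubgroup p := by
  conv_lhs => unfold hyperfocalSubgroup
  rw [MonoidHom.map_closure, Subgroup.closure_le]
  rintro _ ⟨y, ⟨R, α, x, hR, hα, rfl⟩, rfl⟩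
  have hR'S : R.map K.subtype ≤ S := by
    rintro _ ⟨r, hr, rfl⟩
    have := hR hr
    rw [hP₀, Subgroup.mem_subgroupOf] at this
    exact this
  have hmem : ∀ β : (groupFusionSystem P₀).autGroup R,
      ((MulAut.congr (R.equivMapOfInjective K.subtype K.subtype_injective)).toMonoidHom.comp
        (Subgroup.subtype _)) β ∈ (groupFusionSystem S).autGroup (R.map K.subtype) := by
    intro β
    rw [mem_autGroup_iff _ hR'S]
    obtain ⟨-, -, k, hk⟩ := (mem_autGroup_iff _ hR).mp β.2
    refine ⟨hR'S, fun y => hR'S (Subtype.property _), (k : G), ?_⟩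
    rintro ⟨_, r, hr, rfl⟩
    have e1 : (⟨K.subtype r, ⟨r, hr, rfl⟩⟩ : ↥(R.map K.subtype)) =
        R.equivMapOfInjective K.subtype K.subtype_injective ⟨r, hr⟩ := Subtype.ext rfl
    rw [e1]
    show (((R.equivMapOfInjective K.subtype K.subtype_injective) ((β : MulAut R)
      ((R.equivMapOfInjective K.subtype K.subtype_injective).symm
        ((R.equivMapOfInjective K.subtype K.subtype_injective) ⟨r, hr⟩))) :
          ↥(R.map K.subtype)) : G) = _
    rw [MulEquiv.symm_apply_apply]
    have h1 := congrArg (K.subtype) (hk ⟨r, hr⟩)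
    exact h1
  have hf : Function.Injective
      (((MulAut.congr (R.equivMapOfInjective K.subtype K.subtype_injective)).toMonoidHom.comp
        (Subgroup.subtype _)).codRestrict _ hmem) := by
    intro a b hab
    apply Subtype.ext
    exact (MulAut.congr (R.equivMapOfInjective K.subtype K.subtype_injective)).injective
      (congrArg Subtype.val hab)
  have hfα := pResidual_map_of_injective p _ hf hα
  apply Subgroup.subset_closure
  refine ⟨R.map K.subtype, _, R.equivMapOfInjective K.subtype K.subtype_injective x, hR'S, hfα, ?_⟩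
  show _ = _ * ((((R.equivMapOfInjective K.subtype K.subtype_injective) ((α : MulAut R)
      ((R.equivMapOfInjective K.subtype K.subtype_injective).symm
        ((R.equivMapOfInjective K.subtype K.subtype_injective) x))) :
          ↥(R.map K.subtype)) : G))
  rw [MulEquiv.symm_apply_apply]
  rfl

/-- the hyperfocal subgroup theorem -/
theorem hyperfocal_group_eq [Finite G] (p : ℕ) [Fact p.Prime] (S : Sylow p G) :
    (groupFusionSystem (S : Subgroup G)).hyperfocalSubgroup p =
      (S : Subgroup G) ⊓ pResidual p G := by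
  apply le_antisymm
  · apply le_inf (hyperfocal_le _ p)
    unfold hyperfocalSubgroup
    rw [Subgroup.closure_le]
    rintro y ⟨P, α, x, hP, hα, rfl⟩
    exact hyperfocal_gen_mem_pResidual p _ hP α hα x
  · haveI := Cfsg.Agent.Helper13.pResidual_normal p G
    obtain ⟨P₀, hP₀⟩ := exists_sylow_subgroupOf_normal p S (pResidual p G)
    have h1 := sylow_le_hyperfocal p P₀ (pResidual_pResidual_eq_top p)
    have h2 := hyperfocal_map_le p (S : Subgroup G) (pResidual p G) (P₀ : Subgroup _) hP₀
    intro x hx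
    apply h2
    refine ⟨⟨x, hx.2⟩, h1 ?_, rfl⟩
    rw [hP₀, Subgroup.mem_subgroupOf]
    exact hx.1

end Cfsg.Agent.Helper26
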