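import Mathlib
import Cfsg.Agent.Helper26.Stancu
import Cfsg.Agent.Helper26.HypFocal

set_option autoImplicit false

namespace Cfsg.Agent.Helper26

open Cfsg Cfsg.FusionSystem

variable {Ω : Type*} [Group Ω] {S : Subgroup Ω}

/-- the automorphisms of `U` that become conjugation by an element of `S` after applying `θ` -/
def conjSub (S U : Subgroup Ω) (θ : U →* Ω) : Subgroup (MulAut U) where
  carrier := {β | ∃ h ∈ S, ∀ x : U, θ (β x) = h * θ x * h⁻¹}
  one_mem' := ⟨1, S.one_mem, fun x => by simp⟩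
  mul_mem' := by
    rintro a b ⟨h₁, hh₁, e₁⟩ ⟨h₂, hh₂, e₂⟩
    refine ⟨h₁ * h₂, S.mul_mem hh₁ hh₂, fun x => ?_⟩
    rw [MulAut.mul_apply, e₁, e₂]
    group
  inv_mem' := by
    rintro a ⟨h, hh, e⟩
    refine ⟨h⁻¹, S.inv_mem hh, fun x => ?_⟩
    have := e (a⁻¹ x)
    rw [MulAut.apply_inv_self] at this
    rw [this]
    group

theorem mem_conjSub {S U : Subgroup Ω} {θ : U →* Ω} {β : MulAut U} :
    β ∈ conjSub S U θ ↔ ∃ h ∈ S, ∀ x : U, θ (β x) = h * θ x * h⁻¹ := Iff.rfl

theorem conjSub_le_autGroup (F : FusionSystem S) {U : Subgroup Ω} {θ : U →* Ω}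
    (hθ : θ ∈ F.Hom U) : conjSub S U θ ≤ F.autGroup U := by
  rintro β ⟨h, hh, e⟩
  have hU : U ≤ S := (F.le_of_mem hθ).1
  rw [mem_autGroup_iff F hU]
  obtain ⟨χ, hχ, hχθ⟩ := F.inv_mem hθ
  have hr : θ.range ≤ S := range_le_of_mem F hθ
  have hc := F.conj_mem (P := θ.range) hr hh
  have h1 := F.comp_mem hθ hc (fun x => ⟨x, rfl⟩)
  have hval : ∀ x : U, ((conjHom θ.range h).comp
      (θ.codRestrict θ.range (fun x => ⟨x, rfl⟩))) x ∈ θ.range := by
    intro x
    refine ⟨β x, ?_⟩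
    rw [e x]
    rfl
  have h2 := F.comp_mem h1 hχ hval
  have e2 : U.subtype.comp β.toMonoidHom = χ.comp (((conjHom θ.range h).comp
      (θ.codRestrict θ.range (fun x => ⟨x, rfl⟩))).codRestrict θ.range hval) := by
    ext x
    have h3 : (⟨h * θ x * h⁻¹, hval x⟩ : θ.range) = ⟨θ (β x), ⟨β x, rfl⟩⟩ :=
      Subtype.ext (e x).symm
    show ((β x : U) : Ω) = χ ⟨h * θ x * h⁻¹, hval x⟩
    rw [h3, hχθ]
  rw [e2]
  exact h2

theorem conjSub_map_congr {U : Subgroup Ω} (θ : U →* Ω) (hinj : Function.Injective θ) :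
    (conjSub S U θ).map (MulAut.congr (rangeIso θ hinj)).toMonoidHom =
      autInducedBy S θ.range := by
  ext γ
  rw [mem_autInducedBy_iff]
  constructor
  · rintro ⟨β, ⟨h, hh, e⟩, rfl⟩
    refine ⟨h, hh, fun y => ?_⟩
    obtain ⟨x, rfl⟩ := (rangeIso θ hinj).surjective y
    have h1 := congr_apply_rangeIso θ hinj β x
    exact h1.trans (e x)
  · rintro ⟨h, hh, e⟩
    refine ⟨(MulAut.congr (rangeIso θ hinj)).symm γ, ⟨h, hh, fun x => ?_⟩, ?_⟩
    · have h1 := e (rangeIso θ hinj x)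
      have h2 := congr_apply_rangeIso θ hinj ((MulAut.congr (rangeIso θ hinj)).symm γ) x
      rw [MulEquiv.apply_symm_apply] at h2
      rw [← h2]
      exact h1
    · exact (MulAut.congr (rangeIso θ hinj)).apply_symm_apply γ

theorem isPGroup_conjSub {p : ℕ} (hS : IsPGroup p S) {U : Subgroup Ω} (θ : U →* Ω)
    (hinj : Function.Injective θ) : IsPGroup p (conjSub S U θ) := by
  have h1 : IsPGroup p ((conjSub S U θ).map (MulAut.congr (rangeIso θ hinj)).toMonoidHom) := by
    rw [conjSub_map_congr]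
    exact isPGroup_autInducedBy hS _
  exact h1.of_equiv ((conjSub S U θ).equivMapOfInjective _
    (MulAut.congr (rangeIso θ hinj)).injective).symm

/-- For a subgroup `B₀` of `Aut(U)` and a `p`-subgroup `Y` of `Aut_F(U) ∩ B₀`, there is a map
`θ` of the system on `U` with receptive image such that the automorphisms in `B₀` induced via
`θ` by `S` form a Sylow `p`-subgroup of `Aut_F(U) ∩ B₀` containing `Y`. -/
theorem exists_good_map [Finite S] (p : ℕ) [Fact p.Prime] (hS : IsPGroup p S)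
    (F : FusionSystem S) (hF : F.IsSaturated p) {U : Subgroup Ω} (hU : U ≤ S)
    (B₀ Y : Subgroup (MulAut U)) (hY : IsPGroup p Y) (hYA : Y ≤ F.autGroup U ⊓ B₀) :
    ∃ θ ∈ F.Hom U, F.IsReceptive θ.range ∧
      CardSyl p (conjSub S U θ ⊓ B₀) (F.autGroup U ⊓ B₀) ∧ Y ≤ conjSub S U θ := by
  have hfinU : Finite U := finite_of_le hU
  obtain ⟨U₁, ⟨θ₁, hθ₁, rfl⟩, hfn⟩ := exists_fullyNormalized F hU
  obtain ⟨hfc, hfa⟩ := fullyNormalized_props p hS F hF _ hfn
  have hrec := fullyCentralized_receptive p hS F hF _ hfc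
  have hinj := F.injective_of_mem hθ₁
  have hfinr : Finite θ₁.range := finite_of_le hfn.1
  have hsyl₁ : CardSyl p (autInducedBy S θ₁.range) (F.autGroup θ₁.range) :=
    (sylow_iff_cardSyl p (autInducedBy_le_autGroup F hfa.1)).mp hfa.2
  have hT₁ : CardSyl p (conjSub S U θ₁) (F.autGroup U) := by
    refine ⟨conjSub_le_autGroup F hθ₁, ?_⟩
    have h1 : Nat.card (conjSub S U θ₁) = Nat.card (autInducedBy S θ₁.range) := by
      rw [← conjSub_map_congr θ₁ hinj]
      exact (Subgroup.card_map_of_injective (MulAut.congr (rangeIso θ₁ hinj)).injective).symm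
    have h2 : Nat.card (F.autGroup U) = Nat.card (F.autGroup θ₁.range) :=
      card_autGroup_eq F hU hfn.1 (rangeIso θ₁ hinj) (by
        have : (θ₁.range).subtype.comp (rangeIso θ₁ hinj).toMonoidHom = θ₁ := by
          ext x
          rfl
        rw [this]
        exact hθ₁)
    rw [h1, h2]
    exact hsyl₁.2
  obtain ⟨TB, hYTB, hTB⟩ := exists_cardSyl_ge p hY hYA
  obtain ⟨b, hb, hbT⟩ := exists_conj_le_of_cardSyl p hT₁ hTB.isPGroup (hTB.1.trans inf_le_left)
  have hb' := (mem_autGroup_iff F hU).mp hb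
  have hθ : θ₁.comp b.toMonoidHom ∈ F.Hom U := by
    have h3 := F.comp_mem hb' hθ₁ (fun x => (b x).2)
    have e3 : θ₁.comp b.toMonoidHom = θ₁.comp
        ((U.subtype.comp b.toMonoidHom).codRestrict U (fun x => (b x).2)) := by
      ext x
      rfl
    rw [e3]
    exact h3
  have hmem : ∀ β : MulAut U, β ∈ conjSub S U (θ₁.comp b.toMonoidHom) ↔
      b * β * b⁻¹ ∈ conjSub S U θ₁ := by
    intro β
    constructor
    · rintro ⟨h, hh, e⟩
      refine ⟨h, hh, fun y => ?_⟩
      have h4 := e (b⁻¹ y)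
      have h5 : (θ₁.comp b.toMonoidHom) (β (b⁻¹ y)) = θ₁ ((b * β * b⁻¹) y) := rfl
      have h6 : (θ₁.comp b.toMonoidHom) (b⁻¹ y) = θ₁ y := by
        show θ₁ (b (b⁻¹ y)) = θ₁ y
        rw [MulAut.apply_inv_self]
      rw [h5, h6] at h4
      exact h4
    · rintro ⟨h, hh, e⟩
      refine ⟨h, hh, fun x => ?_⟩
      have h4 := e (b x)
      have h5 : θ₁ ((b * β * b⁻¹) (b x)) = (θ₁.comp b.toMonoidHom) (β x) := by
        show θ₁ (b (β (b⁻¹ (b x)))) = θ₁ (b (β x))
        rw [MulAut.inv_apply_self]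
      rw [h5] at h4
      exact h4
  refine ⟨θ₁.comp b.toMonoidHom, hθ, ?_, ?_, ?_⟩
  · have hr : (θ₁.comp b.toMonoidHom).range = θ₁.range := by
      ext y
      constructor
      · rintro ⟨x, rfl⟩
        exact ⟨b x, rfl⟩
      · rintro ⟨x, rfl⟩
        refine ⟨b⁻¹ x, ?_⟩
        show θ₁ (b (b⁻¹ x)) = θ₁ x
        rw [MulAut.apply_inv_self]
    rw [hr]
    exact hrec
  · have hle : TB ≤ conjSub S U (θ₁.comp b.toMonoidHom) ⊓ B₀ := by
      intro t ht
      exact ⟨(hmem t).mpr (hbT t ht), (hTB.1 ht).2⟩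
    have hp : IsPGroup p ↥(conjSub S U (θ₁.comp b.toMonoidHom) ⊓ B₀) :=
      (isPGroup_conjSub hS _ (F.injective_of_mem hθ)).to_le inf_le_left
    have hle2 : conjSub S U (θ₁.comp b.toMonoidHom) ⊓ B₀ ≤ F.autGroup U ⊓ B₀ :=
      inf_le_inf_right _ (conjSub_le_autGroup F hθ)
    have h7 := hTB.eq_of_le hp hle2 hle
    rw [← h7]
    exact hTB
  · intro y hy
    exact (hmem y).mpr (hbT y (hYTB hy))

/-- automorphisms of `U` restricting on `P ≤ U` to an automorphism of `P` lying in `I` -/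
def stabOne {P U : Subgroup Ω} (hPU : P ≤ U) (I : Subgroup (MulAut P)) :
    Subgroup (MulAut U) where
  carrier := {β | ∃ π ∈ I, ∀ x : P, ((β (Subgroup.inclusion hPU x) : U) : Ω) = π x}
  one_mem' := ⟨1, I.one_mem, fun x => rfl⟩
  mul_mem' := by
    rintro a b ⟨π₁, h₁, e₁⟩ ⟨π₂, h₂, e₂⟩
    refine ⟨π₁ * π₂, I.mul_mem h₁ h₂, fun x => ?_⟩
    have h3 : b (Subgroup.inclusion hPU x) = Subgroup.inclusion hPU (π₂ x) :=
      Subtype.ext (e₂ x)
    rw [MulAut.mul_apply, h3, e₁]
    rfl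
  inv_mem' := by
    rintro a ⟨π, h, e⟩
    refine ⟨π⁻¹, I.inv_mem h, fun x => ?_⟩
    have h3 : a (Subgroup.inclusion hPU (π⁻¹ x)) = Subgroup.inclusion hPU x := by
      apply Subtype.ext
      rw [e, MulAut.apply_inv_self]
      rfl
    rw [← h3, MulAut.inv_apply_self]
    rfl

theorem mem_stabOne {P U : Subgroup Ω} {hPU : P ≤ U} {I : Subgroup (MulAut P)}
    {β : MulAut U} : β ∈ stabOne hPU I ↔
      ∃ π ∈ I, ∀ x : P, ((β (Subgroup.inclusion hPU x) : U) : Ω) = π x := Iff.rfl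

/-- the restriction homomorphism `stabOne hPU I → Aut(P)` -/
noncomputable def stabOneRes {P U : Subgroup Ω} (hPU : P ≤ U) (I : Subgroup (MulAut P)) :
    ↥(stabOne hPU I) →* MulAut P where
  toFun β := Classical.choose β.2
  map_one' := by
    apply MulEquiv.ext
    intro x
    apply Subtype.ext
    exact ((Classical.choose_spec (1 : ↥(stabOne hPU I)).2).2 x).symm
  map_mul' := by
    intro a b
    apply MulEquiv.ext
    intro x
    apply Subtype.ext
    have h1 := (Classical.choose_spec (a * b).2).2 x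
    have h2 := (Classical.choose_spec b.2).2 x
    have h3 := (Classical.choose_spec a.2).2 (Classical.choose b.2 x)
    have h4 : (b : MulAut U) (Subgroup.inclusion hPU x) =
        Subgroup.inclusion hPU (Classical.choose b.2 x) := Subtype.ext h2
    rw [← h1]
    show (((a : MulAut U) ((b : MulAut U) (Subgroup.inclusion hPU x)) : U) : Ω) = _
    rw [h4, h3]
    rfl

theorem stabOneRes_apply {P U : Subgroup Ω} (hPU : P ≤ U) (I : Subgroup (MulAut P))
    (β : ↥(stabOne hPU I)) (x : P) :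
    ((stabOneRes hPU I β x : P) : Ω) = (((β : MulAut U) (Subgroup.inclusion hPU x) : U) : Ω) :=
  ((Classical.choose_spec β.2).2 x).symm

/-- the image of a Sylow subgroup under a homomorphism is a Sylow subgroup of the image -/
theorem cardSyl_map_of_sylow {G H : Type*} [Group G] [Finite G] [Group H] (p : ℕ)
    [Fact p.Prime] (R : Sylow p G) (f : G →* H) :
    CardSyl p ((R : Subgroup G).map f) f.range := by
  refine ⟨Subgroup.map_le_range f _, ?_⟩
  have h1 : ((R : Subgroup G).map f.rangeRestrict).map f.range.subtype =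
      (R : Subgroup G).map f := by
    rw [Subgroup.map_map]
    rfl
  have hfin : Finite f.range := Finite.of_surjective f.rangeRestrict f.rangeRestrict_surjective
  have h2 := (R.mapSurjective f.rangeRestrict_surjective).card_eq_multiplicity
  rw [Sylow.coe_mapSurjective] at h2
  rw [← h1, Subgroup.card_map_of_injective f.range.subtype_injective]
  exact h2

end Cfsg.Agent.Helper26
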