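import Mathlib
import Cfsg.Agent.Helper26.KNorm

set_option autoImplicit false

namespace Cfsg.Agent.Helper26

open Cfsg Cfsg.FusionSystem

variable {Ω : Type*} [Group Ω] {S : Subgroup Ω}

/-- Data of a `K`-normalizer system: `N = N_S^K(Q)`, `E = N_F^K(Q)`, together with the
consequence `H1` of `Q` being fully `K`-normalized that is used in the proof of saturation. -/
structure KCtx (F : FusionSystem S) (Q : Subgroup Ω) (K : Subgroup (MulAut Q))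
    (N : Subgroup Ω) (E : FusionSystem N) : Prop where
  hQS : Q ≤ S
  hN : ∀ g : Ω, g ∈ N ↔ g ∈ S ∧ ∃ κ ∈ K, ∀ x : Q, ((κ x : Q) : Ω) = g * x * g⁻¹
  hE : ∀ (P : Subgroup Ω) (φ : P →* Ω), φ ∈ E.Hom P ↔ φ ∈ F.Hom P ∧ P ≤ N ∧
      (∀ x : P, φ x ∈ N) ∧
      ∃ ψ ∈ F.Hom (P ⊔ Q), (∀ x : P, ψ (Subgroup.inclusion le_sup_left x) = φ x) ∧
        ∃ κ ∈ K, ∀ x : Q, ψ (Subgroup.inclusion le_sup_right x) = κ x
  H1 : ∀ (θ : Q →* Ω), θ ∈ F.Hom Q → ∀ D' : Subgroup Ω, D' ≤ S →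
      (∀ g ∈ D', ∃ κ ∈ K, ∀ x : Q, θ (κ x) = g * θ x * g⁻¹) →
      ∃ ν ∈ F.Hom (D' ⊔ θ.range),
        (∀ (g : Ω) (hg : g ∈ D'), ν ⟨g, (le_sup_left : D' ≤ D' ⊔ θ.range) hg⟩ ∈ N) ∧
        ∃ κ ∈ K, ∀ x : Q,
          ν ⟨θ x, (le_sup_right : θ.range ≤ D' ⊔ θ.range) ⟨x, rfl⟩⟩ = κ x

/-- automorphisms of `P ⊔ Q` stabilizing `P` and acting on `Q` as an element of `K` -/
def kStab (P : Subgroup Ω) {Q : Subgroup Ω} (K : Subgroup (MulAut Q)) :
    Subgroup (MulAut ↥(P ⊔ Q)) :=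
  stabOne (le_sup_left : P ≤ P ⊔ Q) ⊤ ⊓ stabOne (le_sup_right : Q ≤ P ⊔ Q) K

/-- the elements of `S` inducing on `θ(U)` the transport of an element of `B` -/
def conjElts (S U : Subgroup Ω) (θ : U →* Ω) (B : Subgroup (MulAut U)) : Subgroup Ω where
  carrier := {h | h ∈ S ∧ ∃ β ∈ B, ∀ x : U, θ (β x) = h * θ x * h⁻¹}
  one_mem' := ⟨S.one_mem, 1, B.one_mem, fun x => by simp⟩
  mul_mem' := by
    rintro a b ⟨ha, β₁, hβ₁, e₁⟩ ⟨hb, β₂, hβ₂, e₂⟩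
    refine ⟨S.mul_mem ha hb, β₁ * β₂, B.mul_mem hβ₁ hβ₂, fun x => ?_⟩
    rw [MulAut.mul_apply, e₁, e₂]
    group
  inv_mem' := by
    rintro a ⟨ha, β, hβ, e⟩
    refine ⟨S.inv_mem ha, β⁻¹, B.inv_mem hβ, fun x => ?_⟩
    have := e (β⁻¹ x)
    rw [MulAut.apply_inv_self] at this
    rw [this]
    group

theorem mem_normalizer_sup {P Q : Subgroup Ω} {g : Ω}
    (hP : g ∈ Subgroup.normalizer (P : Set Ω)) (hQ : g ∈ Subgroup.normalizer (Q : Set Ω)) :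
    g ∈ Subgroup.normalizer ((P ⊔ Q : Subgroup Ω) : Set Ω) := by
  have h1 : (P ⊔ Q).map (MulAut.conj g).toMonoidHom = P ⊔ Q := by
    rw [Subgroup.map_sup, map_conj_eq_self_of_mem_normalizer hP,
      map_conj_eq_self_of_mem_normalizer hQ]
  rw [Subgroup.mem_normalizer_iff]
  intro x
  constructor
  · intro hx
    rw [← h1]
    exact ⟨x, hx, rfl⟩
  · intro hx
    rw [← h1] at hx
    obtain ⟨y, hy, hyx⟩ := hx
    have h2 : g * y * g⁻¹ = g * x * g⁻¹ := hyx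
    have h3 : y = x := mul_left_cancel (mul_right_cancel h2)
    rw [← h3]
    exact hy

theorem mem_kStab_of_conj {P Q : Subgroup Ω} {K : Subgroup (MulAut Q)} {g : Ω}
    (hgP : g ∈ Subgroup.normalizer (P : Set Ω))
    (hgK : ∃ κ ∈ K, ∀ x : Q, ((κ x : Q) : Ω) = g * x * g⁻¹)
    {β : MulAut ↥(P ⊔ Q)} (hβ : ∀ x : ↥(P ⊔ Q), ((β x : ↥(P ⊔ Q)) : Ω) = g * x * g⁻¹) :
    β ∈ kStab P K := by
  refine ⟨⟨P.normalizerMonoidHom ⟨g, hgP⟩, Subgroup.mem_top _, fun x => ?_⟩, ?_⟩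
  · exact hβ _
  · obtain ⟨κ, hκ, e⟩ := hgK
    exact ⟨κ, hκ, fun x => (hβ _).trans (e x).symm⟩

/-- The key construction: for `P` fully normalized in the `K`-normalizer system there is a map
`θ` on `P ⊔ Q` with receptive image, extending to `θ'` on `N_N(P)`, such that
`Aut_{N_N(P)}(PQ)` becomes a Sylow subgroup and `θ'(N_N(P))` is the full stabilizer in `S`. -/
theorem KCtx.core [Finite S] (p : ℕ) [Fact p.Prime] (hS : IsPGroup p S)
    {F : FusionSystem S} (hF : F.IsSaturated p) {Q : Subgroup Ω} {K : Subgroup (MulAut Q)}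
    {N : Subgroup Ω} {E : FusionSystem N} (C : KCtx F Q K N E) (P : Subgroup Ω)
    (hP : E.IsFullyNormalized P) :
    ∃ θ ∈ F.Hom (P ⊔ Q), ∃ θ' ∈ F.Hom (extender S (P ⊔ Q) θ), F.IsReceptive θ.range ∧
      CardSyl p (conjSub S (P ⊔ Q) θ ⊓ kStab P K) (F.autGroup (P ⊔ Q) ⊓ kStab P K) ∧
      normalizerIn N P ≤ extender S (P ⊔ Q) θ ∧
      (∀ (x : Ω) (hU : x ∈ P ⊔ Q) (hW : x ∈ extender S (P ⊔ Q) θ),
        θ' ⟨x, hW⟩ = θ ⟨x, hU⟩) ∧
      (∀ h ∈ S, ∀ β ∈ kStab P K, (∀ x : ↥(P ⊔ Q), θ (β x) = h * θ x * h⁻¹) →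
        ∃ (d : Ω) (_ : d ∈ normalizerIn N P) (hdW : d ∈ extender S (P ⊔ Q) θ),
          θ' ⟨d, hdW⟩ = h) := by
  have hNS : N ≤ S := fun g hg => ((C.hN g).mp hg).1
  have hfinN : Finite N := finite_of_le hNS
  have hPN : P ≤ N := hP.1
  have hPS : P ≤ S := hPN.trans hNS
  have hU : P ⊔ Q ≤ S := sup_le hPS C.hQS
  have hDS : normalizerIn N P ≤ S := inf_le_left.trans hNS
  have hDK : ∀ g ∈ normalizerIn N P, ∃ κ ∈ K, ∀ x : Q, ((κ x : Q) : Ω) = g * x * g⁻¹ :=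
    fun g hg => ((C.hN g).mp hg.1).2
  have hDU : ∀ g ∈ normalizerIn N P,
      g ∈ Subgroup.normalizer ((P ⊔ Q : Subgroup Ω) : Set Ω) := by
    intro g hg
    obtain ⟨κ, -, e⟩ := hDK g hg
    exact mem_normalizer_sup hg.2 (mem_normalizer_of_conj_aut e)
  have hY : IsPGroup p (autInducedBy (normalizerIn N P) (P ⊔ Q)) :=
    isPGroup_autInducedBy (hS.to_le hDS) _
  have hYA : autInducedBy (normalizerIn N P) (P ⊔ Q) ≤ F.autGroup (P ⊔ Q) ⊓ kStab P K := by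
    intro β hβ
    obtain ⟨g, hg, e⟩ := mem_autInducedBy_iff.mp hβ
    refine ⟨autInducedBy_le_autGroup F hU (mem_autInducedBy_iff.mpr ⟨g, hDS hg, e⟩), ?_⟩
    exact mem_kStab_of_conj hg.2 (hDK g hg) e
  obtain ⟨θ, hθ, hrec, hsyl, hYT⟩ := exists_good_map p hS F hF hU (kStab P K) _ hY hYA
  have hθS : ∀ x, θ x ∈ S := (F.le_of_mem hθ).2
  have hDW : normalizerIn N P ≤ extender S (P ⊔ Q) θ := by
    intro g hg
    rw [mem_extender_iff]
    refine ⟨hDS hg, hDU g hg, ?_⟩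
    have hβ : (P ⊔ Q).normalizerMonoidHom ⟨g, hDU g hg⟩ ∈
        autInducedBy (normalizerIn N P) (P ⊔ Q) :=
      mem_autInducedBy_iff.mpr ⟨g, hg, fun x => rfl⟩
    obtain ⟨h, hh, e⟩ := hYT hβ
    exact ⟨h, hh, fun x hx => e x⟩
  have hUW : P ⊔ Q ≤ extender S (P ⊔ Q) θ := le_extender hU θ hθS
  obtain ⟨θ', hθ', hθ'θ⟩ := hrec.2 (P ⊔ Q) θ hθ rfl
  refine ⟨θ, hθ, θ', hθ', hrec, hsyl, hDW, hθ'θ, ?_⟩
  intro h hh β hβ e
  have hD'S : conjElts S (P ⊔ Q) θ (kStab P K) ≤ S := fun g hg => hg.1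
  have hfinD' : Finite ↥(conjElts S (P ⊔ Q) θ (kStab P K)) := finite_of_le hD'S
  have hfinD : Finite ↥(normalizerIn N P) := finite_of_le hDS
  have hθ'mul : ∀ (d x : Ω) (hd : d ∈ extender S (P ⊔ Q) θ) (hx : x ∈ P ⊔ Q)
      (hdx : d * x * d⁻¹ ∈ P ⊔ Q),
      θ ⟨d * x * d⁻¹, hdx⟩ = θ' ⟨d, hd⟩ * θ ⟨x, hx⟩ * (θ' ⟨d, hd⟩)⁻¹ := by
    intro d x hd hx hdx
    rw [← hθ'θ _ hdx (hUW hdx), ← hθ'θ x hx (hUW hx), ← map_inv, ← map_mul, ← map_mul]
    rfl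
  have hθ'D : ∀ (d : Ω) (hd : d ∈ normalizerIn N P),
      θ' ⟨d, hDW hd⟩ ∈ conjElts S (P ⊔ Q) θ (kStab P K) := by
    intro d hd
    refine ⟨(F.le_of_mem hθ').2 _, (P ⊔ Q).normalizerMonoidHom ⟨d, hDU d hd⟩,
      mem_kStab_of_conj hd.2 (hDK d hd) (fun x => rfl), fun x => ?_⟩
    exact hθ'mul d x (hDW hd) x.2 _
  have hcard : Nat.card ↥(conjElts S (P ⊔ Q) θ (kStab P K)) ≤
      Nat.card ↥(normalizerIn N P) := by
    have hθQ : θ.comp (Subgroup.inclusion (le_sup_right : Q ≤ P ⊔ Q)) ∈ F.Hom Q :=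
      restrict_mem F hθ le_sup_right
    have hD'K : ∀ g ∈ conjElts S (P ⊔ Q) θ (kStab P K), ∃ κ ∈ K, ∀ x : Q,
        (θ.comp (Subgroup.inclusion (le_sup_right : Q ≤ P ⊔ Q))) (κ x) =
          g * (θ.comp (Subgroup.inclusion (le_sup_right : Q ≤ P ⊔ Q))) x * g⁻¹ := by
      rintro g ⟨-, β, hβ, e⟩
      obtain ⟨κ, hκ, eκ⟩ := hβ.2
      refine ⟨κ, hκ, fun x => ?_⟩
      have h1 : β (Subgroup.inclusion le_sup_right x) = Subgroup.inclusion le_sup_right (κ x) :=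
        Subtype.ext (eκ x)
      have h2 := e (Subgroup.inclusion le_sup_right x)
      rw [h1] at h2
      exact h2
    obtain ⟨ν, hν, hνN, κ₀, hκ₀, hνκ⟩ := C.H1 _ hθQ _ hD'S hD'K
    have hθP : ∀ y : P, θ (Subgroup.inclusion le_sup_left y) ∈
        conjElts S (P ⊔ Q) θ (kStab P K) := by
      intro y
      refine ⟨hθS _, MulAut.conj (Subgroup.inclusion le_sup_left y : ↥(P ⊔ Q)), ?_, fun x => ?_⟩
      · exact mem_kStab_of_conj (Subgroup.le_normalizer y.2) (((C.hN _).mp (hPN y.2)).2)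
          (fun x => rfl)
      · rw [MulAut.conj_apply, map_mul, map_mul, map_inv]
    have hθmem : ∀ u : ↥(P ⊔ Q), θ u ∈ conjElts S (P ⊔ Q) θ (kStab P K) ⊔
        (θ.comp (Subgroup.inclusion (le_sup_right : Q ≤ P ⊔ Q))).range :=
      forall_mem_of_sup (fun y => (le_sup_left : conjElts S (P ⊔ Q) θ (kStab P K) ≤ _) (hθP y))
        (fun q => (le_sup_right : (θ.comp (Subgroup.inclusion
          (le_sup_right : Q ≤ P ⊔ Q))).range ≤ _) ⟨q, rfl⟩)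
    have hlam' := F.comp_mem hθ hν hθmem
    have hlam := restrict_mem F hlam' (le_sup_left : P ≤ P ⊔ Q)
    have hlamE : (ν.comp (θ.codRestrict _ hθmem)).comp
        (Subgroup.inclusion (le_sup_left : P ≤ P ⊔ Q)) ∈ E.Hom P := by
      rw [C.hE]
      exact ⟨hlam, hPN, fun y => hνN _ (hθP y), _, hlam', fun x => rfl, κ₀, hκ₀,
        fun x => hνκ x⟩
    have hle := hP.2 _ ⟨_, hlamE, rfl⟩
    refine le_trans ?_ hle
    have key : ∀ (g : Ω) (hg : g ∈ conjElts S (P ⊔ Q) θ (kStab P K)),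
        ∀ z ∈ ((ν.comp (θ.codRestrict _ hθmem)).comp
          (Subgroup.inclusion (le_sup_left : P ≤ P ⊔ Q))).range,
        ν ⟨g, Subgroup.mem_sup_left hg⟩ * z * (ν ⟨g, Subgroup.mem_sup_left hg⟩)⁻¹ ∈
          ((ν.comp (θ.codRestrict _ hθmem)).comp
            (Subgroup.inclusion (le_sup_left : P ≤ P ⊔ Q))).range := by
      rintro g hg _ ⟨y, rfl⟩
      obtain ⟨β, hβ, e⟩ := hg.2
      obtain ⟨π, -, eπ⟩ := hβ.1
      refine ⟨π y, ?_⟩
      have h1 : β (Subgroup.inclusion le_sup_left y) = Subgroup.inclusion le_sup_left (π y) :=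
        Subtype.ext (eπ y)
      have h2 : θ (Subgroup.inclusion le_sup_left (π y)) =
          g * θ (Subgroup.inclusion le_sup_left y) * g⁻¹ := by
        rw [← h1]
        exact e _
      have h3 : (⟨θ (Subgroup.inclusion le_sup_left (π y)), hθmem _⟩ :
          ↥(conjElts S (P ⊔ Q) θ (kStab P K) ⊔
            (θ.comp (Subgroup.inclusion (le_sup_right : Q ≤ P ⊔ Q))).range)) =
          ⟨g, Subgroup.mem_sup_left hg⟩ * ⟨θ (Subgroup.inclusion le_sup_left y), hθmem _⟩ *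
            ⟨g, Subgroup.mem_sup_left hg⟩⁻¹ := Subtype.ext h2
      show ν ⟨θ (Subgroup.inclusion le_sup_left (π y)), hθmem _⟩ =
        ν ⟨g, Subgroup.mem_sup_left hg⟩ * ν ⟨θ (Subgroup.inclusion le_sup_left y), hθmem _⟩ *
          (ν ⟨g, Subgroup.mem_sup_left hg⟩)⁻¹
      rw [h3, map_mul, map_mul, map_inv]
    have hnorm : ∀ (g : Ω) (hg : g ∈ conjElts S (P ⊔ Q) θ (kStab P K)),
        ν ⟨g, Subgroup.mem_sup_left hg⟩ ∈ normalizerIn N ((ν.comp (θ.codRestrict _ hθmem)).comp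
          (Subgroup.inclusion (le_sup_left : P ≤ P ⊔ Q))).range := by
      intro g hg
      refine ⟨hνN g hg, mem_normalizer_of_conj_mem (key g hg) ?_⟩
      intro z hz
      have h4 := key g⁻¹ (inv_mem hg) z hz
      have h5 : ν ⟨g⁻¹, Subgroup.mem_sup_left (inv_mem hg)⟩ = (ν ⟨g, Subgroup.mem_sup_left hg⟩)⁻¹ := by
        rw [← map_inv]
        rfl
      rw [h5, inv_inv] at h4
      exact h4
    exact Nat.card_le_card_of_injective
      (fun g : ↥(conjElts S (P ⊔ Q) θ (kStab P K)) =>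
        (⟨ν ⟨g, Subgroup.mem_sup_left g.2⟩, hnorm g g.2⟩ : ↥(normalizerIn N _))) (by
      intro a b hab
      have h1 := congrArg Subtype.val hab
      have h2 := F.injective_of_mem hν h1
      exact Subtype.ext (Subtype.mk.inj h2))
  have hinj : Function.Injective (fun d : ↥(normalizerIn N P) =>
      (⟨θ' ⟨d, hDW d.2⟩, hθ'D d d.2⟩ : ↥(conjElts S (P ⊔ Q) θ (kStab P K)))) := by
    intro a b hab
    have h1 := congrArg Subtype.val hab
    have h2 := F.injective_of_mem hθ' h1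
    exact Subtype.ext (Subtype.mk.inj h2)
  have hbij := hinj.bijective_of_nat_card_le hcard
  obtain ⟨d, hd⟩ := hbij.2 ⟨h, hh, β, hβ, e⟩
  exact ⟨d, d.2, hDW d.2, congrArg Subtype.val hd⟩

end Cfsg.Agent.Helper26
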