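import Mathlib
import Cfsg.Agent.Helper26.KNormCore

set_option autoImplicit false

namespace Cfsg.Agent.Helper26

open Cfsg Cfsg.FusionSystem

variable {Ω : Type*} [Group Ω] {S : Subgroup Ω}

theorem stabOne_mono {P U : Subgroup Ω} (hPU : P ≤ U) {I J : Subgroup (MulAut P)}
    (hIJ : I ≤ J) : stabOne hPU I ≤ stabOne hPU J := by
  rintro β ⟨π, hπ, e⟩
  exact ⟨π, hIJ hπ, e⟩

/-- consequence of `KCtx.core`: the elements of the Sylow subgroup are induced by `N_N(P)` -/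
theorem conj_of_core (F : FusionSystem S) {P Q : Subgroup Ω} {K : Subgroup (MulAut Q)}
    {N : Subgroup Ω} {θ : ↥(P ⊔ Q) →* Ω} {θ' : ↥(extender S (P ⊔ Q) θ) →* Ω}
    (hθ' : θ' ∈ F.Hom (extender S (P ⊔ Q) θ)) (hUW : P ⊔ Q ≤ extender S (P ⊔ Q) θ)
    (hθ'θ : ∀ (x : Ω) (hU : x ∈ P ⊔ Q) (hW : x ∈ extender S (P ⊔ Q) θ),
      θ' ⟨x, hW⟩ = θ ⟨x, hU⟩)
    (hA3 : ∀ h ∈ S, ∀ β ∈ kStab P K, (∀ x : ↥(P ⊔ Q), θ (β x) = h * θ x * h⁻¹) →
      ∃ (d : Ω) (_ : d ∈ normalizerIn N P) (hdW : d ∈ extender S (P ⊔ Q) θ),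
        θ' ⟨d, hdW⟩ = h)
    {β : MulAut ↥(P ⊔ Q)} (hβ : β ∈ conjSub S (P ⊔ Q) θ ⊓ kStab P K) :
    ∃ d ∈ normalizerIn N P, ∀ x : ↥(P ⊔ Q), ((β x : ↥(P ⊔ Q)) : Ω) = d * x * d⁻¹ := by
  obtain ⟨h, hh, e⟩ := hβ.1
  obtain ⟨d, hd, hdW, hdh⟩ := hA3 h hh β hβ.2 e
  refine ⟨d, hd, fun x => ?_⟩
  have h1 : θ' ⟨(β x : Ω), hUW (β x).2⟩ = θ' (⟨d, hdW⟩ * ⟨x, hUW x.2⟩ * ⟨d, hdW⟩⁻¹) := by
    rw [hθ'θ _ (β x).2, map_mul, map_mul, map_inv, hdh, hθ'θ _ x.2]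
    exact e x
  have h2 := F.injective_of_mem hθ' h1
  exact congrArg Subtype.val h2

/-- a fully normalized subgroup of the `K`-normalizer system is fully automized -/
theorem KCtx.fullyAutomized [Finite S] (p : ℕ) [Fact p.Prime] (hS : IsPGroup p S)
    {F : FusionSystem S} (hF : F.IsSaturated p) {Q : Subgroup Ω} {K : Subgroup (MulAut Q)}
    {N : Subgroup Ω} {E : FusionSystem N} (C : KCtx F Q K N E) (P : Subgroup Ω)
    (hP : E.IsFullyNormalized P) : E.IsFullyAutomized p P := by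
  have hNS : N ≤ S := fun g hg => ((C.hN g).mp hg).1
  have hfinN : Finite N := finite_of_le hNS
  have hPN : P ≤ N := hP.1
  have hPS : P ≤ S := hPN.trans hNS
  have hU : P ⊔ Q ≤ S := sup_le hPS C.hQS
  have hfinU : Finite ↥(P ⊔ Q) := finite_of_le hU
  have hfinP : Finite P := finite_of_le hPS
  obtain ⟨θ, hθ, θ', hθ', hrec, hsyl, hDW, hθ'θ, hA3⟩ := C.core p hS hF P hP
  have hUW : P ⊔ Q ≤ extender S (P ⊔ Q) θ := le_extender hU θ (F.le_of_mem hθ).2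
  refine ⟨hPN, (sylow_iff_cardSyl p (autInducedBy_le_autGroup E hPN)).mpr ?_⟩
  have hle : F.autGroup (P ⊔ Q) ⊓ kStab P K ≤ stabOne (le_sup_left : P ≤ P ⊔ Q) ⊤ :=
    inf_le_right.trans inf_le_left
  obtain ⟨R, hR⟩ := (sylow_iff_cardSyl p hsyl.1).mpr hsyl
  obtain ⟨ρ, hρ⟩ : ∃ ρ : ↥(F.autGroup (P ⊔ Q) ⊓ kStab P K) →* MulAut P,
      ∀ (β : ↥(F.autGroup (P ⊔ Q) ⊓ kStab P K)) (x : P), ((ρ β x : P) : Ω) =
        (((β : MulAut ↥(P ⊔ Q)) (Subgroup.inclusion le_sup_left x) : ↥(P ⊔ Q)) : Ω) :=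
    ⟨(stabOneRes (le_sup_left : P ≤ P ⊔ Q) ⊤).comp (Subgroup.inclusion hle),
      fun β x => stabOneRes_apply _ _ _ x⟩
  have h1 := cardSyl_map_of_sylow p R ρ
  have e1 : (R : Subgroup _).map ρ = autInducedBy N P := by
    ext α
    rw [mem_autInducedBy_iff]
    constructor
    · rintro ⟨β, hβ, rfl⟩
      rw [SetLike.mem_coe, hR, Subgroup.mem_subgroupOf] at hβ
      obtain ⟨d, hd, e⟩ := conj_of_core F hθ' hUW hθ'θ hA3 hβ
      exact ⟨d, hd.1, fun x => (hρ β x).trans (e _)⟩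
    · rintro ⟨g, hg, e⟩
      have hgP : g ∈ normalizerIn N P := ⟨hg, mem_normalizer_of_conj_aut e⟩
      obtain ⟨hgS, hgU, h, hh, eh⟩ := mem_extender_iff.mp (hDW hgP)
      have hβT : (P ⊔ Q).normalizerMonoidHom ⟨g, hgU⟩ ∈ conjSub S (P ⊔ Q) θ :=
        ⟨h, hh, fun x => eh x _⟩
      have hβK : (P ⊔ Q).normalizerMonoidHom ⟨g, hgU⟩ ∈ kStab P K :=
        mem_kStab_of_conj hgP.2 (((C.hN g).mp hg).2) (fun x => rfl)
      have hβA := conjSub_le_autGroup F hθ hβT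
      refine ⟨⟨_, hβA, hβK⟩, ?_, ?_⟩
      · rw [SetLike.mem_coe, hR, Subgroup.mem_subgroupOf]
        exact ⟨hβT, hβK⟩
      · apply MulEquiv.ext
        intro x
        apply Subtype.ext
        rw [hρ]
        exact (e x).symm
  have e2 : ρ.range = E.autGroup P := by
    ext α
    rw [mem_autGroup_iff E hPN, C.hE]
    constructor
    · rintro ⟨β, rfl⟩
      have hβA := (mem_autGroup_iff F hU).mp β.2.1
      refine ⟨?_, hPN, fun x => hPN (ρ β x).2, _, hβA, fun x => (hρ β x).symm, ?_⟩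
      · have h3 := restrict_mem F hβA (le_sup_left : P ≤ P ⊔ Q)
        have e3 : P.subtype.comp (ρ β).toMonoidHom =
            ((P ⊔ Q).subtype.comp (β : MulAut ↥(P ⊔ Q)).toMonoidHom).comp
              (Subgroup.inclusion (le_sup_left : P ≤ P ⊔ Q)) := by
          ext x
          exact hρ β x
        rw [e3]
        exact h3
      · obtain ⟨κ, hκ, eκ⟩ := β.2.2.2
        exact ⟨κ, hκ, eκ⟩
    · rintro ⟨-, -, -, ψ, hψ, hψα, κ, hκ, hψκ⟩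
      have hval : ∀ u : ↥(P ⊔ Q), ψ u ∈ P ⊔ Q :=
        forall_mem_of_sup (fun x => by
          rw [hψα]
          exact Subgroup.mem_sup_left (α x).2) (fun q => by
          rw [hψκ]
          exact Subgroup.mem_sup_right (κ q).2)
      have hinj : Function.Injective (ψ.codRestrict (P ⊔ Q) hval) :=
        fun a b hab => F.injective_of_mem hψ (congrArg Subtype.val hab)
      obtain ⟨β, hβψ⟩ : ∃ β : MulAut ↥(P ⊔ Q), ∀ u, ((β u : ↥(P ⊔ Q)) : Ω) = ψ u :=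
        ⟨MulEquiv.ofBijective (ψ.codRestrict (P ⊔ Q) hval)
          ⟨hinj, Finite.injective_iff_surjective.mp hinj⟩, fun u => rfl⟩
      have hβA : β ∈ F.autGroup (P ⊔ Q) := by
        rw [mem_autGroup_iff F hU]
        have e4 : (P ⊔ Q).subtype.comp β.toMonoidHom = ψ := by
          ext u
          exact hβψ u
        rw [e4]
        exact hψ
      have hβK : β ∈ kStab P K :=
        ⟨⟨α, Subgroup.mem_top _, fun x => (hβψ _).trans (hψα x)⟩,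
          ⟨κ, hκ, fun q => (hβψ _).trans (hψκ q)⟩⟩
      refine ⟨⟨β, hβA, hβK⟩, ?_⟩
      apply MulEquiv.ext
      intro x
      apply Subtype.ext
      rw [hρ]
      exact (hβψ _).trans (hψα x)
  rw [e1, e2] at h1
  exact h1

/-- a fully normalized subgroup of the `K`-normalizer system is receptive -/
theorem KCtx.receptive [Finite S] (p : ℕ) [Fact p.Prime] (hS : IsPGroup p S)
    {F : FusionSystem S} (hF : F.IsSaturated p) {Q : Subgroup Ω} {K : Subgroup (MulAut Q)}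
    {N : Subgroup Ω} {E : FusionSystem N} (C : KCtx F Q K N E) (P : Subgroup Ω)
    (hP : E.IsFullyNormalized P) : E.IsReceptive P := by
  have hNS : N ≤ S := fun g hg => ((C.hN g).mp hg).1
  have hfinN : Finite N := finite_of_le hNS
  have hPN : P ≤ N := hP.1
  have hPS : P ≤ S := hPN.trans hNS
  have hU : P ⊔ Q ≤ S := sup_le hPS C.hQS
  have hfinU : Finite ↥(P ⊔ Q) := finite_of_le hU
  obtain ⟨θ, hθ, θ', hθ', hrec, hsyl, hDW, hθ'θ, hA3⟩ := C.core p hS hF P hP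
  have hθS : ∀ x, θ x ∈ S := (F.le_of_mem hθ).2
  have hUW : P ⊔ Q ≤ extender S (P ⊔ Q) θ := le_extender hU θ hθS
  refine ⟨hPN, ?_⟩
  intro R φ hφ hφr
  obtain ⟨hφF, hRN, hφN, φ', hφ', hφ'φ, κφ, hκφ, hφ'κ⟩ := (C.hE R φ).mp hφ
  have hRS : R ≤ S := hRN.trans hNS
  have hRQ : R ⊔ Q ≤ S := sup_le hRS C.hQS
  have hφP : ∀ x : R, φ x ∈ P := fun x => (le_of_eq hφr) ⟨x, rfl⟩
  have hval : ∀ u : ↥(R ⊔ Q), φ' u ∈ P ⊔ Q :=
    forall_mem_of_sup (fun x => by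
      rw [hφ'φ]
      exact Subgroup.mem_sup_left (hφP x)) (fun q => by
      rw [hφ'κ]
      exact Subgroup.mem_sup_right (κφ q).2)
  have hinj : Function.Injective (φ'.codRestrict (P ⊔ Q) hval) :=
    fun a b hab => F.injective_of_mem hφ' (congrArg Subtype.val hab)
  have hsurj : Function.Surjective (φ'.codRestrict (P ⊔ Q) hval) := by
    have hle : P ⊔ Q ≤ φ'.range := by
      refine sup_le ?_ ?_
      · intro x hx
        obtain ⟨r, hr⟩ := (le_of_eq hφr.symm) hx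
        exact ⟨Subgroup.inclusion le_sup_left r, (hφ'φ r).trans hr⟩
      · intro q hq
        refine ⟨Subgroup.inclusion le_sup_right (κφ⁻¹ ⟨q, hq⟩), ?_⟩
        rw [hφ'κ, MulAut.apply_inv_self]
    intro u
    obtain ⟨v, hv⟩ := hle u.2
    exact ⟨v, Subtype.ext hv⟩
  obtain ⟨ê, hê⟩ : ∃ ê : ↥(R ⊔ Q) ≃* ↥(P ⊔ Q), ∀ v, ((ê v : ↥(P ⊔ Q)) : Ω) = φ' v :=
    ⟨MulEquiv.ofBijective (φ'.codRestrict (P ⊔ Q) hval) ⟨hinj, hsurj⟩, fun v => rfl⟩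
  have hêF : (P ⊔ Q).subtype.comp ê.toMonoidHom ∈ F.Hom (R ⊔ Q) := by
    have e1 : (P ⊔ Q).subtype.comp ê.toMonoidHom = φ' := by
      ext v
      exact hê v
    rw [e1]
    exact hφ'
  have hêR : ∀ r : R, ê (Subgroup.inclusion le_sup_left r) =
      Subgroup.inclusion le_sup_left (⟨φ r, hφP r⟩ : P) :=
    fun r => Subtype.ext ((hê _).trans (hφ'φ r))
  have hêQ : ∀ q : Q, ê (Subgroup.inclusion le_sup_right q) =
      Subgroup.inclusion le_sup_right (κφ q) :=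
    fun q => Subtype.ext ((hê _).trans (hφ'κ q))
  have hXN : extender N R φ ≤ N := (extender_le_normalizerIn N R φ).trans inf_le_left
  have hXS : extender N R φ ≤ S := hXN.trans hNS
  have hXdata : ∀ g ∈ extender N R φ, g ∈ N ∧ g ∈ Subgroup.normalizer (R : Set Ω) ∧
      ∃ h ∈ normalizerIn N P, ∀ (x : R) (hx : g * (x : Ω) * g⁻¹ ∈ R),
        φ ⟨g * x * g⁻¹, hx⟩ = h * φ x * h⁻¹ := by
    intro g hg
    obtain ⟨hgN, hgR, h, hh, e⟩ := mem_extender_iff.mp hg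
    refine ⟨hgN, hgR, h, ⟨hh, ?_⟩, e⟩
    have h1 := witness_mem_normalizer hgR e
    rwa [hφr] at h1
  have hXK : ∀ g ∈ extender N R φ, ∃ κ ∈ K, ∀ x : Q, ((κ x : Q) : Ω) = g * x * g⁻¹ :=
    fun g hg => ((C.hN g).mp (hXN hg)).2
  have hXU : ∀ g ∈ extender N R φ,
      g ∈ Subgroup.normalizer ((R ⊔ Q : Subgroup Ω) : Set Ω) := by
    intro g hg
    obtain ⟨κ, -, e⟩ := hXK g hg
    exact mem_normalizer_sup (hXdata g hg).2.1 (mem_normalizer_of_conj_aut e)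
  have hZp : IsPGroup p ((autInducedBy (extender N R φ) (R ⊔ Q)).map
      (MulAut.congr ê).toMonoidHom) :=
    (isPGroup_autInducedBy (hS.to_le hXS) _).map _
  have hB₀' : stabOne (le_sup_left : P ≤ P ⊔ Q) (autInducedBy (normalizerIn N P) P) ⊓
      stabOne (le_sup_right : Q ≤ P ⊔ Q) K ≤ kStab P K :=
    inf_le_inf_right _ (stabOne_mono _ le_top)
  have hTB : conjSub S (P ⊔ Q) θ ⊓ kStab P K ≤ F.autGroup (P ⊔ Q) ⊓
      (stabOne (le_sup_left : P ≤ P ⊔ Q) (autInducedBy (normalizerIn N P) P) ⊓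
        stabOne (le_sup_right : Q ≤ P ⊔ Q) K) := by
    intro β hβ
    obtain ⟨d, hd, e⟩ := conj_of_core F hθ' hUW hθ'θ hA3 hβ
    exact ⟨conjSub_le_autGroup F hθ hβ.1, ⟨P.normalizerMonoidHom ⟨d, hd.2⟩,
      mem_autInducedBy_iff.mpr ⟨d, hd, fun x => rfl⟩, fun x => e _⟩, hβ.2.2⟩
  have hsyl' := hsyl.of_le hTB (inf_le_inf_left _ hB₀')
  have hcongr : ∀ (α : MulAut ↥(R ⊔ Q)) (v : ↥(R ⊔ Q)),
      (MulAut.congr ê).toMonoidHom α (ê v) = ê (α v) := by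
    intro α v
    show ê (α (ê.symm (ê v))) = ê (α v)
    rw [MulEquiv.symm_apply_apply]
  have hZB : (autInducedBy (extender N R φ) (R ⊔ Q)).map (MulAut.congr ê).toMonoidHom ≤
      F.autGroup (P ⊔ Q) ⊓
      (stabOne (le_sup_left : P ≤ P ⊔ Q) (autInducedBy (normalizerIn N P) P) ⊓
        stabOne (le_sup_right : Q ≤ P ⊔ Q) K) := by
    rintro _ ⟨α, hα, rfl⟩
    obtain ⟨g, hg, e⟩ := mem_autInducedBy_iff.mp hα
    obtain ⟨hgN, hgR, h, hh, eh⟩ := hXdata g hg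
    refine ⟨map_congr_autGroup_le F hRQ hU ê hêF ⟨α, autInducedBy_le_autGroup F hRQ
      (mem_autInducedBy_iff.mpr ⟨g, hXS hg, e⟩), rfl⟩,
      ⟨P.normalizerMonoidHom ⟨h, hh.2⟩, mem_autInducedBy_iff.mpr ⟨h, hh, fun x => rfl⟩,
        fun x => ?_⟩, ?_⟩
    · obtain ⟨x, hxP⟩ := x
      obtain ⟨r, rfl⟩ := (le_of_eq hφr.symm) hxP
      have hgr : g * (r : Ω) * g⁻¹ ∈ R := (Subgroup.mem_normalizer_iff.mp hgR r).mp r.2
      have h1 : α (Subgroup.inclusion le_sup_left r) =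
          Subgroup.inclusion le_sup_left (⟨g * r * g⁻¹, hgr⟩ : R) := Subtype.ext (e _)
      have h2 : Subgroup.inclusion le_sup_left (⟨φ r, hxP⟩ : P) =
          ê (Subgroup.inclusion le_sup_left r) := (hêR r).symm
      rw [h2, hcongr, h1, hêR]
      exact eh r hgr
    · obtain ⟨κg, hκg, eκg⟩ := hXK g hg
      refine ⟨κφ * κg * κφ⁻¹, K.mul_mem (K.mul_mem hκφ hκg) (K.inv_mem hκφ), fun q => ?_⟩
      have h1 : α (Subgroup.inclusion le_sup_right (κφ⁻¹ q)) =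
          Subgroup.inclusion le_sup_right (κg (κφ⁻¹ q)) :=
        Subtype.ext ((e _).trans (eκg _).symm)
      have h2 : Subgroup.inclusion le_sup_right q =
          ê (Subgroup.inclusion le_sup_right (κφ⁻¹ q)) := by
        rw [hêQ, MulAut.apply_inv_self]
      rw [h2, hcongr, h1, hêQ]
      rfl
  obtain ⟨χ, hχ, hχZ⟩ := exists_conj_le_of_cardSyl p hsyl' hZp hZB
  obtain ⟨π₀, hπ₀, eπ₀⟩ := hχ.2.1
  obtain ⟨d₀, hd₀, ed₀⟩ := mem_autInducedBy_iff.mp hπ₀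
  obtain ⟨κχ, hκχ, eκχ⟩ := hχ.2.2
  have hχ' := (mem_autGroup_iff F hU).mp hχ.1
  have hξF' : θ.comp (χ.toMonoidHom.comp ê.toMonoidHom) ∈ F.Hom (R ⊔ Q) := by
    have step1 := F.comp_mem hêF hχ' (fun v => (ê v).2)
    have step2 := F.comp_mem step1 hθ (fun v => (χ (ê v)).2)
    have e2 : θ.comp (χ.toMonoidHom.comp ê.toMonoidHom) =
        θ.comp ((((P ⊔ Q).subtype.comp χ.toMonoidHom).comp
          (((P ⊔ Q).subtype.comp ê.toMonoidHom).codRestrict (P ⊔ Q)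
            (fun v => (ê v).2))).codRestrict (P ⊔ Q) (fun v => (χ (ê v)).2)) := by
      ext v
      rfl
    rw [e2]
    exact step2
  obtain ⟨ξ, hξF, hξ⟩ : ∃ ξ : ↥(R ⊔ Q) →* Ω, ξ ∈ F.Hom (R ⊔ Q) ∧
      ∀ v, ξ v = θ (χ (ê v)) :=
    ⟨θ.comp (χ.toMonoidHom.comp ê.toMonoidHom), hξF', fun v => rfl⟩
  have hξr : ξ.range = θ.range := by
    ext y
    constructor
    · rintro ⟨v, rfl⟩
      exact ⟨χ (ê v), (hξ v).symm⟩
    · rintro ⟨u, rfl⟩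
      refine ⟨ê.symm (χ⁻¹ u), ?_⟩
      rw [hξ, MulEquiv.apply_symm_apply, MulAut.apply_inv_self]
  have hξrec : F.IsReceptive ξ.range := by
    rw [hξr]
    exact hrec
  have hconjv : ∀ (α : MulAut ↥(R ⊔ Q)) (v : ↥(R ⊔ Q)),
      (χ * (MulAut.congr ê).toMonoidHom α * χ⁻¹) (χ (ê v)) = χ (ê (α v)) := by
    intro α v
    show χ ((MulAut.congr ê).toMonoidHom α (χ⁻¹ (χ (ê v)))) = χ (ê (α v))
    rw [MulAut.inv_apply_self, hcongr]
  have hXβ : ∀ (g : Ω) (hg : g ∈ extender N R φ),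
      χ * (MulAut.congr ê).toMonoidHom ((R ⊔ Q).normalizerMonoidHom ⟨g, hXU g hg⟩) * χ⁻¹ ∈
        conjSub S (P ⊔ Q) θ ⊓ kStab P K :=
    fun g hg => hχZ _ ⟨_, mem_autInducedBy_iff.mpr ⟨g, hg, fun x => rfl⟩, rfl⟩
  have hXext : extender N R φ ≤ extender S (R ⊔ Q) ξ := by
    intro g hg
    rw [mem_extender_iff]
    refine ⟨hXS hg, hXU g hg, ?_⟩
    obtain ⟨h, hh, e⟩ := (hXβ g hg).1
    refine ⟨h, hh, fun v hv => ?_⟩
    have h1 := e (χ (ê v))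
    rw [hconjv] at h1
    rw [hξ, hξ]
    exact h1
  have hRQext : R ⊔ Q ≤ extender S (R ⊔ Q) ξ :=
    le_extender hRQ ξ (fun v => by
      rw [hξ]
      exact hθS _)
  obtain ⟨ξ', hξ', hξ'ξ⟩ := hξrec.2 (R ⊔ Q) ξ hξF rfl
  have hξ'X : ∀ (g : Ω) (hg : g ∈ extender N R φ), ∃ (d : Ω) (_ : d ∈ normalizerIn N P)
      (hdW : d ∈ extender S (P ⊔ Q) θ), θ' ⟨d, hdW⟩ = ξ' ⟨g, hXext hg⟩ := by
    intro g hg
    refine hA3 _ ((F.le_of_mem hξ').2 _) _ (hXβ g hg).2 (fun u => ?_)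
    obtain ⟨⟨v, hv⟩, rfl⟩ : ∃ v, χ (ê v) = u :=
      ⟨ê.symm (χ⁻¹ u), by rw [MulEquiv.apply_symm_apply, MulAut.apply_inv_self]⟩
    rw [hconjv, ← hξ, ← hξ]
    have hgv : g * v * g⁻¹ ∈ R ⊔ Q :=
      (Subgroup.mem_normalizer_iff.mp (hXU g hg) v).mp hv
    have h1 : ((R ⊔ Q).normalizerMonoidHom ⟨g, hXU g hg⟩) ⟨v, hv⟩ = ⟨g * v * g⁻¹, hgv⟩ := rfl
    rw [h1, ← hξ'ξ _ hgv (hRQext hgv), ← hξ'ξ v hv (hRQext hv), ← map_inv, ← map_mul,
      ← map_mul]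
    rfl
  have hξ'Q : ∀ q : Q, ξ' ⟨q, hRQext (Subgroup.mem_sup_right q.2)⟩ =
      θ' ⟨((χ (ê (Subgroup.inclusion le_sup_right q)) : ↥(P ⊔ Q)) : Ω),
        hUW (χ (ê (Subgroup.inclusion le_sup_right q))).2⟩ := by
    intro q
    rw [hξ'ξ _ (Subgroup.mem_sup_right q.2),
      hθ'θ _ (χ (ê (Subgroup.inclusion le_sup_right q))).2, hξ]
    rfl
  have hXQ : extender N R φ ⊔ Q ≤ extender S (R ⊔ Q) ξ :=
    sup_le hXext (le_sup_right.trans hRQext)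
  have hξ₂ := restrict_mem F hξ' hXQ
  have hξ₂range : ∀ w : ↥(extender N R φ ⊔ Q),
      (ξ'.comp (Subgroup.inclusion hXQ)) w ∈ θ'.range :=
    forall_mem_of_sup (fun g => by
      obtain ⟨d, hd, hdW, e⟩ := hξ'X g g.2
      exact ⟨⟨d, hdW⟩, e⟩) (fun q => ⟨_, (hξ'Q q).symm⟩)
  obtain ⟨ι, hι, hιθ'⟩ := F.inv_mem hθ'
  have hψ := F.comp_mem hξ₂ hι hξ₂range
  obtain ⟨ψ, hψF, hψX, hψR, hψQ⟩ : ∃ ψ : ↥(extender N R φ ⊔ Q) →* Ω,
      ψ ∈ F.Hom (extender N R φ ⊔ Q) ∧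
      (∀ (g : Ω) (hg : g ∈ extender N R φ),
        ψ ⟨g, Subgroup.mem_sup_left hg⟩ ∈ normalizerIn N P) ∧
      (∀ (r : Ω) (hr : r ∈ R) (hrX : r ∈ extender N R φ),
        ψ ⟨r, Subgroup.mem_sup_left hrX⟩ = d₀ * φ ⟨r, hr⟩ * d₀⁻¹) ∧
      (∀ q : Q, ψ (Subgroup.inclusion le_sup_right q) = κχ (κφ q)) := by
    refine ⟨_, hψ, ?_, ?_, ?_⟩
    · intro g hg
      obtain ⟨d, hd, hdW, e⟩ := hξ'X g hg
      have h1 : (⟨ξ' ⟨g, hXext hg⟩, hξ₂range ⟨g, Subgroup.mem_sup_left hg⟩⟩ : θ'.range) =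
          ⟨θ' ⟨d, hdW⟩, ⟨_, rfl⟩⟩ := Subtype.ext e.symm
      show ι ⟨ξ' ⟨g, hXext hg⟩, hξ₂range ⟨g, Subgroup.mem_sup_left hg⟩⟩ ∈ normalizerIn N P
      rw [h1, hιθ']
      exact hd
    · intro r hr hrX
      have hx2 := (χ (Subgroup.inclusion le_sup_left (⟨φ ⟨r, hr⟩, hφP _⟩ : P))).2
      have h0 : ξ' ⟨r, hXext hrX⟩ =
          θ' ⟨((χ (Subgroup.inclusion le_sup_left (⟨φ ⟨r, hr⟩, hφP _⟩ : P)) : ↥(P ⊔ Q)) : Ω),
            hUW hx2⟩ := by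
        rw [hξ'ξ r (Subgroup.mem_sup_left hr), hθ'θ _ hx2, hξ]
        have h9 : ê ⟨r, Subgroup.mem_sup_left hr⟩ =
            Subgroup.inclusion le_sup_left (⟨φ ⟨r, hr⟩, hφP _⟩ : P) := hêR ⟨r, hr⟩
        rw [h9]
      have h1 : (⟨ξ' ⟨r, hXext hrX⟩, hξ₂range ⟨r, Subgroup.mem_sup_left hrX⟩⟩ : θ'.range) =
          ⟨θ' ⟨_, hUW hx2⟩, ⟨_, rfl⟩⟩ := Subtype.ext h0
      show ι ⟨ξ' ⟨r, hXext hrX⟩, hξ₂range ⟨r, Subgroup.mem_sup_left hrX⟩⟩ =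
        d₀ * φ ⟨r, hr⟩ * d₀⁻¹
      rw [h1, hιθ']
      exact (eπ₀ _).trans (ed₀ _)
    · intro q
      have hx2 := (χ (ê (Subgroup.inclusion le_sup_right q))).2
      have h1 : (⟨ξ' ⟨q, hRQext (Subgroup.mem_sup_right q.2)⟩,
          hξ₂range (Subgroup.inclusion le_sup_right q)⟩ : θ'.range) =
          ⟨θ' ⟨_, hUW hx2⟩, ⟨_, rfl⟩⟩ := Subtype.ext (hξ'Q q)
      show ι ⟨ξ' ⟨q, hRQext (Subgroup.mem_sup_right q.2)⟩,
        hξ₂range (Subgroup.inclusion le_sup_right q)⟩ = κχ (κφ q)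
      rw [h1, hιθ']
      show ((χ (ê (Subgroup.inclusion le_sup_right q)) : ↥(P ⊔ Q)) : Ω) = κχ (κφ q)
      rw [hêQ]
      exact eκχ _
  have hd₀S : d₀⁻¹ ∈ S := S.inv_mem (hNS hd₀.1)
  have hψS : ∀ w, ψ w ∈ S := (F.le_of_mem hψF).2
  have hψ₂ := F.comp_mem hψF (F.conj_mem (P := S) le_rfl hd₀S) hψS
  obtain ⟨κd, hκd, eκd⟩ := ((C.hN d₀⁻¹).mp (N.inv_mem hd₀.1)).2
  refine ⟨((conjHom S d₀⁻¹).comp (ψ.codRestrict S hψS)).comp (Subgroup.inclusion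
    (le_sup_left : extender N R φ ≤ extender N R φ ⊔ Q)), ?_, ?_⟩
  · rw [C.hE]
    refine ⟨restrict_mem F hψ₂ le_sup_left, hXN, fun g => ?_, _, hψ₂, fun x => rfl,
      κd * κχ * κφ, K.mul_mem (K.mul_mem hκd hκχ) hκφ, fun q => ?_⟩
    · have h1 := hψX g g.2
      show d₀⁻¹ * ψ ⟨g, Subgroup.mem_sup_left g.2⟩ * d₀⁻¹⁻¹ ∈ N
      exact N.mul_mem (N.mul_mem (N.inv_mem hd₀.1) h1.1) (N.inv_mem (N.inv_mem hd₀.1))
    · show d₀⁻¹ * ψ (Subgroup.inclusion le_sup_right q) * d₀⁻¹⁻¹ = ((κd * κχ * κφ) q : Ω)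
      rw [hψQ]
      exact (eκd _).symm
  · intro x hR hX
    show d₀⁻¹ * ψ ⟨x, Subgroup.mem_sup_left hX⟩ * d₀⁻¹⁻¹ = φ ⟨x, hR⟩
    rw [hψR x hR hX]
    group

/-- the `K`-normalizer system of a saturated system is saturated -/
theorem KCtx.saturated [Finite S] (p : ℕ) [Fact p.Prime] (hS : IsPGroup p S)
    {F : FusionSystem S} (hF : F.IsSaturated p) {Q : Subgroup Ω} {K : Subgroup (MulAut Q)}
    {N : Subgroup Ω} {E : FusionSystem N} (C : KCtx F Q K N E) : E.IsSaturated p := by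
  have hNS : N ≤ S := fun g hg => ((C.hN g).mp hg).1
  have hfinN : Finite N := finite_of_le hNS
  intro P hP
  obtain ⟨P₂, hconj, hfn⟩ := exists_fullyNormalized E hP
  exact ⟨P₂, hconj, C.fullyAutomized p hS hF P₂ hfn, C.receptive p hS hF P₂ hfn⟩

end Cfsg.Agent.Helper26
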