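import Mathlib
import Cfsg.Agent.Helper26.KNormSat

set_option autoImplicit false

namespace Cfsg.Agent.Helper26

open Cfsg Cfsg.FusionSystem

variable {Ω : Type*} [Group Ω] {S : Subgroup Ω}

/-- the normalizer system of a fully normalized subgroup is a `K`-normalizer system with
`K = Aut(Q)` -/
theorem kctx_normalizer [Finite S] (p : ℕ) [Fact p.Prime] (hS : IsPGroup p S)
    (F : FusionSystem S) (hF : F.IsSaturated p) (Q : Subgroup Ω) (hQ : F.IsFullyNormalized Q)
    (E : FusionSystem (normalizerIn S Q)) (hE : F.IsNormalizerSystem Q E) :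
    KCtx F Q ⊤ (normalizerIn S Q) E := by
  have hQS : Q ≤ S := hQ.1
  have hfinQ : Finite Q := finite_of_le hQS
  obtain ⟨hfc, hfa⟩ := fullyNormalized_props p hS F hF Q hQ
  have hrec := fullyCentralized_receptive p hS F hF Q hfc
  refine ⟨hQS, ?_, ?_, ?_⟩
  · intro g
    constructor
    · intro hg
      exact ⟨hg.1, Q.normalizerMonoidHom ⟨g, hg.2⟩, Subgroup.mem_top _, fun x => rfl⟩
    · rintro ⟨hgS, κ, -, e⟩
      exact ⟨hgS, mem_normalizer_of_conj_aut e⟩
  · intro P φ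
    rw [hE P]
    constructor
    · rintro ⟨h1, h2, h3, ψ, hψ, h4, h5⟩
      refine ⟨h1, h2, h3, ψ, hψ, h4, ?_⟩
      obtain ⟨h6, h7⟩ := (map_subgroupOf_eq_iff ψ).mp h5
      have hinj : Function.Injective ((ψ.comp (Subgroup.inclusion
          (le_sup_right : Q ≤ P ⊔ Q))).codRestrict Q h6) := by
        intro a b hab
        have h8 := F.injective_of_mem hψ (congrArg Subtype.val hab)
        exact Subgroup.inclusion_injective _ h8
      exact ⟨MulEquiv.ofBijective _ ⟨hinj, Finite.injective_iff_surjective.mp hinj⟩,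
        Subgroup.mem_top _, fun x => rfl⟩
    · rintro ⟨h1, h2, h3, ψ, hψ, h4, κ, -, h5⟩
      refine ⟨h1, h2, h3, ψ, hψ, h4, ?_⟩
      rw [map_subgroupOf_eq_iff]
      refine ⟨fun q => ?_, fun y hy => ⟨κ⁻¹ ⟨y, hy⟩, ?_⟩⟩
      · rw [h5]
        exact (κ q).2
      · rw [h5, MulAut.apply_inv_self]
  · intro θ hθ D' hD'S hD'
    have hconj : F.IsConj θ.range Q := isConj_symm F ⟨θ, hθ, rfl⟩
    obtain ⟨ν₀, hν₀, hν₀N, hν₀Q⟩ := exists_normalizer_map p hS F Q θ.range hfa hrec hconj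
    have hQ'S : θ.range ≤ S := range_le_of_mem F hθ
    have key : ∀ g ∈ D', ∀ y ∈ θ.range, g * y * g⁻¹ ∈ θ.range := by
      rintro g hg _ ⟨x, rfl⟩
      obtain ⟨κ, -, e⟩ := hD' g hg
      exact ⟨κ x, e x⟩
    have hD'N : D' ≤ normalizerIn S θ.range := by
      intro g hg
      refine ⟨hD'S hg, mem_normalizer_of_conj_mem (key g hg) (fun y hy => ?_)⟩
      have h1 := key g⁻¹ (inv_mem hg) y hy
      rwa [inv_inv] at h1
    have hle : D' ⊔ θ.range ≤ normalizerIn S θ.range := sup_le hD'N (le_normalizerIn hQ'S)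
    refine ⟨ν₀.comp (Subgroup.inclusion hle), restrict_mem F hν₀ hle, fun g hg => hν₀N _, ?_⟩
    have hmapQ : ∀ x : Q, ν₀ ⟨θ x, hle (Subgroup.mem_sup_right ⟨x, rfl⟩)⟩ ∈ Q := by
      intro x
      have h1 : ν₀ ⟨θ x, hle (Subgroup.mem_sup_right ⟨x, rfl⟩)⟩ ∈
          (θ.range.subgroupOf (normalizerIn S θ.range)).map ν₀ :=
        ⟨⟨θ x, _⟩, by
          rw [SetLike.mem_coe, Subgroup.mem_subgroupOf]
          exact ⟨x, rfl⟩, rfl⟩
      rw [hν₀Q] at h1
      exact h1
    have hinj : Function.Injective ((ν₀.comp (θ.codRestrict (normalizerIn S θ.range)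
        (fun x => hle (Subgroup.mem_sup_right ⟨x, rfl⟩)))).codRestrict Q hmapQ) := by
      intro a b hab
      have h1 := congrArg Subtype.val hab
      have h2 := F.injective_of_mem hν₀ h1
      exact F.injective_of_mem hθ (Subtype.mk.inj h2)
    exact ⟨MulEquiv.ofBijective _ ⟨hinj, Finite.injective_iff_surjective.mp hinj⟩,
      Subgroup.mem_top _, fun x => rfl⟩

/-- the centralizer system of a fully centralized subgroup is a `K`-normalizer system with
`K = 1` -/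
theorem kctx_centralizer [Finite S] (p : ℕ) [Fact p.Prime] (hS : IsPGroup p S)
    (F : FusionSystem S) (hF : F.IsSaturated p) (Q : Subgroup Ω) (hQ : F.IsFullyCentralized Q)
    (E : FusionSystem (centralizerIn S Q)) (hE : F.IsCentralizerSystem Q E) :
    KCtx F Q ⊥ (centralizerIn S Q) E := by
  have hQS : Q ≤ S := hQ.1
  have hrec := fullyCentralized_receptive p hS F hF Q hQ
  refine ⟨hQS, ?_, ?_, ?_⟩
  · intro g
    constructor
    · intro hg
      refine ⟨hg.1, 1, Subgroup.mem_bot.mpr rfl, fun x => ?_⟩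
      have h1 := Subgroup.mem_centralizer_iff.mp hg.2 x x.2
      show (x : Ω) = g * x * g⁻¹
      rw [← h1]
      group
    · rintro ⟨hgS, κ, hκ, e⟩
      rw [Subgroup.mem_bot] at hκ
      subst hκ
      refine ⟨hgS, Subgroup.mem_centralizer_iff.mpr (fun y hy => ?_)⟩
      have h1 : y = g * y * g⁻¹ := e ⟨y, hy⟩
      calc y * g = g * y * g⁻¹ * g := by rw [← h1]
        _ = g * y := by group
  · intro P φ
    rw [hE P]
    constructor
    · rintro ⟨h1, h2, h3, ψ, hψ, h4, h5⟩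
      exact ⟨h1, h2, h3, ψ, hψ, h4, 1, Subgroup.mem_bot.mpr rfl, h5⟩
    · rintro ⟨h1, h2, h3, ψ, hψ, h4, κ, hκ, h5⟩
      rw [Subgroup.mem_bot] at hκ
      subst hκ
      exact ⟨h1, h2, h3, ψ, hψ, h4, h5⟩
  · intro θ hθ D' hD'S hD'
    obtain ⟨χ, hχ, hχθ⟩ := F.inv_mem hθ
    have hχr : χ.range = Q := by
      ext y
      constructor
      · rintro ⟨⟨_, x, rfl⟩, rfl⟩
        rw [hχθ]
        exact x.2
      · intro hy
        exact ⟨⟨θ ⟨y, hy⟩, ⟨_, rfl⟩⟩, hχθ _⟩
    obtain ⟨ψ, hψ, hψχ⟩ := hrec.2 θ.range χ hχ hχr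
    have hQ'S : θ.range ≤ S := range_le_of_mem F hθ
    have hD'C : D' ≤ centralizerIn S θ.range := by
      intro g hg
      refine ⟨hD'S hg, Subgroup.mem_centralizer_iff.mpr ?_⟩
      rintro _ ⟨x, rfl⟩
      obtain ⟨κ, hκ, e⟩ := hD' g hg
      rw [Subgroup.mem_bot] at hκ
      subst hκ
      have h1 : θ x = g * θ x * g⁻¹ := e x
      calc θ x * g = g * θ x * g⁻¹ * g := by rw [← h1]
        _ = g * θ x := by group
    have hχS : ∀ y, χ y ∈ S := (F.le_of_mem hχ).2
    have hle : D' ⊔ θ.range ≤ extender S θ.range χ :=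
      sup_le (hD'C.trans (centralizerIn_le_extender S _ χ)) (le_extender hQ'S χ hχS)
    refine ⟨ψ.comp (Subgroup.inclusion hle), restrict_mem F hψ hle, fun g hg => ?_, 1,
      Subgroup.mem_bot.mpr rfl, fun x => ?_⟩
    · refine ⟨(F.le_of_mem hψ).2 _, Subgroup.mem_centralizer_iff.mpr (fun q hq => ?_)⟩
      have h1 : ψ ⟨θ ⟨q, hq⟩, hle (Subgroup.mem_sup_right ⟨_, rfl⟩)⟩ = q := by
        rw [hψχ _ ⟨_, rfl⟩]
        exact hχθ _
      have h2 : θ ⟨q, hq⟩ * g = g * θ ⟨q, hq⟩ :=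
        Subgroup.mem_centralizer_iff.mp (hD'C hg).2 _ ⟨_, rfl⟩
      have h3 : (⟨θ ⟨q, hq⟩, hle (Subgroup.mem_sup_right ⟨_, rfl⟩)⟩ :
          ↥(extender S θ.range χ)) * ⟨g, hle (Subgroup.mem_sup_left hg)⟩ =
          ⟨g, hle (Subgroup.mem_sup_left hg)⟩ *
            ⟨θ ⟨q, hq⟩, hle (Subgroup.mem_sup_right ⟨_, rfl⟩)⟩ := Subtype.ext h2
      have h4 := congrArg ψ h3
      rw [map_mul, map_mul, h1] at h4
      exact h4
    · show ψ ⟨θ x, hle (Subgroup.mem_sup_right ⟨x, rfl⟩)⟩ = ((1 : MulAut Q) x : Ω)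
      rw [hψχ _ ⟨x, rfl⟩]
      exact hχθ x

/-- `N_F(Q)` is saturated when `Q` is fully normalized -/
theorem normalizerSystem_saturated [Finite S] (p : ℕ) [Fact p.Prime] (hS : IsPGroup p S)
    (F : FusionSystem S) (hF : F.IsSaturated p) (Q : Subgroup Ω) (hQ : F.IsFullyNormalized Q)
    (E : FusionSystem (normalizerIn S Q)) (hE : F.IsNormalizerSystem Q E) :
    E.IsSaturated p :=
  (kctx_normalizer p hS F hF Q hQ E hE).saturated p hS hF

/-- `C_F(Q)` is saturated when `Q` is fully centralized -/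
theorem centralizerSystem_saturated [Finite S] (p : ℕ) [Fact p.Prime] (hS : IsPGroup p S)
    (F : FusionSystem S) (hF : F.IsSaturated p) (Q : Subgroup Ω)
    (hQ : F.IsFullyCentralized Q)
    (E : FusionSystem (centralizerIn S Q)) (hE : F.IsCentralizerSystem Q E) :
    E.IsSaturated p :=
  (kctx_centralizer p hS F hF Q hQ E hE).saturated p hS hF

end Cfsg.Agent.Helper26
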