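import Mathlib

set_option autoImplicit false

namespace Cfsg.Agent.Helper26

open Subgroup

/-- pointwise congruent finite sums are congruent -/
theorem kul_sum_modEq {ι : Type*} (s : Finset ι) (f g : ι → ℕ) (n : ℕ)
    (h : ∀ i ∈ s, f i ≡ g i [MOD n]) : ∑ i ∈ s, f i ≡ ∑ i ∈ s, g i [MOD n] := by
  rw [← ZMod.natCast_eq_natCast_iff, Nat.cast_sum, Nat.cast_sum]
  refine Finset.sum_congr rfl fun i hi => ?_
  exact (ZMod.natCast_eq_natCast_iff _ _ _).2 (h i hi)

/-- double counting for a relation between two finite types -/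
theorem kul_double_count {α β : Type*} [Fintype α] [Fintype β] (R : α → β → Prop) :
    ∑ a : α, Nat.card {b : β // R a b} = ∑ b : β, Nat.card {a : α // R a b} := by
  rw [← Nat.card_sigma, ← Nat.card_sigma]
  refine Nat.card_congr ?_
  exact
    { toFun := fun x => ⟨x.2.1, x.1, x.2.2⟩
      invFun := fun x => ⟨x.2.1, x.1, x.2.2⟩
      left_inv := fun x => rfl
      right_inv := fun x => rfl }

/-- a sum of `1` or `1 + c` according to a predicate -/
theorem kul_sum_ite {α : Type*} [Fintype α] (Q : α → Prop) [DecidablePred Q] (c : ℕ) :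
    ∑ a : α, (if Q a then 1 + c else 1) = Nat.card α + c * Nat.card {a : α // Q a} := by
  have h1 : ∀ a : α, (if Q a then 1 + c else 1) = 1 + (if Q a then c else 0) := by
    intro a; split_ifs <;> rfl
  simp_rw [h1]
  rw [Finset.sum_add_distrib, Finset.sum_const, Finset.card_univ, smul_eq_mul, mul_one,
    ← Finset.sum_filter, Finset.sum_const, smul_eq_mul, Nat.card_eq_fintype_card,
    Nat.card_eq_fintype_card, Fintype.card_subtype, mul_comm]

section Homs

variable {G : Type*} [Group G] [Finite G] {p : ℕ} [Fact p.Prime]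

instance kul_homFinite : Finite (G →* Multiplicative (ZMod p)) :=
  Finite.of_injective (fun f => (f : G → Multiplicative (ZMod p))) DFunLike.coe_injective

theorem kul_card_Cp : Nat.card (Multiplicative (ZMod p)) = p := by simp

theorem kul_hom_pow (f : G →* Multiplicative (ZMod p)) : f ^ p = 1 := by
  ext x
  simp only [MonoidHom.pow_apply, MonoidHom.one_apply]
  have := orderOf_dvd_natCard (f x)
  rw [kul_card_Cp] at this
  exact orderOf_dvd_iff_pow_eq_one.mp this

/-- the homs to `C_p` that are trivial on `H` -/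
def kulHoms (p : ℕ) [Fact p.Prime] (H : Subgroup G) : Subgroup (G →* Multiplicative (ZMod p)) where
  carrier := {f | H ≤ f.ker}
  one_mem' := by
    intro x _
    simp [MonoidHom.mem_ker]
  mul_mem' := by
    intro f g hf hg x hx
    have h1 := hf hx
    have h2 := hg hx
    rw [MonoidHom.mem_ker] at h1 h2 ⊢
    rw [MonoidHom.mul_apply, h1, h2, one_mul]
  inv_mem' := by
    intro f hf x hx
    have h1 := hf hx
    rw [MonoidHom.mem_ker] at h1 ⊢
    rw [MonoidHom.inv_apply, h1, inv_one]

theorem kul_mem_homs {H : Subgroup G} {f : G →* Multiplicative (ZMod p)} :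
    f ∈ kulHoms p H ↔ H ≤ f.ker := Iff.rfl

theorem kul_homs_pgroup : IsPGroup p (G →* Multiplicative (ZMod p)) := by
  intro f
  exact ⟨1, by rw [pow_one]; exact kul_hom_pow f⟩

theorem kul_homs_card (H : Subgroup G) : ∃ c : ℕ, Nat.card (kulHoms p H) = p ^ c :=
  IsPGroup.iff_card.mp (kul_homs_pgroup.to_subgroup (kulHoms p H))

/-- a subgroup of prime index is maximal -/
theorem kul_index_prime_max {M K : Subgroup G} (hM : M.index = p) (hMK : M ≤ K) (hK : K ≠ ⊤) :
    K = M := by
  have h1 := Subgroup.relIndex_mul_index hMK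
  rw [hM] at h1
  have hp := (Fact.out : p.Prime)
  have h2 : K.index ∣ p := Dvd.intro_left _ h1
  rcases (Nat.dvd_prime hp).mp h2 with h3 | h3
  · exact absurd (Subgroup.index_eq_one.mp h3) hK
  · rw [h3] at h1
    have h4 : M.relIndex K = 1 := by
      have : M.relIndex K * p = 1 * p := by rw [h1, one_mul]
      exact Nat.eq_of_mul_eq_mul_right hp.pos this
    exact le_antisymm (Subgroup.relIndex_eq_one.mp h4) hMK

/-- the kernel of a nontrivial hom to `C_p` has index `p` -/
theorem kul_ker_index {f : G →* Multiplicative (ZMod p)} (hf : f ≠ 1) : f.ker.index = p := by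
  rw [Subgroup.index_ker]
  have hp := (Fact.out : p.Prime)
  have h1 : Nat.card f.range ∣ p := by
    have := Subgroup.card_subgroup_dvd_card f.range
    rwa [kul_card_Cp] at this
  rcases (Nat.dvd_prime hp).mp h1 with h2 | h2
  · exfalso
    apply hf
    have h3 : f.range = ⊥ := Subgroup.card_eq_one.mp h2
    ext x
    have : f x ∈ f.range := ⟨x, rfl⟩
    rw [h3, Subgroup.mem_bot] at this
    rw [this]; rfl
  · exact h2

/-- exactly `p - 1` homs to `C_p` have a given normal subgroup of index `p` as kernel -/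
theorem kul_fiber_card (M : Subgroup G) [M.Normal] (hM : M.index = p) :
    Nat.card {f : G →* Multiplicative (ZMod p) // f.ker = M} = p - 1 := by
  have hp := (Fact.out : p.Prime)
  have hMne : M ≠ ⊤ := by
    intro h
    rw [h, Subgroup.index_top] at hM
    exact hp.one_lt.ne hM
  obtain ⟨x₀, hx₀⟩ : ∃ x₀ : G, x₀ ∉ M := by
    by_contra hcon
    push_neg at hcon
    exact hMne (eq_top_iff.mpr fun x _ => hcon x)
  have hcardQ : Nat.card (G ⧸ M) = p := by rw [← Subgroup.index_eq_card]; exact hM
  let e : G ⧸ M ≃* Multiplicative (ZMod p) := mulEquivOfPrimeCardEq hcardQ kul_card_Cp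
  -- the evaluation map at x₀
  have hval : ∀ f : {f : G →* Multiplicative (ZMod p) // f.ker = M}, f.1 x₀ ≠ 1 := by
    intro f hf1
    apply hx₀
    rw [← f.2]
    exact MonoidHom.mem_ker.mpr hf1
  have hcard2 : Nat.card {c : Multiplicative (ZMod p) // c ≠ 1} = p - 1 := by
    haveI : Fintype (Multiplicative (ZMod p)) := Fintype.ofFinite _
    classical
    rw [Nat.card_eq_fintype_card, Fintype.card_subtype_compl, Fintype.card_subtype_eq,
      ← Nat.card_eq_fintype_card, kul_card_Cp]
  rw [← hcard2]
  refine Nat.card_congr (Equiv.ofBijective (fun f => ⟨f.1 x₀, hval f⟩) ⟨?_, ?_⟩)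
  · -- injective
    intro f g hfg
    have hfg' : f.1 x₀ = g.1 x₀ := congrArg Subtype.val hfg
    apply Subtype.ext
    by_contra hne
    have hh : f.1 * g.1⁻¹ ≠ 1 := by
      intro h
      apply hne
      exact mul_inv_eq_one.mp h
    have hker : M ≤ (f.1 * g.1⁻¹).ker := by
      intro x hx
      have h1 : f.1 x = 1 := by
        have : x ∈ f.1.ker := by rw [f.2]; exact hx
        exact MonoidHom.mem_ker.mp this
      have h2 : g.1 x = 1 := by
        have : x ∈ g.1.ker := by rw [g.2]; exact hx
        exact MonoidHom.mem_ker.mp this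
      rw [MonoidHom.mem_ker, MonoidHom.mul_apply, MonoidHom.inv_apply, h1, h2, inv_one, one_mul]
    have hne2 : (f.1 * g.1⁻¹).ker ≠ ⊤ := by
      intro h
      exact hh (MonoidHom.ker_eq_top_iff.mp h)
    have h3 := kul_index_prime_max hM hker hne2
    apply hx₀
    rw [← h3, MonoidHom.mem_ker, MonoidHom.mul_apply, MonoidHom.inv_apply, hfg', mul_inv_cancel]
  · -- surjective
    rintro ⟨c, hc⟩
    let c₀ : Multiplicative (ZMod p) := e (QuotientGroup.mk' M x₀)
    have hc₀ : c₀ ≠ 1 := by
      intro h
      have h1 : (QuotientGroup.mk' M x₀ : G ⧸ M) = 1 := by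
        have : e (QuotientGroup.mk' M x₀) = e 1 := by rw [map_one]; exact h
        exact e.injective this
      apply hx₀
      exact (QuotientGroup.eq_one_iff x₀).mp h1
    have htop : Subgroup.zpowers c₀ = ⊤ := zpowers_eq_top_of_prime_card kul_card_Cp hc₀
    obtain ⟨k, hk⟩ : ∃ k : ℤ, c₀ ^ k = c := by
      have : c ∈ Subgroup.zpowers c₀ := by rw [htop]; exact Subgroup.mem_top c
      exact Subgroup.mem_zpowers_iff.mp this
    let f : G →* Multiplicative (ZMod p) :=
      (zpowGroupHom k).comp (e.toMonoidHom.comp (QuotientGroup.mk' M))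
    have hfx : f x₀ = c := by
      show (e (QuotientGroup.mk' M x₀)) ^ k = c
      exact hk
    have hker : M ≤ f.ker := by
      intro x hx
      rw [MonoidHom.mem_ker]
      show (e (QuotientGroup.mk' M x)) ^ k = 1
      have : (QuotientGroup.mk' M x : G ⧸ M) = 1 := (QuotientGroup.eq_one_iff x).mpr hx
      rw [this, map_one, one_zpow]
    have hne : f.ker ≠ ⊤ := by
      intro h
      have : x₀ ∈ f.ker := by rw [h]; exact Subgroup.mem_top _
      rw [MonoidHom.mem_ker, hfx] at this
      exact hc this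
    have h3 := kul_index_prime_max hM hker hne
    exact ⟨⟨f, h3⟩, Subtype.ext hfx⟩

/-- the normal subgroups of index `p` containing `H` -/
def KulMax (p : ℕ) (H : Subgroup G) : Type _ := {M : Subgroup G // M.Normal ∧ M.index = p ∧ H ≤ M}

instance kul_max_finite (H : Subgroup G) : Finite (KulMax p H) := by
  unfold KulMax; infer_instance

/-- hom counting: `#Hom_H(G, C_p) = 1 + (p-1) * #(normal index-p subgroups over H)` -/
theorem kul_hom_count (H : Subgroup G) :
    Nat.card (kulHoms p H) = 1 + (p - 1) * Nat.card (KulMax p H) := by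
  classical
  have hp := (Fact.out : p.Prime)
  haveI : Fintype (KulMax p H) := Fintype.ofFinite _
  -- the nontrivial homs fiber over KulMax
  have e : {f : kulHoms p H // f ≠ 1} ≃
      Σ M : KulMax p H, {f : G →* Multiplicative (ZMod p) // f.ker = M.1} :=
    { toFun := fun f =>
        ⟨⟨f.1.1.ker, MonoidHom.normal_ker _, kul_ker_index (fun h => f.2 (Subtype.ext h)), f.1.2⟩,
          ⟨f.1.1, rfl⟩⟩
      invFun := fun x =>
        ⟨⟨x.2.1, by
            rw [kul_mem_homs, x.2.2]; exact x.1.2.2.2⟩, by
          intro h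
          have h1 : x.2.1 = 1 := congrArg Subtype.val h
          have h2 : x.2.1.ker = ⊤ := MonoidHom.ker_eq_top_iff.mpr h1
          rw [x.2.2] at h2
          have h3 := x.1.2.2.1
          rw [h2, Subgroup.index_top] at h3
          exact hp.one_lt.ne h3⟩
      left_inv := fun f => rfl
      right_inv := by
        rintro ⟨⟨M, hM⟩, ⟨f, hf⟩⟩
        dsimp only at hf
        subst hf
        rfl }
  have h1 : Nat.card {f : kulHoms p H // f ≠ 1} = (p - 1) * Nat.card (KulMax p H) := by
    rw [Nat.card_congr e, Nat.card_sigma]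
    have : ∀ M : KulMax p H,
        Nat.card {f : G →* Multiplicative (ZMod p) // f.ker = M.1} = p - 1 := by
      intro M
      haveI := M.2.1
      exact kul_fiber_card M.1 M.2.2.1
    simp_rw [this]
    rw [Finset.sum_const, Finset.card_univ, smul_eq_mul, Nat.card_eq_fintype_card, mul_comm]
  haveI : Fintype (kulHoms p H) := Fintype.ofFinite _
  rw [← h1, Nat.card_eq_fintype_card, Nat.card_eq_fintype_card, Fintype.card_subtype_compl,
    Fintype.card_subtype_eq]
  have : 1 ≤ Fintype.card (kulHoms p H) := Fintype.card_pos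
  omega

/-- consequences of the hom count: `p ^ c = 1 + (p - 1) * m` -/
theorem kul_count_mod_p {c m : ℕ} (h : p ^ c = 1 + (p - 1) * m) (hc : 1 ≤ c) : m ≡ 1 [MOD p] := by
  have hp := (Fact.out : p.Prime)
  have hp1 : 1 ≤ p := hp.pos
  have h1 : m + p ^ c = p * m + 1 := by
    rw [h]
    have : (p - 1) * m + m = p * m := by
      conv_lhs => rw [← Nat.succ_pred_eq_of_pos hp.pos]
      have : p = (p - 1) + 1 := by omega
      conv_rhs => rw [this, Nat.add_mul, one_mul]
      simp
    omega
  have h2 : m + p ^ c ≡ m [MOD p] := by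
    have : p ∣ p ^ c := dvd_pow_self p (by omega)
    exact (Nat.modEq_iff_dvd' (by omega)).mpr (by simpa using this) |>.symm
  have h3 : p * m + 1 ≡ 1 [MOD p] := by
    have : p ∣ p * m := dvd_mul_right p m
    exact ((Nat.modEq_iff_dvd' (by omega)).mpr (by simpa using this)).symm
  exact h2.symm.trans (h1 ▸ h3)

theorem kul_count_mod_p2 {c m : ℕ} (h : p ^ c = 1 + (p - 1) * m) (hc : 2 ≤ c) :
    m ≡ 1 + p [MOD p ^ 2] := by
  have hp := (Fact.out : p.Prime)
  have hm := kul_count_mod_p h (by omega : 1 ≤ c)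
  have h1 : m + p ^ c = p * m + 1 := by
    rw [h]
    have : p = (p - 1) + 1 := by have := hp.pos; omega
    have h2 : (p - 1) * m + m = p * m := by
      conv_rhs => rw [this, Nat.add_mul, one_mul]
    omega
  have h2 : m + p ^ c ≡ m [MOD p ^ 2] := by
    have : p ^ 2 ∣ p ^ c := pow_dvd_pow p hc
    exact ((Nat.modEq_iff_dvd' (by omega)).mpr (by simpa using this)).symm
  have h3 : p * m ≡ p * 1 [MOD p * p] := Nat.ModEq.mul_left' p hm
  have h4 : p * m + 1 ≡ 1 + p [MOD p ^ 2] := by
    rw [pow_two, add_comm]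
    simpa using Nat.ModEq.add_left 1 h3
  exact h2.symm.trans (h1 ▸ h4)

theorem kul_count_one {c m : ℕ} (h : p ^ c = 1 + (p - 1) * m) (hc : c = 1) : m = 1 := by
  have hp := (Fact.out : p.Prime)
  subst hc
  rw [pow_one] at h
  have h2 := hp.two_le
  have : (p - 1) * m = (p - 1) * 1 := by omega
  exact Nat.eq_of_mul_eq_mul_left (by omega) this

theorem kul_count_zero {c m : ℕ} (h : p ^ c = 1 + (p - 1) * m) (hc : c = 0) : m = 0 := by
  have hp := (Fact.out : p.Prime)
  subst hc
  rw [pow_zero] at h
  have h2 := hp.two_le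
  have : (p - 1) * m = 0 := by omega
  rcases Nat.eq_zero_or_pos m with h0 | h0
  · exact h0
  · have : 0 < (p - 1) * m := Nat.mul_pos (by omega) h0
    omega

end Homs

end Cfsg.Agent.Helper26
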