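import Mathlib
import Cfsg.Agent.Helper26.Kul1

set_option autoImplicit false

namespace Cfsg.Agent.Helper26

open Subgroup

universe u

section PGroups

variable {P : Type u} [Group P] [Finite P] {p : ℕ} [Fact p.Prime]

/-- subgroups of `P` inside `K` of a given order correspond to subgroups of `K` -/
theorem kul_transfer (K : Subgroup P) (k : ℕ) :
    Nat.card {H : Subgroup P // H ≤ K ∧ Nat.card H = k} =
      Nat.card {H' : Subgroup K // Nat.card H' = k} := by
  refine Nat.card_congr ?_
  exact
    { toFun := fun H => ⟨H.1.subgroupOf K, by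
        rw [Nat.card_congr (Subgroup.subgroupOfEquivOfLe H.2.1).toEquiv]; exact H.2.2⟩
      invFun := fun H' => ⟨H'.1.map K.subtype, Subgroup.map_subtype_le _, by
        rw [← Nat.card_congr
          (Subgroup.equivMapOfInjective H'.1 K.subtype K.subtype_injective).toEquiv]
        exact H'.2⟩
      left_inv := fun H => Subtype.ext (Subgroup.map_subgroupOf_eq_of_le H.2.1)
      right_inv := fun H' => Subtype.ext
        (Subgroup.comap_map_eq_self_of_injective K.subtype_injective H'.1) }

/-- in a `p`-group a subgroup of index `p` is normal -/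
theorem kul_normal_of_index {n : ℕ} (hP : Nat.card P = p ^ n) (K : Subgroup P) (hK : K.index = p) :
    K.Normal := by
  have hp := (Fact.out : p.Prime)
  apply Subgroup.normal_of_index_eq_minFac_card
  rw [hK, hP]
  have hn : n ≠ 0 := by
    rintro rfl
    rw [pow_zero] at hP
    have := Subgroup.index_dvd_card K
    rw [hK, hP] at this
    exact hp.one_lt.ne' (Nat.dvd_one.mp this)
  exact (hp.pow_minFac hn).symm

/-- the order of an index-`p` subgroup -/
theorem kul_card_of_index {n : ℕ} (hP : Nat.card P = p ^ n) (K : Subgroup P) (hK : K.index = p) :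
    Nat.card K = p ^ (n - 1) ∧ 1 ≤ n := by
  have hp := (Fact.out : p.Prime)
  have h1 := Subgroup.card_mul_index K
  rw [hK, hP] at h1
  have hn : 1 ≤ n := by
    rcases Nat.eq_zero_or_pos n with h0 | h0
    · subst h0
      rw [pow_zero] at h1
      have : p ∣ 1 := Dvd.intro_left _ h1
      exact absurd (Nat.dvd_one.mp this) hp.one_lt.ne'
    · exact h0
  refine ⟨?_, hn⟩
  have h2 : p ^ n = p ^ (n - 1) * p := by
    rw [← pow_succ]; congr 1; omega
  rw [h2] at h1
  exact Nat.eq_of_mul_eq_mul_right hp.pos h1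

theorem kul_index_of_card {n : ℕ} (hP : Nat.card P = p ^ n) (hn : 1 ≤ n) (K : Subgroup P)
    (hK : Nat.card K = p ^ (n - 1)) : K.index = p := by
  have hp := (Fact.out : p.Prime)
  have h1 := Subgroup.card_mul_index K
  rw [hK, hP] at h1
  have h2 : p ^ n = p ^ (n - 1) * p := by
    rw [← pow_succ]; congr 1; omega
  rw [h2] at h1
  exact Nat.eq_of_mul_eq_mul_left (pow_pos hp.pos _) h1

/-- every proper subgroup of a `p`-group lies in a normal subgroup of index `p` -/
theorem kul_exists_max {n a : ℕ} (hP : Nat.card P = p ^ n) (H : Subgroup P)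
    (hH : Nat.card H = p ^ a) (ha : a < n) : Nonempty (KulMax p H) := by
  have hdvd : p ^ (n - 1) ∣ Nat.card P := by rw [hP]; exact pow_dvd_pow p (by omega)
  obtain ⟨K, hK, hHK⟩ := Sylow.exists_subgroup_card_pow_prime_le p hdvd H hH (by omega)
  have hidx := kul_index_of_card hP (by omega) K hK
  exact ⟨⟨K, kul_normal_of_index hP K hidx, hidx, hHK⟩⟩

/-- the exponent `c` of the hom count is positive for a proper subgroup -/
theorem kul_exists_c {n a : ℕ} (hP : Nat.card P = p ^ n) (H : Subgroup P)
    (hH : Nat.card H = p ^ a) (ha : a < n) :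
    ∃ c : ℕ, 1 ≤ c ∧ p ^ c = 1 + (p - 1) * Nat.card (KulMax p H) := by
  have hp := (Fact.out : p.Prime)
  obtain ⟨c, hc⟩ := kul_homs_card (p := p) H
  have h1 := kul_hom_count (p := p) H
  rw [hc] at h1
  refine ⟨c, ?_, h1⟩
  by_contra hc0
  have hc0' : c = 0 := by omega
  have h2 := kul_count_zero h1 hc0'
  haveI := kul_exists_max hP H hH ha
  have : 0 < Nat.card (KulMax p H) := Nat.card_pos
  omega

theorem kul_max_mod_p {n a : ℕ} (hP : Nat.card P = p ^ n) (H : Subgroup P)
    (hH : Nat.card H = p ^ a) (ha : a < n) : Nat.card (KulMax p H) ≡ 1 [MOD p] := by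
  obtain ⟨c, hc, h⟩ := kul_exists_c hP H hH ha
  exact kul_count_mod_p h hc

theorem kul_max_cases {n a : ℕ} (hP : Nat.card P = p ^ n) (H : Subgroup P)
    (hH : Nat.card H = p ^ a) (ha : a < n) :
    Nat.card (KulMax p H) = 1 ∨
      (2 ≤ Nat.card (KulMax p H) ∧ Nat.card (KulMax p H) ≡ 1 + p [MOD p ^ 2]) := by
  have hp := (Fact.out : p.Prime)
  obtain ⟨c, hc, h⟩ := kul_exists_c hP H hH ha
  rcases Nat.lt_or_ge c 2 with h2 | h2
  · left
    exact kul_count_one h (by omega)
  · right
    refine ⟨?_, kul_count_mod_p2 h h2⟩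
    by_contra hlt
    have hm : Nat.card (KulMax p H) ≤ 1 := by omega
    have h3 : p ^ 2 ≤ p ^ c := Nat.pow_le_pow_right hp.pos h2
    have h4 : (p - 1) * Nat.card (KulMax p H) ≤ (p - 1) * 1 := Nat.mul_le_mul_left _ hm
    have h5 : p * 2 ≤ p ^ 2 := by rw [pow_two]; exact Nat.mul_le_mul_left _ hp.two_le
    have := hp.two_le
    omega

/-- subgroups over `H` among the index-`p` normal subgroups: two descriptions -/
theorem kul_max_over (H : Subgroup P) :
    Nat.card {K : KulMax p (⊥ : Subgroup P) // H ≤ K.1} = Nat.card (KulMax p H) := by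
  refine Nat.card_congr ?_
  exact
    { toFun := fun K => ⟨K.1.1, K.1.2.1, K.1.2.2.1, K.2⟩
      invFun := fun K => ⟨⟨K.1, K.2.1, K.2.2.1, bot_le⟩, K.2.2.2⟩
      left_inv := fun K => rfl
      right_inv := fun K => rfl }

/-- subgroups of a given order inside a member of `KulMax` -/
theorem kul_under_max (K : Subgroup P) (k : ℕ) :
    Nat.card {H : {H : Subgroup P // Nat.card H = k} // H.1 ≤ K} =
      Nat.card {H' : Subgroup K // Nat.card H' = k} := by
  rw [← kul_transfer K k]
  refine Nat.card_congr ?_
  exact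
    { toFun := fun H => ⟨H.1.1, H.2, H.1.2⟩
      invFun := fun H => ⟨⟨H.1, H.2.2⟩, H.2.1⟩
      left_inv := fun H => rfl
      right_inv := fun H => rfl }

end PGroups

/-- **Frobenius** for `p`-groups: the number of subgroups of order `p ^ a` is `≡ 1 (mod p)` -/
theorem kul_frob {p : ℕ} [Fact p.Prime] : ∀ (n : ℕ) (P : Type u) [Group P] [Finite P],
    Nat.card P = p ^ n → ∀ a : ℕ, a ≤ n →
      Nat.card {H : Subgroup P // Nat.card H = p ^ a} ≡ 1 [MOD p] := by
  intro n
  induction n using Nat.strong_induction_on with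
  | _ n ih =>
    intro P _ _ hP a ha
    have hp := (Fact.out : p.Prime)
    rcases Nat.lt_or_ge a n with han | han
    · classical
      haveI : Fintype (KulMax p (⊥ : Subgroup P)) := Fintype.ofFinite _
      haveI : Fintype {H : Subgroup P // Nat.card H = p ^ a} := Fintype.ofFinite _
      have hdc := kul_double_count
        (fun (K : KulMax p (⊥ : Subgroup P)) (H : {H : Subgroup P // Nat.card H = p ^ a}) =>
          H.1 ≤ K.1)
      -- left side
      have hL : ∑ K : KulMax p (⊥ : Subgroup P),
          Nat.card {H : {H : Subgroup P // Nat.card H = p ^ a} // H.1 ≤ K.1} ≡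
            ∑ _K : KulMax p (⊥ : Subgroup P), 1 [MOD p] := by
        refine kul_sum_modEq _ _ _ _ fun K _ => ?_
        rw [kul_under_max K.1 (p ^ a)]
        have hK := kul_card_of_index hP K.1 K.2.2.1
        exact ih (n - 1) (by omega) K.1 hK.1 a (by omega)
      -- right side
      have hR : ∑ H : {H : Subgroup P // Nat.card H = p ^ a},
          Nat.card {K : KulMax p (⊥ : Subgroup P) // H.1 ≤ K.1} ≡
            ∑ _H : {H : Subgroup P // Nat.card H = p ^ a}, 1 [MOD p] := by
        refine kul_sum_modEq _ _ _ _ fun H _ => ?_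
        rw [kul_max_over H.1]
        exact kul_max_mod_p hP H.1 H.2 han
      rw [hdc] at hL
      have h1 := hR.symm.trans hL
      simp only [Finset.sum_const, Finset.card_univ, smul_eq_mul, mul_one] at h1
      rw [Nat.card_eq_fintype_card]
      refine h1.trans ?_
      rw [← Nat.card_eq_fintype_card]
      have := kul_max_mod_p hP (⊥ : Subgroup P) (a := 0) (by simp) (by omega)
      exact this
    · have han' : a = n := le_antisymm ha han
      subst han'
      have : Nat.card {H : Subgroup P // Nat.card H = p ^ a} = 1 := by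
        rw [Nat.card_eq_one_iff_unique]
        refine ⟨⟨fun H K => ?_⟩, ⟨⟨⊤, by rw [Subgroup.card_top]; exact hP⟩⟩⟩
        apply Subtype.ext
        have h1 : H.1 = ⊤ := Subgroup.eq_top_of_card_eq H.1 (by rw [H.2, hP])
        have h2 : K.1 = ⊤ := Subgroup.eq_top_of_card_eq K.1 (by rw [K.2, hP])
        rw [h1, h2]
      rw [this]

end Cfsg.Agent.Helper26
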