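import Mathlib
import Cfsg.Agent.Helper26.Kul2

set_option autoImplicit false

namespace Cfsg.Agent.Helper26

open Subgroup

universe u

section Level2

variable {P : Type u} [Group P] [Finite P] {p : ℕ} [Fact p.Prime]

/-- the card of a subgroup of a `p`-group -/
theorem kul_sub_card {n : ℕ} (hP : Nat.card P = p ^ n) (D : Subgroup P) :
    ∃ k : ℕ, k ≤ n ∧ Nat.card D = p ^ k := by
  have hp := (Fact.out : p.Prime)
  have h1 : Nat.card D ∣ p ^ n := hP ▸ Subgroup.card_subgroup_dvd_card D
  obtain ⟨k, hk, h2⟩ := (Nat.dvd_prime_pow hp).mp h1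
  exact ⟨k, hk, h2⟩

/-- a noncyclic `p`-group has at least two maximal subgroups -/
theorem kul_two_max {n : ℕ} (hP : Nat.card P = p ^ n) (hnc : ¬ IsCyclic P) :
    2 ≤ Nat.card (KulMax p (⊥ : Subgroup P)) := by
  have hp := (Fact.out : p.Prime)
  have hn : 0 < n := by
    rcases Nat.eq_zero_or_pos n with h0 | h0
    · exfalso
      subst h0
      rw [pow_zero] at hP
      apply hnc
      haveI : Subsingleton P := (Nat.card_eq_one_iff_unique.mp hP).1
      exact isCyclic_of_subsingleton
    · exact h0
  rcases kul_max_cases hP (⊥ : Subgroup P) (a := 0) (by simp) hn with h1 | h1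
  · exfalso
    obtain ⟨hsub, ⟨K⟩⟩ := Nat.card_eq_one_iff_unique.mp h1
    have hKne : K.1 ≠ ⊤ := by
      intro h
      have := K.2.2.1
      rw [h, Subgroup.index_top] at this
      exact hp.one_lt.ne this
    obtain ⟨x, hx⟩ : ∃ x : P, x ∉ K.1 := by
      by_contra hcon
      push_neg at hcon
      exact hKne (eq_top_iff.mpr fun x _ => hcon x)
    obtain ⟨b, hb, hcard⟩ := kul_sub_card hP (Subgroup.zpowers x)
    have hbn : b < n := by
      rcases Nat.lt_or_ge b n with h | h
      · exact h
      · exfalso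
        have hb' : b = n := le_antisymm hb h
        rw [hb', ← hP] at hcard
        have := Subgroup.eq_top_of_card_eq _ hcard
        exact hnc ⟨⟨x, fun y => by
          have : y ∈ Subgroup.zpowers x := by rw [this]; exact Subgroup.mem_top y
          exact this⟩⟩
    obtain ⟨K'⟩ := kul_exists_max hP (Subgroup.zpowers x) hcard hbn
    have heq : (⟨K'.1, K'.2.1, K'.2.2.1, bot_le⟩ : KulMax p (⊥ : Subgroup P)) = K :=
      hsub.elim _ _
    have hxK' : x ∈ K'.1 := K'.2.2.2 (Subgroup.mem_zpowers x)
    apply hx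
    rw [← heq]
    exact hxK'
  · exact h1.1

/-- the common kernel of a subgroup of homs -/
def kulKer (B : Subgroup (P →* Multiplicative (ZMod p))) : Subgroup P :=
  ⨅ f : B, (f : P →* Multiplicative (ZMod p)).ker

theorem kul_le_ker_iff (B : Subgroup (P →* Multiplicative (ZMod p))) (H : Subgroup P) :
    B ≤ kulHoms p H ↔ H ≤ kulKer B := by
  unfold kulKer
  rw [le_iInf_iff]
  constructor
  · intro h f
    exact h f.2
  · intro h f hf
    exact h ⟨f, hf⟩

/-- the common kernel of a subgroup of order `p ^ 2` of homs has index at most `p ^ 2` -/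
theorem kul_ker_index_le (B : Subgroup (P →* Multiplicative (ZMod p)))
    (hB : Nat.card B = p ^ 2) : (kulKer B).index ≤ p ^ 2 := by
  have hp := (Fact.out : p.Prime)
  -- a nontrivial element
  obtain ⟨f, hfB, hf1⟩ : ∃ f ∈ B, f ≠ 1 := by
    by_contra hcon
    push_neg at hcon
    have : B = ⊥ := (Subgroup.eq_bot_iff_forall B).mpr hcon
    rw [this, Subgroup.card_bot] at hB
    have : 1 < p ^ 2 := Nat.one_lt_pow (by norm_num) hp.one_lt
    omega
  have hford : orderOf f = p := by
    have h1 : orderOf f ∣ p := orderOf_dvd_of_pow_eq_one (kul_hom_pow f)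
    rcases (Nat.dvd_prime hp).mp h1 with h2 | h2
    · exact absurd (orderOf_eq_one_iff.mp h2) hf1
    · exact h2
  have hzf : Nat.card (Subgroup.zpowers f) = p := by rw [Nat.card_zpowers, hford]
  have hzle : Subgroup.zpowers f ≤ B := (Subgroup.zpowers_le).mpr hfB
  obtain ⟨g, hgB, hg⟩ : ∃ g ∈ B, g ∉ Subgroup.zpowers f := by
    by_contra hcon
    push_neg at hcon
    have h1 : B ≤ Subgroup.zpowers f := fun x hx => hcon x hx
    have h2 := Subgroup.card_le_of_le h1
    rw [hB, hzf, pow_two] at h2
    have : p * 2 ≤ p * p := Nat.mul_le_mul_left _ hp.two_le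
    have := hp.pos
    omega
  -- the closure of f, g is B
  have hCle : Subgroup.closure {f, g} ≤ B := by
    rw [Subgroup.closure_le]
    intro x hx
    rcases hx with rfl | rfl
    · exact hfB
    · exact hgB
  have hfC : f ∈ Subgroup.closure {f, g} := Subgroup.subset_closure (by simp)
  have hgC : g ∈ Subgroup.closure {f, g} := Subgroup.subset_closure (by simp)
  have hzC : Subgroup.zpowers f ≤ Subgroup.closure {f, g} := (Subgroup.zpowers_le).mpr hfC
  have hCcard : Nat.card (Subgroup.closure {f, g} : Subgroup (P →* Multiplicative (ZMod p)))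
      = p ^ 2 := by
    have h1 := Subgroup.card_dvd_of_le hCle
    rw [hB] at h1
    obtain ⟨k, hk, h2⟩ := (Nat.dvd_prime_pow hp).mp h1
    have h3 := Subgroup.card_dvd_of_le hzC
    rw [hzf, h2] at h3
    have hk1 : k ≠ 0 := by
      rintro rfl
      rw [pow_zero] at h3
      exact hp.one_lt.ne' (Nat.dvd_one.mp h3)
    have hk2 : k ≠ 1 := by
      rintro rfl
      rw [pow_one] at h2
      have := Subgroup.eq_of_le_of_card_ge hzC (by rw [hzf, h2])
      apply hg
      rw [this]
      exact hgC
    have : k = 2 := by omega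
    rw [h2, this]
  have hCB : Subgroup.closure {f, g} = B :=
    Subgroup.eq_of_le_of_card_ge hCle (by rw [hB, hCcard])
  have key : ∀ h ∈ Subgroup.closure {f, g}, f.ker ⊓ g.ker ≤ h.ker := by
    intro h hh
    induction hh using Subgroup.closure_induction with
    | mem x hx =>
      rcases hx with rfl | rfl
      · exact inf_le_left
      · exact inf_le_right
    | one =>
      intro x _
      rw [MonoidHom.mem_ker, MonoidHom.one_apply]
    | mul x y _ _ hx hy =>
      intro z hz
      have h1 := hx hz
      have h2 := hy hz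
      rw [MonoidHom.mem_ker] at h1 h2 ⊢
      rw [MonoidHom.mul_apply, h1, h2, one_mul]
    | inv x _ hx =>
      intro z hz
      have h1 := hx hz
      rw [MonoidHom.mem_ker] at h1 ⊢
      rw [MonoidHom.inv_apply, h1, inv_one]
  have hle : f.ker ⊓ g.ker ≤ kulKer B := by
    unfold kulKer
    rw [le_iInf_iff]
    rintro ⟨h, hh⟩
    exact key h (hCB ▸ hh)
  have h1 : (kulKer B).index ≤ (f.ker ⊓ g.ker).index :=
    Nat.le_of_dvd (Nat.pos_of_ne_zero (Subgroup.index_ne_zero_of_finite))
      (Subgroup.index_dvd_of_le hle)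
  have h2 := Subgroup.index_inf_le (H := f.ker) (K := g.ker)
  have h3 : f.ker.index ≤ p := by
    by_cases h : f = 1
    · rw [MonoidHom.ker_eq_top_iff.mpr h, Subgroup.index_top]; exact hp.one_lt.le
    · exact (kul_ker_index h).le
  have h4 : g.ker.index ≤ p := by
    by_cases h : g = 1
    · rw [MonoidHom.ker_eq_top_iff.mpr h, Subgroup.index_top]; exact hp.one_lt.le
    · exact (kul_ker_index h).le
  calc (kulKer B).index ≤ (f.ker ⊓ g.ker).index := h1
    _ ≤ f.ker.index * g.ker.index := h2
    _ ≤ p * p := Nat.mul_le_mul h3 h4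
    _ = p ^ 2 := (pow_two p).symm

/-- the number of subgroups of order `p ^ a` (`a + 2 ≤ n`) lying in at least two maximal
subgroups is `≡ 1 (mod p)`, when there are at least two maximal subgroups -/
theorem kul_t_mod {n a : ℕ} (hP : Nat.card P = p ^ n) (ha : a + 2 ≤ n)
    (hm2 : 2 ≤ Nat.card (KulMax p (⊥ : Subgroup P))) :
    Nat.card {H : {H : Subgroup P // Nat.card H = p ^ a} // 2 ≤ Nat.card (KulMax p H.1)}
      ≡ 1 [MOD p] := by
  classical
  have hp := (Fact.out : p.Prime)
  haveI : Fintype {H : Subgroup P // Nat.card H = p ^ a} := Fintype.ofFinite _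
  haveI : Fintype {B : Subgroup (P →* Multiplicative (ZMod p)) // Nat.card B = p ^ 2} :=
    Fintype.ofFinite _
  have hdc := kul_double_count
    (fun (H : {H : Subgroup P // Nat.card H = p ^ a})
      (B : {B : Subgroup (P →* Multiplicative (ZMod p)) // Nat.card B = p ^ 2}) =>
        B.1 ≤ kulHoms p H.1)
  -- left side
  have hL : ∑ H : {H : Subgroup P // Nat.card H = p ^ a},
      Nat.card {B : {B : Subgroup (P →* Multiplicative (ZMod p)) // Nat.card B = p ^ 2} //
        B.1 ≤ kulHoms p H.1} ≡
      ∑ H : {H : Subgroup P // Nat.card H = p ^ a},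
        (if 2 ≤ Nat.card (KulMax p H.1) then 1 else 0) [MOD p] := by
    refine kul_sum_modEq _ _ _ _ fun H _ => ?_
    rw [kul_under_max (kulHoms p H.1) (p ^ 2)]
    obtain ⟨c, hc1, hc⟩ := kul_exists_c hP H.1 H.2 (by omega)
    have hcard : Nat.card (kulHoms p H.1) = p ^ c := by
      rw [kul_hom_count, hc]
    rcases Nat.lt_or_ge c 2 with h2 | h2
    · have hm := kul_count_one hc (by omega)
      rw [if_neg (by omega)]
      have : IsEmpty {H' : Subgroup (kulHoms p H.1) // Nat.card H' = p ^ 2} := by
        refine ⟨fun B => ?_⟩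
        have h1 := Subgroup.card_subgroup_dvd_card B.1
        rw [B.2, hcard] at h1
        have h3 : 2 ≤ c := (Nat.pow_dvd_pow_iff_le_right hp.one_lt).mp h1
        omega
      rw [Nat.card_of_isEmpty]
    · have hm : 2 ≤ Nat.card (KulMax p H.1) := by
        rcases kul_max_cases hP H.1 H.2 (by omega) with h | h
        · exfalso
          rw [h] at hc
          have h3 : p ^ 2 ≤ p ^ c := Nat.pow_le_pow_right hp.pos h2
          have h5 : p * 2 ≤ p ^ 2 := by rw [pow_two]; exact Nat.mul_le_mul_left _ hp.two_le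
          have := hp.two_le
          omega
        · exact h.1
      rw [if_pos hm]
      exact kul_frob c (kulHoms p H.1) hcard 2 h2
  -- right side
  have hR : ∑ B : {B : Subgroup (P →* Multiplicative (ZMod p)) // Nat.card B = p ^ 2},
      Nat.card {H : {H : Subgroup P // Nat.card H = p ^ a} // B.1 ≤ kulHoms p H.1} ≡
      ∑ _B : {B : Subgroup (P →* Multiplicative (ZMod p)) // Nat.card B = p ^ 2}, 1 [MOD p] := by
    refine kul_sum_modEq _ _ _ _ fun B _ => ?_
    have h1 : Nat.card {H : {H : Subgroup P // Nat.card H = p ^ a} // B.1 ≤ kulHoms p H.1} =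
        Nat.card {H : {H : Subgroup P // Nat.card H = p ^ a} // H.1 ≤ kulKer B.1} := by
      refine Nat.card_congr (Equiv.subtypeEquivRight fun H => ?_)
      exact kul_le_ker_iff B.1 H.1
    rw [h1, kul_under_max (kulKer B.1) (p ^ a)]
    obtain ⟨k, hk, hcard⟩ := kul_sub_card hP (kulKer B.1)
    have hidx := kul_ker_index_le B.1 B.2
    have h2 := Subgroup.card_mul_index (kulKer B.1)
    rw [hcard, hP] at h2
    have hak : a ≤ k := by
      by_contra hlt
      push_neg at hlt
      have h3 : p ^ k * (kulKer B.1).index ≤ p ^ k * p ^ 2 := Nat.mul_le_mul_left _ hidx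
      rw [h2, ← pow_add] at h3
      have := (Nat.pow_le_pow_iff_right hp.one_lt).mp h3
      omega
    exact kul_frob k (kulKer B.1) hcard a hak
  rw [hdc] at hL
  have h1 := hL.symm.trans hR
  have h2 : ∑ H : {H : Subgroup P // Nat.card H = p ^ a},
      (if 2 ≤ Nat.card (KulMax p H.1) then 1 else 0) =
      Nat.card {H : {H : Subgroup P // Nat.card H = p ^ a} // 2 ≤ Nat.card (KulMax p H.1)} := by
    rw [Nat.card_eq_fintype_card, Fintype.card_subtype, Finset.card_filter]
  rw [h2] at h1
  refine h1.trans ?_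
  simp only [Finset.sum_const, Finset.card_univ, smul_eq_mul, mul_one]
  rw [← Nat.card_eq_fintype_card]
  -- the number of subgroups of order p^2 of the hom group
  have htop : kulHoms p (⊥ : Subgroup P) = ⊤ := by
    ext f
    simp [kul_mem_homs]
  obtain ⟨d, hd⟩ := IsPGroup.iff_card.mp (kul_homs_pgroup (G := P) (p := p))
  have hcnt := kul_hom_count (p := p) (⊥ : Subgroup P)
  rw [htop, Subgroup.card_top, hd] at hcnt
  have hd2 : 2 ≤ d := by
    by_contra hlt
    have hd1 : d ≤ 1 := by omega
    have h3 : p ^ d ≤ p ^ 1 := Nat.pow_le_pow_right hp.pos hd1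
    have h4 : (p - 1) * 2 ≤ (p - 1) * Nat.card (KulMax p (⊥ : Subgroup P)) :=
      Nat.mul_le_mul_left _ hm2
    have := hp.two_le
    rw [pow_one] at h3
    omega
  exact kul_frob d (P →* Multiplicative (ZMod p)) hd 2 hd2

end Level2

end Cfsg.Agent.Helper26
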