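import Mathlib
import Cfsg.Agent.Helper26.Kul3

set_option autoImplicit false

namespace Cfsg.Agent.Helper26

open Subgroup

universe u

/-- number theory: `r ^ p ≡ 1 (mod p ^ (k + 1))`, `p` odd, gives `r ≡ 1 (mod p ^ k)` -/
theorem kul_lte {p : ℕ} [Fact p.Prime] (hp2 : p ≠ 2) (r k : ℕ)
    (h : r ^ p ≡ 1 [MOD p ^ (k + 1)]) : ∃ j : ℕ, r = 1 + p ^ k * j := by
  have hp := (Fact.out : p.Prime)
  have hodd : Odd p := hp.odd_of_ne_two hp2
  have h1 : r ^ p ≡ 1 [MOD p] := h.of_dvd (dvd_pow_self p (by omega))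
  have h2 : (r : ZMod p) = 1 := by
    have := (ZMod.natCast_eq_natCast_iff _ _ _).2 h1
    rw [Nat.cast_pow, ZMod.pow_card, Nat.cast_one] at this
    exact this
  have hr0 : r ≠ 0 := by
    rintro rfl
    rw [Nat.cast_zero] at h2
    exact zero_ne_one h2
  have hr1 : 1 ≤ r := Nat.one_le_iff_ne_zero.mpr hr0
  have h3 : p ∣ r - 1 := by
    have : (1 : ℕ) ≡ r [MOD p] := by
      rw [← ZMod.natCast_eq_natCast_iff, Nat.cast_one, h2]
    exact (Nat.modEq_iff_dvd' hr1).mp this
  have h4 : ¬ p ∣ r := by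
    intro hd
    have : (r : ZMod p) = 0 := (ZMod.natCast_eq_zero_iff r p).mpr hd
    rw [h2] at this
    exact one_ne_zero this
  rcases Nat.eq_or_lt_of_le hr1 with h5 | h5
  · exact ⟨0, by omega⟩
  · have h6 := padicValNat.pow_sub_pow hodd h5 h3 h4 (n := p) hp.ne_zero
    rw [one_pow, padicValNat_self] at h6
    have h7 : p ^ (k + 1) ∣ r ^ p - 1 := by
      have h8 : 1 ≤ r ^ p := Nat.one_le_pow _ _ (by omega)
      exact (Nat.modEq_iff_dvd' h8).mp h.symm
    have h9 : r ^ p - 1 ≠ 0 := by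
      have : 1 < r ^ p := Nat.one_lt_pow hp.ne_zero h5
      omega
    have h10 := (padicValNat_dvd_iff_le h9).mp h7
    have h11 : k ≤ padicValNat p (r - 1) := by omega
    have h12 : p ^ k ∣ r - 1 := (padicValNat_dvd_iff_le (by omega)).mpr h11
    obtain ⟨j, hj⟩ := h12
    exact ⟨j, by omega⟩

section Pow

variable {G : Type*} [Group G]

theorem kul_comm_pow (a b c : G) (hc : ∀ g : G, g * c = c * g) (h : b * a = a * b * c) (k : ℕ) :
    b ^ k * a = a * b ^ k * c ^ k := by
  induction k with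
  | zero => simp
  | succ k ih =>
    have hck : b * c ^ k = c ^ k * b := (Commute.pow_right (hc b) k).eq
    calc b ^ (k + 1) * a = b ^ k * (b * a) := by rw [pow_succ, mul_assoc]
      _ = b ^ k * (a * b * c) := by rw [h]
      _ = (b ^ k * a) * b * c := by simp only [mul_assoc]
      _ = (a * b ^ k * c ^ k) * b * c := by rw [ih]
      _ = a * b ^ k * (c ^ k * b) * c := by simp only [mul_assoc]
      _ = a * b ^ k * (b * c ^ k) * c := by rw [hck]
      _ = a * b ^ (k + 1) * c ^ (k + 1) := by rw [pow_succ, pow_succ]; simp only [mul_assoc]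

theorem kul_mul_pow (a b c : G) (hc : ∀ g : G, g * c = c * g) (h : b * a = a * b * c) (k : ℕ) :
    (a * b) ^ k = a ^ k * b ^ k * c ^ (k * (k - 1) / 2) := by
  induction k with
  | zero => simp
  | succ k ih =>
    have hT : (k + 1) * (k + 1 - 1) / 2 = k * (k - 1) / 2 + k := by
      have h1 : (k + 1) * (k + 1 - 1) = k * (k - 1) + 2 * k := by
        cases k with
        | zero => rfl
        | succ j => simp only [Nat.add_sub_cancel]; ring
      rw [h1, Nat.add_mul_div_left _ _ (by norm_num : 0 < 2)]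
    have hcT : ∀ g : G, g * c ^ (k * (k - 1) / 2) = c ^ (k * (k - 1) / 2) * g :=
      fun g => (Commute.pow_right (hc g) _).eq
    have hck : ∀ g : G, g * c ^ k = c ^ k * g := fun g => (Commute.pow_right (hc g) _).eq
    rw [pow_succ, ih, hT]
    calc a ^ k * b ^ k * c ^ (k * (k - 1) / 2) * (a * b)
        = a ^ k * b ^ k * (c ^ (k * (k - 1) / 2) * (a * b)) := by simp only [mul_assoc]
      _ = a ^ k * b ^ k * ((a * b) * c ^ (k * (k - 1) / 2)) := by rw [← hcT (a * b)]
      _ = a ^ k * (b ^ k * a) * b * c ^ (k * (k - 1) / 2) := by simp only [mul_assoc]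
      _ = a ^ k * (a * b ^ k * c ^ k) * b * c ^ (k * (k - 1) / 2) := by
          rw [kul_comm_pow a b c hc h k]
      _ = a ^ k * a * b ^ k * (c ^ k * b) * c ^ (k * (k - 1) / 2) := by simp only [mul_assoc]
      _ = a ^ k * a * b ^ k * (b * c ^ k) * c ^ (k * (k - 1) / 2) := by rw [← hck b]
      _ = a ^ (k + 1) * b ^ (k + 1) * (c ^ k * c ^ (k * (k - 1) / 2)) := by
          rw [pow_succ, pow_succ]; simp only [mul_assoc]
      _ = a ^ (k + 1) * b ^ (k + 1) * c ^ (k * (k - 1) / 2 + k) := by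
          rw [← pow_add, Nat.add_comm k (k * (k - 1) / 2)]

end Pow

section Cyc

variable {P : Type u} [Group P] [Finite P] {p : ℕ} [Fact p.Prime]

/-- in a noncyclic group of order `p ^ n` every element has order dividing `p ^ (n - 1)` -/
theorem kul_order_dvd {n : ℕ} (hP : Nat.card P = p ^ n) (hnc : ¬ IsCyclic P) (h : P) :
    h ^ (p ^ (n - 1)) = 1 := by
  have hp := (Fact.out : p.Prime)
  have h1 : orderOf h ∣ p ^ n := hP ▸ orderOf_dvd_natCard h
  obtain ⟨j, hj, h2⟩ := (Nat.dvd_prime_pow hp).mp h1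
  have hjn : j ≠ n := by
    rintro rfl
    exact hnc (isCyclic_of_orderOf_eq_card h (by rw [h2, hP]))
  apply orderOf_dvd_iff_pow_eq_one.mp
  rw [h2]
  exact pow_dvd_pow p (by omega)

/-- structure of a noncyclic `p`-group (`p` odd, order `≥ p ^ 3`) with a cyclic maximal
subgroup: the elements with `h ^ (p ^ (n - 2)) = 1` form a normal subgroup of index `p` -/
theorem kul_cyc_struct (hp2 : p ≠ 2) {n : ℕ} (hP : Nat.card P = p ^ n) (hn : 3 ≤ n)
    (hnc : ¬ IsCyclic P) (C : Subgroup P) [hCn : C.Normal] (hCi : C.index = p) (x : P)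
    (hx : C = Subgroup.zpowers x) :
    ∃ Ω : Subgroup P, Ω.Normal ∧ Ω.index = p ∧ ∀ h : P, h ∈ Ω ↔ h ^ (p ^ (n - 2)) = 1 := by
  have hp := (Fact.out : p.Prime)
  have hodd : Odd p := hp.odd_of_ne_two hp2
  have hCcard := (kul_card_of_index hP C hCi).1
  have hxord : orderOf x = p ^ (n - 1) := by
    rw [← Nat.card_zpowers, ← hx, hCcard]
  obtain ⟨w, hw⟩ : ∃ w : P, w = x ^ (p ^ (n - 2)) := ⟨_, rfl⟩
  have hpp : p ^ (n - 2) * p = p ^ (n - 1) := by
    rw [← pow_succ]; congr 1; omega
  have hw_p : w ^ p = 1 := by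
    rw [hw, ← pow_mul, hpp, ← hxord, pow_orderOf_eq_one]
  have hw_ne : w ≠ 1 := by
    intro h
    rw [hw] at h
    have h1 := orderOf_dvd_of_pow_eq_one h
    rw [hxord] at h1
    have := (Nat.pow_dvd_pow_iff_le_right hp.one_lt).mp h1
    omega
  have hxw : Commute x w := by
    rw [hw]; exact (Commute.refl x).pow_right _
  have hxC : x ∈ C := by rw [hx]; exact Subgroup.mem_zpowers x
  -- conjugation exponent
  have hconj : ∀ g : P, ∃ j : ℕ, g⁻¹ * x * g = x * w ^ j := by
    intro g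
    have h1 : g⁻¹ * x * g ∈ C := by
      have := hCn.conj_mem x hxC g⁻¹
      rwa [inv_inv] at this
    rw [hx] at h1
    obtain ⟨r, hr⟩ : ∃ r : ℕ, x ^ r = g⁻¹ * x * g :=
      (Submonoid.mem_powers_iff _ _).mp (mem_powers_iff_mem_zpowers.mpr h1)
    have h2 : g ^ p ∈ C := by
      have := C.pow_index_mem g
      rwa [hCi] at this
    have hcomm : g ^ p * x = x * g ^ p := by
      rw [hx] at h2
      obtain ⟨s, hs⟩ := Subgroup.mem_zpowers_iff.mp h2
      rw [← hs]
      exact (Commute.zpow_left (Commute.refl x) s).eq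
    have hiter : ∀ k : ℕ, (g ^ k)⁻¹ * x * g ^ k = x ^ (r ^ k) := by
      intro k
      induction k with
      | zero => simp
      | succ k ih =>
        have e1 : (g ^ (k + 1))⁻¹ * x * g ^ (k + 1) = g⁻¹ * ((g ^ k)⁻¹ * x * g ^ k) * g := by
          rw [pow_succ, mul_inv_rev]; simp only [mul_assoc]
        have e2 : g⁻¹ * x ^ (r ^ k) * g = (g⁻¹ * x * g) ^ (r ^ k) := by
          have := conj_pow (a := g⁻¹) (b := x) (i := r ^ k)
          rw [inv_inv] at this
          exact this.symm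
        rw [e1, ih, e2, ← hr, ← pow_mul, pow_succ, mul_comm]
    have h3 : x ^ (r ^ p) = x ^ 1 := by
      rw [← hiter p, pow_one, mul_assoc, ← hcomm, ← mul_assoc, inv_mul_cancel, one_mul]
    have h4 : r ^ p ≡ 1 [MOD p ^ (n - 1)] := by
      rw [← hxord]; exact pow_eq_pow_iff_modEq.mp h3
    have h5 : n - 2 + 1 = n - 1 := by omega
    obtain ⟨j, hj⟩ := kul_lte hp2 r (n - 2) (by rw [h5]; exact h4)
    exact ⟨j, by rw [← hr, hj, pow_add, pow_one, pow_mul, ← hw]⟩
  -- w is central
  have hwc : ∀ g : P, g * w = w * g := by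
    intro g
    obtain ⟨j, hj⟩ := hconj g
    have e2 : g⁻¹ * x ^ (p ^ (n - 2)) * g = (g⁻¹ * x * g) ^ (p ^ (n - 2)) := by
      have := conj_pow (a := g⁻¹) (b := x) (i := p ^ (n - 2))
      rw [inv_inv] at this
      exact this.symm
    have h1 : g⁻¹ * w * g = w := by
      rw [hw, e2, hj, (hxw.pow_right j).mul_pow, ← hw, ← pow_mul]
      have : j * p ^ (n - 2) = p * (j * p ^ (n - 3)) := by
        have : p ^ (n - 2) = p * p ^ (n - 3) := by
          rw [← pow_succ']; congr 1; omega
        rw [this]; ring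
      rw [this, pow_mul, hw_p, one_pow, mul_one]
    calc g * w = g * (g⁻¹ * w * g) := by rw [h1]
      _ = w * g := by group
  -- commutators lie in zpowers w
  have hZc : Subgroup.zpowers w ≤ Subgroup.center P :=
    Subgroup.zpowers_le.mpr (Subgroup.mem_center_iff.mpr hwc)
  haveI hZn : (Subgroup.zpowers w).Normal := by
    refine ⟨fun z hz g => ?_⟩
    have := Subgroup.mem_center_iff.mp (hZc hz) g
    rw [this, mul_inv_cancel_right]
    exact hz
  have hZC : Subgroup.zpowers w ≤ C := by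
    rw [Subgroup.zpowers_le, hw]
    exact C.pow_mem hxC _
  have hcomm2 : ∀ a b : P, ∃ j : ℕ, b * a = a * b * w ^ j := by
    let f : P ⧸ Subgroup.zpowers w →* P ⧸ C :=
      QuotientGroup.map (Subgroup.zpowers w) C (MonoidHom.id P) (by
        rw [Subgroup.comap_id]; exact hZC)
    have hkerf : f.ker = C.map (QuotientGroup.mk' (Subgroup.zpowers w)) := by
      have := QuotientGroup.ker_map (N := Subgroup.zpowers w) C (MonoidHom.id P) (by
        rw [Subgroup.comap_id]; exact hZC)
      exact this.trans (by rw [Subgroup.comap_id])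
    have hxbar : (QuotientGroup.mk' (Subgroup.zpowers w) x) ∈
        Subgroup.center (P ⧸ Subgroup.zpowers w) := by
      rw [Subgroup.mem_center_iff]
      intro q
      induction q using QuotientGroup.induction_on with
      | H g =>
        show ((g * x : P) : P ⧸ Subgroup.zpowers w) = ((x * g : P) : P ⧸ Subgroup.zpowers w)
        rw [QuotientGroup.eq]
        obtain ⟨j, hj⟩ := hconj g
        have : (g * x)⁻¹ * (x * g) = w ^ j := by
          calc (g * x)⁻¹ * (x * g) = x⁻¹ * (g⁻¹ * x * g) := by group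
            _ = w ^ j := by rw [hj]; group
        rw [this]
        exact Subgroup.pow_mem _ (Subgroup.mem_zpowers w) j
    have hker : f.ker ≤ Subgroup.center (P ⧸ Subgroup.zpowers w) := by
      rw [hkerf, hx, MonoidHom.map_zpowers, Subgroup.zpowers_le]
      exact hxbar
    haveI : IsCyclic (P ⧸ C) := by
      have : Nat.card (P ⧸ C) = p := by rw [← Subgroup.index_eq_card]; exact hCi
      exact isCyclic_of_prime_card this
    have hab := commutative_of_cyclic_center_quotient f hker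
    intro a b
    have h1 : ((a * b : P) : P ⧸ Subgroup.zpowers w) = ((b * a : P) : P ⧸ Subgroup.zpowers w) :=
      hab (a : P ⧸ Subgroup.zpowers w) (b : P ⧸ Subgroup.zpowers w)
    rw [QuotientGroup.eq] at h1
    obtain ⟨j, hj⟩ : ∃ j : ℕ, w ^ j = (a * b)⁻¹ * (b * a) :=
      (Submonoid.mem_powers_iff _ _).mp (mem_powers_iff_mem_zpowers.mpr h1)
    exact ⟨j, by rw [hj]; group⟩
  -- the p-power map is multiplicative
  have hpow : ∀ a b : P, (a * b) ^ p = a ^ p * b ^ p := by
    intro a b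
    obtain ⟨j, hj⟩ := hcomm2 a b
    have hc : ∀ g : P, g * w ^ j = w ^ j * g := fun g => (Commute.pow_right (hwc g) j).eq
    rw [kul_mul_pow a b (w ^ j) hc hj p]
    obtain ⟨m, hm⟩ := hodd
    have h1 : p * (p - 1) / 2 = p * m := by
      have : p - 1 = 2 * m := by omega
      rw [this, ← mul_assoc, mul_comm p 2, mul_assoc, Nat.mul_div_cancel_left _ (by norm_num)]
    have h2 : (w ^ j) ^ (p * m) = 1 := by
      rw [← pow_mul, mul_comm j, mul_assoc, pow_mul, hw_p, one_pow]
    rw [h1, h2, mul_one]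
  have hpowk : ∀ (k : ℕ) (a b : P), (a * b) ^ (p ^ k) = a ^ (p ^ k) * b ^ (p ^ k) := by
    intro k
    induction k with
    | zero => intro a b; simp
    | succ k ih =>
      intro a b
      rw [pow_succ', pow_mul, hpow, ih, ← pow_mul, ← pow_mul]
  let φ : P →* P :=
    { toFun := fun g => g ^ (p ^ (n - 2))
      map_one' := one_pow _
      map_mul' := hpowk (n - 2) }
  have hφ : ∀ g : P, φ g = g ^ (p ^ (n - 2)) := fun g => rfl
  refine ⟨φ.ker, MonoidHom.normal_ker φ, ?_, fun h => by rw [MonoidHom.mem_ker, hφ]⟩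
  rw [Subgroup.index_ker]
  -- the range is zpowers w
  have hZcard : Nat.card (Subgroup.zpowers w) = p := by
    rw [Nat.card_zpowers]
    have h1 : orderOf w ∣ p := orderOf_dvd_of_pow_eq_one hw_p
    rcases (Nat.dvd_prime hp).mp h1 with h2 | h2
    · exact absurd (orderOf_eq_one_iff.mp h2) hw_ne
    · exact h2
  have hrange : φ.range ≤ Subgroup.zpowers w := by
    rintro y ⟨g, rfl⟩
    rw [hφ]
    have h2 : g ^ p ∈ C := by
      have := C.pow_index_mem g
      rwa [hCi] at this
    rw [hx] at h2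
    obtain ⟨s, hs⟩ : ∃ s : ℕ, x ^ s = g ^ p :=
      (Submonoid.mem_powers_iff _ _).mp (mem_powers_iff_mem_zpowers.mpr h2)
    have h3 : p ^ (n - 2) = p * p ^ (n - 3) := by
      rw [← pow_succ']; congr 1; omega
    have h4 : g ^ (p ^ (n - 2)) = x ^ (s * p ^ (n - 3)) := by
      rw [h3, pow_mul, ← hs, ← pow_mul]
    have h5 : x ^ (s * p ^ (n - 3) * p) = 1 := by
      rw [pow_mul, ← h4, ← pow_mul, hpp]
      exact kul_order_dvd hP hnc g
    have h6 : p ^ (n - 1) ∣ s * p ^ (n - 3) * p := by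
      rw [← hxord]; exact orderOf_dvd_of_pow_eq_one h5
    have h7 : p ∣ s := by
      have e1 : s * p ^ (n - 3) * p = s * p ^ (n - 2) := by rw [h3]; ring
      have e2 : p ^ (n - 1) = p * p ^ (n - 2) := by
        rw [← pow_succ']; congr 1; omega
      rw [e1, e2] at h6
      exact Nat.dvd_of_mul_dvd_mul_right (pow_pos hp.pos _) h6
    obtain ⟨s', rfl⟩ := h7
    rw [h4]
    have : p * s' * p ^ (n - 3) = p ^ (n - 2) * s' := by rw [h3]; ring
    rw [this, pow_mul, ← hw]
    exact Subgroup.pow_mem _ (Subgroup.mem_zpowers w) _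
  have h1 := Subgroup.card_dvd_of_le hrange
  rw [hZcard] at h1
  rcases (Nat.dvd_prime hp).mp h1 with h2 | h2
  · exfalso
    have h3 : φ.range = ⊥ := Subgroup.card_eq_one.mp h2
    have h4 : w ∈ φ.range := ⟨x, by rw [hφ, hw]⟩
    rw [h3, Subgroup.mem_bot] at h4
    exact hw_ne h4
  · exact h2

/-- in a noncyclic `p`-group (`p` odd, order `≥ p ^ 3`) the number of cyclic maximal subgroups
is divisible by `p` -/
theorem kul_cyc_count (hp2 : p ≠ 2) {n : ℕ} (hP : Nat.card P = p ^ n) (hn : 3 ≤ n)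
    (hnc : ¬ IsCyclic P) :
    Nat.card {K : KulMax p (⊥ : Subgroup P) // IsCyclic K.1} ≡ 0 [MOD p] := by
  classical
  have hp := (Fact.out : p.Prime)
  by_cases hex : ∃ K : KulMax p (⊥ : Subgroup P), IsCyclic K.1
  · obtain ⟨K₀, hK₀⟩ := hex
    obtain ⟨y, hy⟩ := hK₀.exists_generator
    have hx : K₀.1 = Subgroup.zpowers (y : P) := by
      ext z
      constructor
      · intro hz
        obtain ⟨k, hk⟩ := Subgroup.mem_zpowers_iff.mp (hy ⟨z, hz⟩)
        rw [Subgroup.mem_zpowers_iff]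
        exact ⟨k, by
          have := congrArg Subtype.val hk
          simpa using this⟩
      · intro hz
        obtain ⟨k, hk⟩ := Subgroup.mem_zpowers_iff.mp hz
        rw [← hk]
        exact K₀.1.zpow_mem y.2 k
    haveI := K₀.2.1
    obtain ⟨Ω, hΩn, hΩi, hΩ⟩ := kul_cyc_struct hp2 hP hn hnc K₀.1 K₀.2.2.1 (y : P) hx
    have hΩne : Ω ≠ ⊤ := by
      intro h
      rw [h, Subgroup.index_top] at hΩi
      exact hp.one_lt.ne hΩi
    obtain ⟨Ω', hΩ'⟩ : ∃ Ω' : KulMax p (⊥ : Subgroup P), Ω'.1 = Ω :=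
      ⟨⟨Ω, hΩn, hΩi, bot_le⟩, rfl⟩
    have key : ∀ K : KulMax p (⊥ : Subgroup P), IsCyclic K.1 ↔ K ≠ Ω' := by
      intro K
      have hKcard := (kul_card_of_index hP K.1 K.2.2.1).1
      constructor
      · intro hcyc hK
        obtain ⟨z, hz⟩ := hcyc.exists_generator
        have h1 : orderOf z = p ^ (n - 1) := by
          rw [orderOf_eq_card_of_forall_mem_zpowers hz, hKcard]
        have h2 : (z : P) ∈ Ω := by
          have : K.1 = Ω := by rw [hK]; exact hΩ'
          rw [← this]; exact z.2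
        have h3 := (hΩ _).mp h2
        have h4 := orderOf_dvd_of_pow_eq_one h3
        rw [Subgroup.orderOf_coe, h1] at h4
        have := (Nat.pow_dvd_pow_iff_le_right hp.one_lt).mp h4
        omega
      · intro hK
        obtain ⟨h, hhK, hhΩ⟩ : ∃ h ∈ K.1, h ∉ Ω := by
          by_contra hcon
          push_neg at hcon
          have h1 : K.1 ≤ Ω := fun z hz => hcon z hz
          have h2 := kul_index_prime_max K.2.2.1 h1 hΩne
          exact hK (Subtype.ext (h2.symm.trans hΩ'.symm))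
        have h1 : h ^ (p ^ (n - 2)) ≠ 1 := fun h0 => hhΩ ((hΩ h).mpr h0)
        have h2 : orderOf h ∣ p ^ (n - 1) := orderOf_dvd_of_pow_eq_one (kul_order_dvd hP hnc h)
        obtain ⟨j, hj, h3⟩ := (Nat.dvd_prime_pow hp).mp h2
        have hj' : j = n - 1 := by
          by_contra hne
          apply h1
          apply orderOf_dvd_iff_pow_eq_one.mp
          rw [h3]
          exact pow_dvd_pow p (by omega)
        refine isCyclic_of_orderOf_eq_card (⟨h, hhK⟩ : K.1) ?_
        rw [Subgroup.orderOf_mk, h3, hj', hKcard]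
    have h1 : Nat.card {K : KulMax p (⊥ : Subgroup P) // IsCyclic K.1} =
        Nat.card {K : KulMax p (⊥ : Subgroup P) // K ≠ Ω'} :=
      Nat.card_congr (Equiv.subtypeEquivRight key)
    rw [h1]
    haveI : Fintype (KulMax p (⊥ : Subgroup P)) := Fintype.ofFinite _
    rw [Nat.card_eq_fintype_card, Fintype.card_subtype_compl, Fintype.card_subtype_eq,
      ← Nat.card_eq_fintype_card]
    have hm := kul_max_mod_p hP (⊥ : Subgroup P) (a := 0) (by simp) (by omega)
    have hpos : 1 ≤ Nat.card (KulMax p (⊥ : Subgroup P)) := by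
      haveI : Nonempty (KulMax p (⊥ : Subgroup P)) := ⟨K₀⟩
      exact Nat.card_pos
    have h2 : p ∣ Nat.card (KulMax p (⊥ : Subgroup P)) - 1 :=
      (Nat.modEq_iff_dvd' hpos).mp hm.symm
    exact (Nat.modEq_zero_iff_dvd).mpr h2
  · have : IsEmpty {K : KulMax p (⊥ : Subgroup P) // IsCyclic K.1} :=
      ⟨fun K => hex ⟨K.1, K.2⟩⟩
    rw [Nat.card_of_isEmpty]

end Cyc

end Cfsg.Agent.Helper26
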