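import Mathlib
import Cfsg.Agent.Helper26.Kul4

set_option autoImplicit false

namespace Cfsg.Agent.Helper26

open Subgroup

universe u

/-- membership in a subgroup of order `k` of a finite cyclic group -/
theorem kul_cyc_mem {P : Type*} [Group P] [Finite P] [IsCyclic P] (H : Subgroup P) {k : ℕ}
    (hH : Nat.card H = k) (x : P) : x ∈ H ↔ x ^ k = 1 := by
  classical
  haveI : Fintype P := Fintype.ofFinite P
  have hk : 0 < k := by rw [← hH]; exact Nat.card_pos
  constructor
  · intro hx
    have := pow_card_eq_one' (G := H) (x := ⟨x, hx⟩)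
    rw [hH] at this
    have h2 := congrArg Subtype.val this
    simpa using h2
  · intro hx
    have hsub : (Finset.univ.filter fun a : P => a ∈ H) ⊆ Finset.univ.filter fun a : P => a ^ k = 1 := by
      intro a ha
      rw [Finset.mem_filter] at ha ⊢
      refine ⟨ha.1, ?_⟩
      have := pow_card_eq_one' (G := H) (x := ⟨a, ha.2⟩)
      rw [hH] at this
      have h2 := congrArg Subtype.val this
      simpa using h2
    have hcard : (Finset.univ.filter fun a : P => a ∈ H).card = k := by
      rw [← hH, Nat.card_eq_fintype_card, Fintype.card_subtype]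
    have hle : (Finset.univ.filter fun a : P => a ^ k = 1).card ≤
        (Finset.univ.filter fun a : P => a ∈ H).card := by
      rw [hcard]
      exact IsCyclic.card_pow_eq_one_le hk
    have heq := Finset.eq_of_subset_of_card_le hsub hle
    have : x ∈ Finset.univ.filter fun a : P => a ^ k = 1 := by
      rw [Finset.mem_filter]; exact ⟨Finset.mem_univ _, hx⟩
    rw [← heq, Finset.mem_filter] at this
    exact this.2

/-- a cyclic `p`-group has exactly one subgroup of each possible order -/
theorem kul_cyclic_count {P : Type*} [Group P] [Finite P] {p : ℕ} [Fact p.Prime] {n : ℕ}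
    (hP : Nat.card P = p ^ n) (hcyc : IsCyclic P) (a : ℕ) (ha : a ≤ n) :
    Nat.card {H : Subgroup P // Nat.card H = p ^ a} = 1 := by
  rw [Nat.card_eq_one_iff_unique]
  constructor
  · refine ⟨fun H K => ?_⟩
    apply Subtype.ext
    ext x
    rw [kul_cyc_mem H.1 H.2, kul_cyc_mem K.1 K.2]
  · have hdvd : p ^ a ∣ Nat.card P := by rw [hP]; exact pow_dvd_pow p ha
    obtain ⟨K, hK⟩ := Sylow.exists_subgroup_card_pow_prime p hdvd
    exact ⟨⟨K, hK⟩⟩

/-- **Kulakoff**: in a noncyclic `p`-group, `p` odd, the number of subgroups of order `p ^ a`,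
`1 ≤ a < n`, is `≡ 1 + p (mod p ^ 2)` -/
theorem kul_kulakoff {p : ℕ} [Fact p.Prime] (hp2 : p ≠ 2) :
    ∀ (n : ℕ) (P : Type u) [Group P] [Finite P], Nat.card P = p ^ n → ¬ IsCyclic P →
      ∀ a : ℕ, 1 ≤ a → a < n →
        Nat.card {H : Subgroup P // Nat.card H = p ^ a} ≡ 1 + p [MOD p ^ 2] := by
  intro n
  induction n using Nat.strong_induction_on with
  | _ n ih =>
    intro P _ _ hP hnc a ha1 han
    classical
    have hp := (Fact.out : p.Prime)
    have hm2 := kul_two_max hP hnc
    have hmax : Nat.card (KulMax p (⊥ : Subgroup P)) ≡ 1 + p [MOD p ^ 2] := by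
      rcases kul_max_cases hP (⊥ : Subgroup P) (a := 0) (by simp) (by omega) with h | h
      · omega
      · exact h.2
    have hmaxp : Nat.card (KulMax p (⊥ : Subgroup P)) ≡ 1 [MOD p] :=
      kul_max_mod_p hP (⊥ : Subgroup P) (a := 0) (by simp) (by omega)
    rcases Nat.lt_or_ge (a + 1) n with han2 | han2
    · -- a + 2 ≤ n
      haveI : Fintype (KulMax p (⊥ : Subgroup P)) := Fintype.ofFinite _
      haveI : Fintype {H : Subgroup P // Nat.card H = p ^ a} := Fintype.ofFinite _
      have hdc := kul_double_count
        (fun (K : KulMax p (⊥ : Subgroup P)) (H : {H : Subgroup P // Nat.card H = p ^ a}) =>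
          H.1 ≤ K.1)
      -- left side
      have hL : ∑ K : KulMax p (⊥ : Subgroup P),
          Nat.card {H : {H : Subgroup P // Nat.card H = p ^ a} // H.1 ≤ K.1} ≡
            ∑ K : KulMax p (⊥ : Subgroup P), (if ¬ IsCyclic K.1 then 1 + p else 1)
              [MOD p ^ 2] := by
        refine kul_sum_modEq _ _ _ _ fun K _ => ?_
        rw [kul_under_max K.1 (p ^ a)]
        have hK := kul_card_of_index hP K.1 K.2.2.1
        by_cases hc : IsCyclic K.1
        · rw [if_neg (not_not.mpr hc), kul_cyclic_count hK.1 hc a (by omega)]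
        · rw [if_pos hc]
          exact ih (n - 1) (by omega) K.1 hK.1 hc a ha1 (by omega)
      -- right side
      have hR : ∑ H : {H : Subgroup P // Nat.card H = p ^ a},
          Nat.card {K : KulMax p (⊥ : Subgroup P) // H.1 ≤ K.1} ≡
            ∑ H : {H : Subgroup P // Nat.card H = p ^ a},
              (if 2 ≤ Nat.card (KulMax p H.1) then 1 + p else 1) [MOD p ^ 2] := by
        refine kul_sum_modEq _ _ _ _ fun H _ => ?_
        rw [kul_max_over H.1]
        rcases kul_max_cases hP H.1 H.2 han with h | h
        · rw [if_neg (by omega), h]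
        · rw [if_pos h.1]; exact h.2
      rw [hdc, kul_sum_ite] at hL
      rw [kul_sum_ite] at hR
      have h1 := hR.symm.trans hL
      -- evaluate the two sides
      have ht := kul_t_mod hP (a := a) (by omega) hm2
      have hcyc := kul_cyc_count hp2 hP (by omega) hnc
      have hnoncyc : Nat.card {K : KulMax p (⊥ : Subgroup P) // ¬ IsCyclic K.1} ≡ 1 [MOD p] := by
        have hsplit : Nat.card {K : KulMax p (⊥ : Subgroup P) // IsCyclic K.1} +
            Nat.card {K : KulMax p (⊥ : Subgroup P) // ¬ IsCyclic K.1} =
              Nat.card (KulMax p (⊥ : Subgroup P)) := by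
          rw [Nat.card_eq_fintype_card, Nat.card_eq_fintype_card, Nat.card_eq_fintype_card,
            Fintype.card_subtype_compl]
          have := Fintype.card_subtype_le (fun K : KulMax p (⊥ : Subgroup P) => IsCyclic K.1)
          omega
        have h2 : Nat.card {K : KulMax p (⊥ : Subgroup P) // IsCyclic K.1} +
            Nat.card {K : KulMax p (⊥ : Subgroup P) // ¬ IsCyclic K.1} ≡ 1 [MOD p] := by
          rw [hsplit]; exact hmaxp
        have h3 : Nat.card {K : KulMax p (⊥ : Subgroup P) // IsCyclic K.1} +
            Nat.card {K : KulMax p (⊥ : Subgroup P) // ¬ IsCyclic K.1} ≡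
              0 + Nat.card {K : KulMax p (⊥ : Subgroup P) // ¬ IsCyclic K.1} [MOD p] :=
          Nat.ModEq.add_right _ hcyc
        rw [zero_add] at h3
        exact h3.symm.trans h2
      have e1 : p * Nat.card {K : KulMax p (⊥ : Subgroup P) // ¬ IsCyclic K.1} ≡ p * 1
          [MOD p ^ 2] := by
        rw [pow_two]; exact Nat.ModEq.mul_left' p hnoncyc
      have e2 : p * Nat.card {H : {H : Subgroup P // Nat.card H = p ^ a} //
          2 ≤ Nat.card (KulMax p H.1)} ≡ p * 1 [MOD p ^ 2] := by
        rw [pow_two]; exact Nat.ModEq.mul_left' p ht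
      have e3 : Nat.card {H : Subgroup P // Nat.card H = p ^ a} + p * 1 ≡
          (1 + p) + p * 1 [MOD p ^ 2] := by
        have e4 := (Nat.ModEq.add_left _ e2).symm.trans h1
        exact e4.trans (Nat.ModEq.add hmax e1)
      exact Nat.ModEq.add_right_cancel' (p * 1) e3
    · -- a + 1 = n
      have han' : a = n - 1 := by omega
      have hcongr : Nat.card {H : Subgroup P // Nat.card H = p ^ a} =
          Nat.card (KulMax p (⊥ : Subgroup P)) := by
        refine Nat.card_congr ?_
        exact
          { toFun := fun H =>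
              have hidx := kul_index_of_card hP (by omega) H.1 (han' ▸ H.2)
              ⟨H.1, kul_normal_of_index hP H.1 hidx, hidx, bot_le⟩
            invFun := fun K => ⟨K.1, han' ▸ (kul_card_of_index hP K.1 K.2.2.1).1⟩
            left_inv := fun H => rfl
            right_inv := fun K => rfl }
      rw [hcongr]
      exact hmax

end Cfsg.Agent.Helper26
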