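import Mathlib
import Cfsg.Agent.Helper26.Kul5

set_option autoImplicit false

namespace Cfsg.Agent.Helper26

open Subgroup

/-- weighted orbit sum: if `D` divides `(orbit length) * f` on every orbit then `D ∣ ∑ f` -/
theorem kul_orbit_sum {Γ Z : Type*} [Group Γ] [MulAction Γ Z] [Fintype Z] (f : Z → ℕ)
    (hf : ∀ (g : Γ) (z : Z), f (g • z) = f z) (D : ℕ)
    (h : ∀ z, D ∣ (MulAction.stabilizer Γ z).index * f z) : D ∣ ∑ z, f z := by
  classical
  haveI : Fintype (MulAction.orbitRel.Quotient Γ Z) := Fintype.ofFinite _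
  rw [← Finset.sum_fiberwise (Finset.univ)
    (fun z => (Quotient.mk'' z : MulAction.orbitRel.Quotient Γ Z)) f]
  refine Finset.dvd_sum fun ω _ => ?_
  obtain ⟨z₀, rfl⟩ := Quotient.exists_rep ω
  have hconst : ∀ z ∈ Finset.univ.filter
      (fun z => (Quotient.mk'' z : MulAction.orbitRel.Quotient Γ Z) = Quotient.mk'' z₀),
      f z = f z₀ := by
    intro z hz
    rw [Finset.mem_filter] at hz
    have h1 : z ∈ MulAction.orbit Γ z₀ := MulAction.orbitRel_apply.mp (Quotient.exact' hz.2)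
    obtain ⟨g, rfl⟩ := h1
    exact hf g z₀
  have hcard : (Finset.univ.filter
      (fun z => (Quotient.mk'' z : MulAction.orbitRel.Quotient Γ Z) = Quotient.mk'' z₀)).card =
      (MulAction.stabilizer Γ z₀).index := by
    rw [MulAction.index_stabilizer, ← Set.ncard_coe_finset]
    congr 1
    ext z
    simp only [Finset.coe_filter, Finset.mem_univ, true_and, Set.mem_setOf_eq]
    rw [← MulAction.orbitRel_apply]
    exact Quotient.eq''
  have hgoal : (∑ z ∈ Finset.univ.filter
      (fun z => (Quotient.mk'' z : MulAction.orbitRel.Quotient Γ Z) = Quotient.mk'' z₀), f z) =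
      (MulAction.stabilizer Γ z₀).index * f z₀ := by
    rw [Finset.sum_congr rfl hconst, Finset.sum_const, smul_eq_mul, hcard]
  exact hgoal ▸ h z₀

section ConjAct

variable {G : Type*} [Group G]

/-- the normalizer of a subgroup -/
abbrev kulNorm (H : Subgroup G) : Subgroup G := Subgroup.normalizer (H : Set G)

/-- conjugate of a subgroup -/
def kulConj (g : G) (H : Subgroup G) : Subgroup G := H.map (MulAut.conj g).toMonoidHom

theorem kul_mem_conj {g : G} {H : Subgroup G} {x : G} : x ∈ kulConj g H ↔ g⁻¹ * x * g ∈ H := by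
  unfold kulConj
  constructor
  · rintro ⟨y, hy, rfl⟩
    have : g⁻¹ * ((MulAut.conj g).toMonoidHom y) * g = y := by
      show g⁻¹ * (g * y * g⁻¹) * g = y
      group
    rw [this]; exact hy
  · intro h
    refine ⟨g⁻¹ * x * g, h, ?_⟩
    show g * (g⁻¹ * x * g) * g⁻¹ = x
    group

theorem kul_conj_one (H : Subgroup G) : kulConj 1 H = H := by
  ext x; simp [kul_mem_conj]

theorem kul_conj_mul (g h : G) (H : Subgroup G) : kulConj (g * h) H = kulConj g (kulConj h H) := by
  ext x
  simp only [kul_mem_conj]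
  rw [show (g * h)⁻¹ * x * (g * h) = h⁻¹ * (g⁻¹ * x * g) * h by group]

theorem kul_conj_card (g : G) (H : Subgroup G) : Nat.card (kulConj g H) = Nat.card H := by
  unfold kulConj
  exact (Nat.card_congr
    (Subgroup.equivMapOfInjective H _ (MulAut.conj g).injective).toEquiv).symm

theorem kul_conj_le {g : G} {H K : Subgroup G} (h : H ≤ K) : kulConj g H ≤ kulConj g K :=
  Subgroup.map_mono h

theorem kul_conj_le_iff {g : G} {H K : Subgroup G} : kulConj g H ≤ kulConj g K ↔ H ≤ K := by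
  constructor
  · intro h x hx
    have h1 : g * x * g⁻¹ ∈ kulConj g H := by
      rw [kul_mem_conj]
      have : g⁻¹ * (g * x * g⁻¹) * g = x := by group
      rw [this]; exact hx
    have h2 := h h1
    rw [kul_mem_conj] at h2
    have : g⁻¹ * (g * x * g⁻¹) * g = x := by group
    rw [this] at h2; exact h2
  · exact kul_conj_le

theorem kul_conj_eq_iff {g : G} {H : Subgroup G} : kulConj g H = H ↔ g ∈ kulNorm H := by
  rw [Subgroup.mem_normalizer_iff'']
  constructor
  · intro h x
    rw [← kul_mem_conj, h]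
  · intro h
    ext x
    rw [kul_mem_conj]
    exact (h x).symm

theorem kul_conj_inf (g : G) (H K : Subgroup G) :
    kulConj g (H ⊓ K) = kulConj g H ⊓ kulConj g K := by
  ext x
  simp only [kul_mem_conj, Subgroup.mem_inf]

theorem kul_conj_normalizer (g : G) (H : Subgroup G) :
    kulNorm (kulConj g H) = kulConj g (kulNorm H) := by
  ext x
  rw [kul_mem_conj, Subgroup.mem_normalizer_iff, Subgroup.mem_normalizer_iff]
  constructor
  · intro h y
    have h1 := h (g * y * g⁻¹)
    rw [kul_mem_conj, kul_mem_conj] at h1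
    have e1 : g⁻¹ * (g * y * g⁻¹) * g = y := by group
    have e2 : g⁻¹ * (x * (g * y * g⁻¹) * x⁻¹) * g = g⁻¹ * x * g * y * (g⁻¹ * x * g)⁻¹ := by group
    rw [e1, e2] at h1
    exact h1
  · intro h y
    rw [kul_mem_conj, kul_mem_conj]
    have h1 := h (g⁻¹ * y * g)
    have e2 : g⁻¹ * x * g * (g⁻¹ * y * g) * (g⁻¹ * x * g)⁻¹ = g⁻¹ * (x * y * x⁻¹) * g := by group
    rw [e2] at h1
    exact h1

/-- the conjugation action of a subgroup on an invariant family of subgroups -/
def kulAct (Γ : Subgroup G) (Pr : Subgroup G → Prop)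
    (hPr : ∀ g ∈ Γ, ∀ H, Pr H → Pr (kulConj g H)) : MulAction Γ {H : Subgroup G // Pr H} where
  smul g H := ⟨kulConj (g : G) H.1, hPr g g.2 H.1 H.2⟩
  one_smul H := Subtype.ext (kul_conj_one H.1)
  mul_smul g h H := Subtype.ext (kul_conj_mul (g : G) (h : G) H.1)

theorem kul_act_smul (Γ : Subgroup G) (Pr : Subgroup G → Prop)
    (hPr : ∀ g ∈ Γ, ∀ H, Pr H → Pr (kulConj g H)) (g : Γ) (H : {H : Subgroup G // Pr H}) :
    ((kulAct Γ Pr hPr).smul g H).1 = kulConj (g : G) H.1 := rfl

theorem kul_act_stab (Γ : Subgroup G) (Pr : Subgroup G → Prop)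
    (hPr : ∀ g ∈ Γ, ∀ H, Pr H → Pr (kulConj g H)) (H : {H : Subgroup G // Pr H}) :
    @MulAction.stabilizer Γ _ _ (kulAct Γ Pr hPr) H = (kulNorm H.1).subgroupOf Γ := by
  letI := kulAct Γ Pr hPr
  ext g
  rw [MulAction.mem_stabilizer_iff, Subgroup.mem_subgroupOf, ← kul_conj_eq_iff]
  constructor
  · intro h
    exact congrArg Subtype.val h
  · intro h
    exact Subtype.ext h

/-- the index of the stabilizer in the conjugation action -/
theorem kul_act_index [Finite G] (Γ : Subgroup G) (Pr : Subgroup G → Prop)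
    (hPr : ∀ g ∈ Γ, ∀ H, Pr H → Pr (kulConj g H)) (H : {H : Subgroup G // Pr H}) :
    Nat.card (Γ ⊓ kulNorm H.1 : Subgroup G) *
      (@MulAction.stabilizer Γ _ _ (kulAct Γ Pr hPr) H).index = Nat.card Γ := by
  rw [kul_act_stab, ← Subgroup.card_mul_index ((kulNorm H.1).subgroupOf Γ)]
  congr 1
  rw [inf_comm, ← Subgroup.inf_subgroupOf_right]
  exact Nat.card_congr (Subgroup.subgroupOfEquivOfLe inf_le_right).toEquiv.symm

/-- weighted orbit sum for the conjugation action -/
theorem kul_conj_orbit_sum [Finite G] (Γ : Subgroup G) (Pr : Subgroup G → Prop)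
    (hPr : ∀ g ∈ Γ, ∀ H, Pr H → Pr (kulConj g H)) [Fintype {H : Subgroup G // Pr H}]
    (f : Subgroup G → ℕ) (hf : ∀ g ∈ Γ, ∀ H, Pr H → f (kulConj g H) = f H) (D : ℕ)
    (h : ∀ H, Pr H → ∀ i : ℕ, Nat.card (Γ ⊓ kulNorm H : Subgroup G) * i = Nat.card Γ →
      D ∣ i * f H) :
    D ∣ ∑ H : {H : Subgroup G // Pr H}, f H.1 := by
  letI := kulAct Γ Pr hPr
  refine kul_orbit_sum (Γ := Γ) (fun H : {H : Subgroup G // Pr H} => f H.1) ?_ D ?_
  · intro g H
    exact hf g g.2 H.1 H.2
  · intro H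
    exact h H.1 H.2 _ (kul_act_index Γ Pr hPr H)

/-- fixed point congruence for the conjugation action of a `p`-subgroup -/
theorem kul_conj_fixed [Finite G] {p : ℕ} [Fact p.Prime] (Γ : Subgroup G) {k : ℕ}
    (hΓ : Nat.card Γ = p ^ k) (Pr : Subgroup G → Prop)
    (hPr : ∀ g ∈ Γ, ∀ H, Pr H → Pr (kulConj g H)) :
    Nat.card {H : Subgroup G // Pr H} ≡
      Nat.card {H : Subgroup G // Pr H ∧ Γ ≤ kulNorm H} [MOD p] := by
  letI := kulAct Γ Pr hPr
  have h1 := (IsPGroup.of_card hΓ).card_modEq_card_fixedPoints {H : Subgroup G // Pr H}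
  refine h1.trans ?_
  have hfix : ∀ H : {H : Subgroup G // Pr H},
      H ∈ MulAction.fixedPoints Γ {H : Subgroup G // Pr H} ↔ Γ ≤ kulNorm H.1 := by
    intro H
    rw [MulAction.mem_fixedPoints]
    constructor
    · intro h g hg
      rw [← kul_conj_eq_iff]
      exact congrArg Subtype.val (h ⟨g, hg⟩)
    · intro h g
      exact Subtype.ext (kul_conj_eq_iff.mpr (h g.2))
  have e : MulAction.fixedPoints Γ {H : Subgroup G // Pr H} ≃
      {H : Subgroup G // Pr H ∧ Γ ≤ kulNorm H} :=
    { toFun := fun z => ⟨z.1.1, z.1.2, (hfix z.1).mp z.2⟩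
      invFun := fun H => ⟨⟨H.1, H.2.1⟩, (hfix _).mpr H.2.2⟩
      left_inv := fun z => rfl
      right_inv := fun H => rfl }
  rw [Nat.card_congr e]

end ConjAct

end Cfsg.Agent.Helper26
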