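import Mathlib
import Cfsg.Agent.Helper26.Kul6

set_option autoImplicit false

namespace Cfsg.Agent.Helper26

open Subgroup

universe u

theorem kul_card_split {α : Type*} [Finite α] (A B : α → Prop) :
    Nat.card {x // A x} = Nat.card {x // A x ∧ B x} + Nat.card {x // A x ∧ ¬ B x} := by
  classical
  haveI : Fintype α := Fintype.ofFinite α
  rw [Nat.card_eq_fintype_card, Nat.card_eq_fintype_card, Nat.card_eq_fintype_card,
    Fintype.card_subtype, Fintype.card_subtype, Fintype.card_subtype]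
  have h := Finset.card_filter_add_card_filter_not (s := Finset.univ.filter A) B
  rw [Finset.filter_filter, Finset.filter_filter] at h
  exact h.symm

theorem kul_sum_ind {α : Type*} [Fintype α] (Q : α → Prop) [DecidablePred Q] :
    ∑ a : α, (if Q a then 1 else 0) = Nat.card {a : α // Q a} := by
  rw [Nat.card_eq_fintype_card, Fintype.card_subtype, Finset.card_filter]

section Red

variable {G : Type u} [Group G] [Finite G] {p : ℕ} [Fact p.Prime]

theorem kul_sub_pow {n : ℕ} (P : Subgroup G) (hP : Nat.card P = p ^ n) (K : Subgroup G)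
    (hK : K ≤ P) : ∃ j, j ≤ n ∧ Nat.card K = p ^ j := by
  have hp := (Fact.out : p.Prime)
  have h1 : Nat.card K ∣ p ^ n := hP ▸ Subgroup.card_dvd_of_le hK
  obtain ⟨j, hj, h2⟩ := (Nat.dvd_prime_pow hp).mp h1
  exact ⟨j, hj, h2⟩

/-- a `p`-subgroup normalized by a `p`-subgroup of maximal order lies in it -/
theorem kul_le_of_normalizes {n : ℕ} (P : Subgroup G) (hP : Nat.card P = p ^ n)
    (hmax : ∀ (Q : Subgroup G) (k : ℕ), Nat.card Q = p ^ k → k ≤ n) (H : Subgroup G) {k : ℕ}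
    (hH : Nat.card H = p ^ k) (hN : P ≤ kulNorm H) : H ≤ P := by
  have hp := (Fact.out : p.Prime)
  have hsup : IsPGroup p (H ⊔ P : Subgroup G) :=
    IsPGroup.to_sup_of_normal_left' (IsPGroup.of_card hH) (IsPGroup.of_card hP) hN
  obtain ⟨j, hj⟩ := IsPGroup.iff_card.mp hsup
  have hjn := hmax _ j hj
  have h1 : P = H ⊔ P := Subgroup.eq_of_le_of_card_ge le_sup_right (by
    rw [hj, hP]; exact Nat.pow_le_pow_right hp.pos hjn)
  rw [h1]; exact le_sup_left

/-- a subgroup of index `p` of a `p`-group is normalized by it -/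
theorem kul_normalizes_max {n : ℕ} (Q : Subgroup G) (hQ : Nat.card Q = p ^ n) (M : Subgroup G)
    (hMQ : M ≤ Q) (hM : Nat.card M = p ^ (n - 1)) (hn : 1 ≤ n) : Q ≤ kulNorm M := by
  have h1 : Nat.card (M.subgroupOf Q) = p ^ (n - 1) := by
    rw [Nat.card_congr (Subgroup.subgroupOfEquivOfLe hMQ).toEquiv]; exact hM
  have hidx := kul_index_of_card hQ hn (M.subgroupOf Q) h1
  have hnorm := kul_normal_of_index hQ (M.subgroupOf Q) hidx
  exact (Subgroup.normal_subgroupOf_iff_le_normalizer hMQ).mp hnorm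

theorem kul_sup_card {n a : ℕ}
    (hmax : ∀ (Q : Subgroup G) (k : ℕ), Nat.card Q = p ^ k → k ≤ n) (H M : Subgroup G)
    (hH : Nat.card H = p ^ a) (hM : Nat.card M = p ^ (n - 1)) (hMN : M ≤ kulNorm H)
    (hHM : ¬ H ≤ M) : Nat.card (H ⊔ M : Subgroup G) = p ^ n := by
  have hp := (Fact.out : p.Prime)
  have hsup : IsPGroup p (H ⊔ M : Subgroup G) :=
    IsPGroup.to_sup_of_normal_left' (IsPGroup.of_card hH) (IsPGroup.of_card hM) hMN
  obtain ⟨j, hj⟩ := IsPGroup.iff_card.mp hsup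
  have hjn := hmax _ j hj
  have h1 : Nat.card M ∣ Nat.card (H ⊔ M : Subgroup G) := Subgroup.card_dvd_of_le le_sup_right
  rw [hM, hj] at h1
  have h2 : n - 1 ≤ j := (Nat.pow_dvd_pow_iff_le_right hp.one_lt).mp h1
  have h3 : j ≠ n - 1 := by
    intro h
    have : M = H ⊔ M := Subgroup.eq_of_le_of_card_ge le_sup_right (by rw [hj, hM, h])
    apply hHM
    rw [this]; exact le_sup_left
  rw [hj]; congr 1; omega

theorem kul_conj_inj {g : G} {H K : Subgroup G} (h : kulConj g H = kulConj g K) : H = K :=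
  le_antisymm (kul_conj_le_iff.mp h.le) (kul_conj_le_iff.mp h.ge)

/-- the normal subgroups of `Q` of order `p ^ a` not inside the maximal subgroup `M`:
their number is divisible by `p` -/
theorem kul_FQ_dvd {n a : ℕ} (Q M : Subgroup G) (hQ : Nat.card Q = p ^ n) (hMQ : M ≤ Q)
    (hM : Nat.card M = p ^ (n - 1)) (han : a < n) :
    p ∣ Nat.card {H : Subgroup G // Nat.card H = p ^ a ∧ H ≤ Q ∧ Q ≤ kulNorm H ∧ ¬ H ≤ M} := by
  have hQN : Q ≤ kulNorm M := kul_normalizes_max Q hQ M hMQ hM (by omega)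
  have hQQ : ∀ g ∈ Q, kulConj g Q = Q :=
    fun g hg => kul_conj_eq_iff.mpr (Subgroup.le_normalizer hg)
  have hQM : ∀ g ∈ Q, kulConj g M = M := fun g hg => kul_conj_eq_iff.mpr (hQN hg)
  have hA := kul_conj_fixed Q hQ (fun H => Nat.card H = p ^ a ∧ H ≤ Q) (by
    intro g hg H hH
    refine ⟨(kul_conj_card g H).trans hH.1, ?_⟩
    have := kul_conj_le (g := g) hH.2
    rwa [hQQ g hg] at this)
  have hA1 : Nat.card {H : Subgroup G // Nat.card H = p ^ a ∧ H ≤ Q} ≡ 1 [MOD p] := by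
    have e : {H : Subgroup G // Nat.card H = p ^ a ∧ H ≤ Q} ≃
        {H : Subgroup G // H ≤ Q ∧ Nat.card H = p ^ a} :=
      Equiv.subtypeEquivRight (fun H => and_comm)
    rw [Nat.card_congr e, kul_transfer Q (p ^ a)]
    exact kul_frob n Q hQ a (by omega)
  have hB := kul_conj_fixed Q hQ (fun H => Nat.card H = p ^ a ∧ H ≤ M) (by
    intro g hg H hH
    refine ⟨(kul_conj_card g H).trans hH.1, ?_⟩
    have := kul_conj_le (g := g) hH.2
    rwa [hQM g hg] at this)
  have hB1 : Nat.card {H : Subgroup G // Nat.card H = p ^ a ∧ H ≤ M} ≡ 1 [MOD p] := by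
    have e : {H : Subgroup G // Nat.card H = p ^ a ∧ H ≤ M} ≃
        {H : Subgroup G // H ≤ M ∧ Nat.card H = p ^ a} :=
      Equiv.subtypeEquivRight (fun H => and_comm)
    rw [Nat.card_congr e, kul_transfer M (p ^ a)]
    exact kul_frob (n - 1) M hM a (by omega)
  have hsplit := kul_card_split (α := Subgroup G)
    (fun H => (Nat.card H = p ^ a ∧ H ≤ Q) ∧ Q ≤ kulNorm H) (fun H => H ≤ M)
  have e1 : {H : Subgroup G // ((Nat.card H = p ^ a ∧ H ≤ Q) ∧ Q ≤ kulNorm H) ∧ H ≤ M} ≃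
      {H : Subgroup G // (Nat.card H = p ^ a ∧ H ≤ M) ∧ Q ≤ kulNorm H} :=
    Equiv.subtypeEquivRight (fun H =>
      ⟨fun h => ⟨⟨h.1.1.1, h.2⟩, h.1.2⟩, fun h => ⟨⟨⟨h.1.1, h.1.2.trans hMQ⟩, h.2⟩, h.1.2⟩⟩)
  have e2 : {H : Subgroup G // ((Nat.card H = p ^ a ∧ H ≤ Q) ∧ Q ≤ kulNorm H) ∧ ¬ H ≤ M} ≃
      {H : Subgroup G // Nat.card H = p ^ a ∧ H ≤ Q ∧ Q ≤ kulNorm H ∧ ¬ H ≤ M} :=
    Equiv.subtypeEquivRight (fun H =>
      ⟨fun h => ⟨h.1.1.1, h.1.1.2, h.1.2, h.2⟩, fun h => ⟨⟨⟨h.1, h.2.1⟩, h.2.2.1⟩, h.2.2.2⟩⟩)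
  rw [Nat.card_congr e1, Nat.card_congr e2] at hsplit
  have h1 : Nat.card {H : Subgroup G // (Nat.card H = p ^ a ∧ H ≤ M) ∧ Q ≤ kulNorm H} +
      Nat.card {H : Subgroup G // Nat.card H = p ^ a ∧ H ≤ Q ∧ Q ≤ kulNorm H ∧ ¬ H ≤ M} ≡
      Nat.card {H : Subgroup G // (Nat.card H = p ^ a ∧ H ≤ M) ∧ Q ≤ kulNorm H} + 0 [MOD p] := by
    rw [← hsplit, add_zero]
    exact (hA.symm.trans hA1).trans (hB.symm.trans hB1).symm
  exact (Nat.modEq_zero_iff_dvd).mp (Nat.ModEq.add_left_cancel' _ h1)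

theorem kul_FQ_le (a : ℕ) (M Q : Subgroup G) (g : G) (hg : kulConj g M = M) :
    Nat.card {H : Subgroup G // Nat.card H = p ^ a ∧ H ≤ Q ∧ Q ≤ kulNorm H ∧ ¬ H ≤ M} ≤
      Nat.card {H : Subgroup G // Nat.card H = p ^ a ∧ H ≤ kulConj g Q ∧
        kulConj g Q ≤ kulNorm H ∧ ¬ H ≤ M} := by
  refine Nat.card_le_card_of_injective (fun H => ⟨kulConj g H.1,
    (kul_conj_card g H.1).trans H.2.1, kul_conj_le H.2.2.1, by
      rw [kul_conj_normalizer]; exact kul_conj_le H.2.2.2.1, by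
      intro h
      have h' : kulConj g H.1 ≤ kulConj g M := by rw [hg]; exact h
      exact H.2.2.2.2 (kul_conj_le_iff.mp h')⟩) ?_
  intro H K hHK
  have h1 : kulConj g H.1 = kulConj g K.1 := congrArg Subtype.val hHK
  exact Subtype.ext (kul_conj_inj h1)

theorem kul_FQ_conj (a : ℕ) (M Q : Subgroup G) (g : G) (hg : g ∈ kulNorm M) :
    Nat.card {H : Subgroup G // Nat.card H = p ^ a ∧ H ≤ kulConj g Q ∧
        kulConj g Q ≤ kulNorm H ∧ ¬ H ≤ M} =
      Nat.card {H : Subgroup G // Nat.card H = p ^ a ∧ H ≤ Q ∧ Q ≤ kulNorm H ∧ ¬ H ≤ M} := by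
  have hg1 : kulConj g M = M := kul_conj_eq_iff.mpr hg
  have hg2 : kulConj g⁻¹ M = M := kul_conj_eq_iff.mpr (inv_mem hg)
  refine le_antisymm ?_ (kul_FQ_le a M Q g hg1)
  have h := kul_FQ_le (p := p) a M (kulConj g Q) g⁻¹ hg2
  rw [← kul_conj_mul, inv_mul_cancel, kul_conj_one] at h
  exact h

/-- the subgroups of order `p ^ a` outside `P` normalized by the maximal subgroup `M` of `P` -/
theorem kul_BM_dvd {n a : ℕ} (P : Subgroup G) (hP : Nat.card P = p ^ n)
    (hmax : ∀ (Q : Subgroup G) (k : ℕ), Nat.card Q = p ^ k → k ≤ n) (han : a < n)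
    (M : Subgroup G) (hMP : M ≤ P) (hM : Nat.card M = p ^ (n - 1)) :
    p ^ 2 ∣ Nat.card {H : Subgroup G // Nat.card H = p ^ a ∧ ¬ H ≤ P ∧ M ≤ kulNorm H} := by
  classical
  have hp := (Fact.out : p.Prime)
  have hPN : P ≤ kulNorm M := kul_normalizes_max P hP M hMP hM (by omega)
  haveI : Fintype {Q : Subgroup G // Nat.card Q = p ^ n ∧ M ≤ Q ∧ Q ≠ P} := Fintype.ofFinite _
  haveI : Fintype {H : Subgroup G // Nat.card H = p ^ a} := Fintype.ofFinite _
  have hdc := kul_double_count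
    (fun (Q : {Q : Subgroup G // Nat.card Q = p ^ n ∧ M ≤ Q ∧ Q ≠ P})
      (H : {H : Subgroup G // Nat.card H = p ^ a}) =>
        H.1 ≤ Q.1 ∧ Q.1 ≤ kulNorm H.1 ∧ ¬ H.1 ≤ M)
  have hL : ∑ Q : {Q : Subgroup G // Nat.card Q = p ^ n ∧ M ≤ Q ∧ Q ≠ P},
      Nat.card {H : {H : Subgroup G // Nat.card H = p ^ a} //
        H.1 ≤ Q.1 ∧ Q.1 ≤ kulNorm H.1 ∧ ¬ H.1 ≤ M} =
      ∑ Q : {Q : Subgroup G // Nat.card Q = p ^ n ∧ M ≤ Q ∧ Q ≠ P},
        Nat.card {H : Subgroup G // Nat.card H = p ^ a ∧ H ≤ Q.1 ∧ Q.1 ≤ kulNorm H ∧ ¬ H ≤ M} := by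
    refine Finset.sum_congr rfl fun Q _ => ?_
    exact Nat.card_congr (Equiv.subtypeSubtypeEquivSubtypeInter
      (fun H : Subgroup G => Nat.card H = p ^ a)
      (fun H : Subgroup G => H ≤ Q.1 ∧ Q.1 ≤ kulNorm H ∧ ¬ H ≤ M))
  have hR : ∑ H : {H : Subgroup G // Nat.card H = p ^ a},
      Nat.card {Q : {Q : Subgroup G // Nat.card Q = p ^ n ∧ M ≤ Q ∧ Q ≠ P} //
        H.1 ≤ Q.1 ∧ Q.1 ≤ kulNorm H.1 ∧ ¬ H.1 ≤ M} =
      ∑ H : {H : Subgroup G // Nat.card H = p ^ a},
        (if (¬ H.1 ≤ P ∧ M ≤ kulNorm H.1) then 1 else 0) := by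
    refine Finset.sum_congr rfl fun H _ => ?_
    split_ifs with hc
    · rw [Nat.card_eq_one_iff_unique]
      have hHM : ¬ H.1 ≤ M := fun h => hc.1 (h.trans hMP)
      constructor
      · refine ⟨fun Q Q' => ?_⟩
        have key : ∀ Q : {Q : {Q : Subgroup G // Nat.card Q = p ^ n ∧ M ≤ Q ∧ Q ≠ P} //
            H.1 ≤ Q.1 ∧ Q.1 ≤ kulNorm H.1 ∧ ¬ H.1 ≤ M}, H.1 ⊔ M = Q.1.1 := by
          intro Q
          refine Subgroup.eq_of_le_of_card_ge (sup_le Q.2.1 Q.1.2.2.1) ?_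
          rw [Q.1.2.1, kul_sup_card hmax H.1 M H.2 hM hc.2 hHM]
        exact Subtype.ext (Subtype.ext ((key Q).symm.trans (key Q')))
      · exact ⟨⟨⟨H.1 ⊔ M, kul_sup_card hmax H.1 M H.2 hM hc.2 hHM, le_sup_right, fun h =>
          hc.1 (h ▸ le_sup_left)⟩, le_sup_left, sup_le Subgroup.le_normalizer hc.2, hHM⟩⟩
    · have : IsEmpty {Q : {Q : Subgroup G // Nat.card Q = p ^ n ∧ M ≤ Q ∧ Q ≠ P} //
          H.1 ≤ Q.1 ∧ Q.1 ≤ kulNorm H.1 ∧ ¬ H.1 ≤ M} := by
        refine ⟨fun Q => hc ⟨fun hHP => ?_, Q.1.2.2.1.trans Q.2.2.1⟩⟩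
        -- H ≤ P ⊓ Q = M
        obtain ⟨j, hj, hI⟩ := kul_sub_pow Q.1.1 Q.1.2.1 (P ⊓ Q.1.1) inf_le_right
        have hMI : M ≤ P ⊓ Q.1.1 := le_inf hMP Q.1.2.2.1
        have h1 := Subgroup.card_dvd_of_le hMI
        rw [hM, hI] at h1
        have h2 : n - 1 ≤ j := (Nat.pow_dvd_pow_iff_le_right hp.one_lt).mp h1
        have h3 : j ≠ n := by
          intro h
          have e1 : P ⊓ Q.1.1 = Q.1.1 :=
            Subgroup.eq_of_le_of_card_ge inf_le_right (by rw [hI, Q.1.2.1, h])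
          have e2 : P ⊓ Q.1.1 = P :=
            Subgroup.eq_of_le_of_card_ge inf_le_left (by rw [hI, hP, h])
          exact Q.1.2.2.2 (e1.symm.trans e2)
        have h4 : M = P ⊓ Q.1.1 := Subgroup.eq_of_le_of_card_ge hMI (by
          rw [hI, hM]; exact Nat.pow_le_pow_right hp.pos (by omega))
        apply Q.2.2.2
        rw [h4]
        exact le_inf hHP Q.2.1
      rw [Nat.card_of_isEmpty]
  rw [hdc, hR, kul_sum_ind] at hL
  have e : {H : {H : Subgroup G // Nat.card H = p ^ a} // ¬ H.1 ≤ P ∧ M ≤ kulNorm H.1} ≃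
      {H : Subgroup G // Nat.card H = p ^ a ∧ ¬ H ≤ P ∧ M ≤ kulNorm H} :=
    Equiv.subtypeSubtypeEquivSubtypeInter (fun H : Subgroup G => Nat.card H = p ^ a)
      (fun H : Subgroup G => ¬ H ≤ P ∧ M ≤ kulNorm H)
  rw [← Nat.card_congr e, hL]
  -- the weighted orbit sum
  refine kul_conj_orbit_sum P (fun Q => Nat.card Q = p ^ n ∧ M ≤ Q ∧ Q ≠ P) ?_
    (fun Q => Nat.card {H : Subgroup G // Nat.card H = p ^ a ∧ H ≤ Q ∧ Q ≤ kulNorm H ∧ ¬ H ≤ M})
    ?_ (p ^ 2) ?_
  · intro g hg Q hQ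
    refine ⟨(kul_conj_card g Q).trans hQ.1, ?_, ?_⟩
    · have := kul_conj_le (g := g) hQ.2.1
      rwa [kul_conj_eq_iff.mpr (hPN hg)] at this
    · intro h
      have hPP : kulConj g P = P := kul_conj_eq_iff.mpr (Subgroup.le_normalizer hg)
      rw [← hPP] at h
      exact hQ.2.2 (kul_conj_inj h)
  · intro g hg Q _
    exact kul_FQ_conj a M Q g (hPN hg)
  · intro Q hQ i hi
    rw [hP] at hi
    obtain ⟨j, hj, hI⟩ := kul_sub_pow P hP (P ⊓ kulNorm Q) inf_le_left
    have hjn : j ≠ n := by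
      intro h
      have e1 : P ⊓ kulNorm Q = P :=
        Subgroup.eq_of_le_of_card_ge inf_le_left (by rw [hI, hP, h])
      have h1 : P ≤ kulNorm Q := (le_of_eq e1.symm).trans inf_le_right
      have h2 := kul_le_of_normalizes P hP hmax Q hQ.1 h1
      exact hQ.2.2 (Subgroup.eq_of_le_of_card_ge h2 (by rw [hP, hQ.1]))
    rw [hI] at hi
    have hi' : i = p ^ (n - j) := by
      have : p ^ j * i = p ^ j * p ^ (n - j) := by
        rw [hi, ← pow_add]; congr 1; omega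
      exact Nat.eq_of_mul_eq_mul_left (pow_pos hp.pos _) this
    have h1 : p ∣ i := by
      rw [hi']; exact dvd_pow_self p (by omega)
    have h2 := kul_FQ_dvd Q M hQ.1 hQ.2.1 hM han
    rw [pow_two]
    exact Nat.mul_dvd_mul h1 h2

/-- the subgroups of order `p ^ a` not inside `P`: their number is divisible by `p ^ 2` -/
theorem kul_Y_dvd {n a : ℕ} (P : Subgroup G) (hP : Nat.card P = p ^ n)
    (hmax : ∀ (Q : Subgroup G) (k : ℕ), Nat.card Q = p ^ k → k ≤ n) (han : a < n) :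
    p ^ 2 ∣ Nat.card {H : Subgroup G // Nat.card H = p ^ a ∧ ¬ H ≤ P} := by
  classical
  have hp := (Fact.out : p.Prime)
  have hPP : ∀ g ∈ P, kulConj g P = P :=
    fun g hg => kul_conj_eq_iff.mpr (Subgroup.le_normalizer hg)
  rw [kul_card_split (fun H : Subgroup G => Nat.card H = p ^ a ∧ ¬ H ≤ P)
    (fun H => Nat.card (P ⊓ kulNorm H : Subgroup G) = p ^ (n - 1))]
  haveI : Fintype {H : Subgroup G // Nat.card H = p ^ a ∧ ¬ H ≤ P} := Fintype.ofFinite _
  haveI : Fintype {M : Subgroup G // M ≤ P ∧ Nat.card M = p ^ (n - 1)} := Fintype.ofFinite _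
  refine dvd_add ?_ ?_
  · -- stabilizer of index p: sum over the maximal subgroups of P
    have hdc := kul_double_count
      (fun (M : {M : Subgroup G // M ≤ P ∧ Nat.card M = p ^ (n - 1)})
        (H : {H : Subgroup G // Nat.card H = p ^ a ∧ ¬ H ≤ P}) => M.1 ≤ kulNorm H.1)
    have hR : ∑ H : {H : Subgroup G // Nat.card H = p ^ a ∧ ¬ H ≤ P},
        Nat.card {M : {M : Subgroup G // M ≤ P ∧ Nat.card M = p ^ (n - 1)} //
          M.1 ≤ kulNorm H.1} =
        ∑ H : {H : Subgroup G // Nat.card H = p ^ a ∧ ¬ H ≤ P},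
          (if Nat.card (P ⊓ kulNorm H.1 : Subgroup G) = p ^ (n - 1) then 1 else 0) := by
      refine Finset.sum_congr rfl fun H _ => ?_
      obtain ⟨j, hj, hI⟩ := kul_sub_pow P hP (P ⊓ kulNorm H.1) inf_le_left
      have hjn : j ≠ n := by
        intro h
        have e1 : P ⊓ kulNorm H.1 = P :=
          Subgroup.eq_of_le_of_card_ge inf_le_left (by rw [hI, hP, h])
        have h1 : P ≤ kulNorm H.1 := (le_of_eq e1.symm).trans inf_le_right
        exact H.2.2 (kul_le_of_normalizes P hP hmax H.1 H.2.1 h1)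
      split_ifs with hc
      · rw [Nat.card_eq_one_iff_unique]
        constructor
        · refine ⟨fun M M' => ?_⟩
          have key : ∀ M : {M : {M : Subgroup G // M ≤ P ∧ Nat.card M = p ^ (n - 1)} //
              M.1 ≤ kulNorm H.1}, M.1.1 = P ⊓ kulNorm H.1 := by
            intro M
            exact Subgroup.eq_of_le_of_card_ge (le_inf M.1.2.1 M.2) (by rw [hc, M.1.2.2])
          exact Subtype.ext (Subtype.ext ((key M).trans (key M').symm))
        · exact ⟨⟨⟨P ⊓ kulNorm H.1, inf_le_left, hc⟩, inf_le_right⟩⟩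
      · have : IsEmpty {M : {M : Subgroup G // M ≤ P ∧ Nat.card M = p ^ (n - 1)} //
            M.1 ≤ kulNorm H.1} := by
          refine ⟨fun M => hc ?_⟩
          have hMI : M.1.1 ≤ P ⊓ kulNorm H.1 := le_inf M.1.2.1 M.2
          have h1 := Subgroup.card_dvd_of_le hMI
          rw [M.1.2.2, hI] at h1
          have h2 : n - 1 ≤ j := (Nat.pow_dvd_pow_iff_le_right hp.one_lt).mp h1
          rw [hI]; congr 1; omega
        rw [Nat.card_of_isEmpty]
    rw [kul_sum_ind] at hR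
    have e : {H : {H : Subgroup G // Nat.card H = p ^ a ∧ ¬ H ≤ P} //
        Nat.card (P ⊓ kulNorm H.1 : Subgroup G) = p ^ (n - 1)} ≃
        {H : Subgroup G // (Nat.card H = p ^ a ∧ ¬ H ≤ P) ∧
          Nat.card (P ⊓ kulNorm H : Subgroup G) = p ^ (n - 1)} :=
      Equiv.subtypeSubtypeEquivSubtypeInter
        (fun H : Subgroup G => Nat.card H = p ^ a ∧ ¬ H ≤ P)
        (fun H : Subgroup G => Nat.card (P ⊓ kulNorm H : Subgroup G) = p ^ (n - 1))
    rw [← Nat.card_congr e, ← hR, ← hdc]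
    refine Finset.dvd_sum fun M _ => ?_
    have e2 : {H : {H : Subgroup G // Nat.card H = p ^ a ∧ ¬ H ≤ P} // M.1 ≤ kulNorm H.1} ≃
        {H : Subgroup G // Nat.card H = p ^ a ∧ ¬ H ≤ P ∧ M.1 ≤ kulNorm H} :=
      (Equiv.subtypeSubtypeEquivSubtypeInter
        (fun H : Subgroup G => Nat.card H = p ^ a ∧ ¬ H ≤ P)
        (fun H : Subgroup G => M.1 ≤ kulNorm H)).trans
        (Equiv.subtypeEquivRight (fun H => and_assoc))
    rw [Nat.card_congr e2]
    exact kul_BM_dvd P hP hmax han M.1 M.2.1 M.2.2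
  · -- stabilizer of index at least p ^ 2
    have hsum := kul_conj_orbit_sum P (fun H => Nat.card H = p ^ a ∧ ¬ H ≤ P) (by
        intro g hg H hH
        refine ⟨(kul_conj_card g H).trans hH.1, fun h => hH.2 ?_⟩
        rw [← hPP g hg] at h
        exact kul_conj_le_iff.mp h)
      (fun H => if Nat.card (P ⊓ kulNorm H : Subgroup G) = p ^ (n - 1) then 0 else 1) (by
        intro g hg H _
        have h1 : Nat.card (P ⊓ kulNorm (kulConj g H) : Subgroup G) =
            Nat.card (P ⊓ kulNorm H : Subgroup G) := by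
          rw [kul_conj_normalizer]
          conv_lhs => rw [← hPP g hg]
          rw [← kul_conj_inf, kul_conj_card]
        simp only [h1]) (p ^ 2) (by
        intro H hH i hi
        split_ifs with hc
        · rw [mul_zero]; exact dvd_zero _
        · rw [mul_one]
          rw [hP] at hi
          obtain ⟨j, hj, hI⟩ := kul_sub_pow P hP (P ⊓ kulNorm H) inf_le_left
          have hjn : j ≠ n := by
            intro h
            have e1 : P ⊓ kulNorm H = P :=
              Subgroup.eq_of_le_of_card_ge inf_le_left (by rw [hI, hP, h])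
            have h1 : P ≤ kulNorm H := (le_of_eq e1.symm).trans inf_le_right
            exact hH.2 (kul_le_of_normalizes P hP hmax H hH.1 h1)
          have hjn1 : j ≠ n - 1 := by
            intro h
            apply hc
            rw [hI, h]
          rw [hI] at hi
          have hi' : i = p ^ (n - j) := by
            have : p ^ j * i = p ^ j * p ^ (n - j) := by
              rw [hi, ← pow_add]; congr 1; omega
            exact Nat.eq_of_mul_eq_mul_left (pow_pos hp.pos _) this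
          rw [hi']
          exact pow_dvd_pow p (by omega))
    have hsum2 : ∑ H : {H : Subgroup G // Nat.card H = p ^ a ∧ ¬ H ≤ P},
        (if Nat.card (P ⊓ kulNorm H.1 : Subgroup G) = p ^ (n - 1) then 0 else 1) =
        Nat.card {H : {H : Subgroup G // Nat.card H = p ^ a ∧ ¬ H ≤ P} //
          ¬ Nat.card (P ⊓ kulNorm H.1 : Subgroup G) = p ^ (n - 1)} := by
      rw [← kul_sum_ind]
      refine Finset.sum_congr rfl fun H _ => ?_
      by_cases hc : Nat.card (P ⊓ kulNorm H.1 : Subgroup G) = p ^ (n - 1)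
      · rw [if_pos hc, if_neg (not_not.mpr hc)]
      · rw [if_neg hc, if_pos hc]
    rw [hsum2] at hsum
    have e : {H : {H : Subgroup G // Nat.card H = p ^ a ∧ ¬ H ≤ P} //
        ¬ Nat.card (P ⊓ kulNorm H.1 : Subgroup G) = p ^ (n - 1)} ≃
        {H : Subgroup G // (Nat.card H = p ^ a ∧ ¬ H ≤ P) ∧
          ¬ Nat.card (P ⊓ kulNorm H : Subgroup G) = p ^ (n - 1)} :=
      Equiv.subtypeSubtypeEquivSubtypeInter
        (fun H : Subgroup G => Nat.card H = p ^ a ∧ ¬ H ≤ P)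
        (fun H : Subgroup G => ¬ Nat.card (P ⊓ kulNorm H : Subgroup G) = p ^ (n - 1))
    rw [← Nat.card_congr e]
    exact hsum

/-- **Sylow reduction**: modulo `p ^ 2`, the number of subgroups of order `p ^ a` of `G`
equals the number of those inside a Sylow `p`-subgroup `P` (when `p ^ a < #P`) -/
theorem kul_sylow_red {n a : ℕ} (P : Subgroup G) (hP : Nat.card P = p ^ n)
    (hmax : ∀ (Q : Subgroup G) (k : ℕ), Nat.card Q = p ^ k → k ≤ n) (han : a < n) :
    Nat.card {H : Subgroup G // Nat.card H = p ^ a} ≡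
      Nat.card {H' : Subgroup P // Nat.card H' = p ^ a} [MOD p ^ 2] := by
  rw [kul_card_split (fun H : Subgroup G => Nat.card H = p ^ a) (fun H => H ≤ P)]
  have e : {H : Subgroup G // Nat.card H = p ^ a ∧ H ≤ P} ≃
      {H : Subgroup G // H ≤ P ∧ Nat.card H = p ^ a} :=
    Equiv.subtypeEquivRight (fun H => and_comm)
  rw [Nat.card_congr e, kul_transfer P (p ^ a)]
  have h := kul_Y_dvd P hP hmax han
  have h2 : Nat.card {H : Subgroup G // Nat.card H = p ^ a ∧ ¬ H ≤ P} ≡ 0 [MOD p ^ 2] :=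
    (Nat.modEq_zero_iff_dvd).mpr h
  have h3 := Nat.ModEq.add_left (Nat.card {H' : Subgroup P // Nat.card H' = p ^ a}) h2
  rw [add_zero] at h3
  exact h3

end Red

end Cfsg.Agent.Helper26
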