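import Mathlib
import Cfsg.Agent.S1489
import Cfsg.Agent.Helper7.DetChar

/-!
Helper library (seat helper26): twisting an induced irreducible character by linear characters
(Clifford correspondence, a Schur-type rigidity lemma for extensions and a counting bound).
-/

set_option autoImplicit false

namespace Cfsg.Agent.Helper26

open Cfsg
open scoped ComplexConjugate

universe u

/-- Schur: a linear character `β`, trivial on the image of `j`, with `β ψ = ψ` for a character
`ψ` whose pullback along `j` is irreducible, is trivial. -/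
theorem lo_twist {A : Type*} {B : Type*} [Group A] [Group B] [Finite A] [Finite B] (j : B →* A)
    (ψ : A → ℂ) (hψ : IsCharacter A ψ) (hirr : IsIrrCharacter B (fun b => ψ (j b)))
    (β : A →* ℂˣ) (hβ : ∀ b : B, β (j b) = 1)
    (h : ∀ a : A, ((β a : ℂˣ) : ℂ) * ψ a = ψ a) : ∀ a : A, β a = 1 := by
  haveI : Fintype A := Fintype.ofFinite A
  haveI : Fintype B := Fintype.ofFinite B
  obtain ⟨n, ρ, rfl⟩ := hψ
  obtain ⟨σ, hσ⟩ : ∃ σ : Representation ℂ B (Fin n → ℂ), σ = ρ.comp j := ⟨_, rfl⟩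
  have hs : ∀ b : B, σ b = ρ (j b) := fun b => by rw [hσ]; rfl
  have hirr0 := hirr
  obtain ⟨m, τ, hτ, hτc⟩ := hirr
  have hc' : τ.character = σ.character := by
    rw [hτc, hσ]; rfl
  obtain ⟨E'⟩ := Helper1.nonempty_equiv_of_character_eq τ σ hc'
  haveI : τ.IsIrreducible := hτ
  haveI hirrσ : σ.IsIrreducible := Helper1.isIrreducible_of_equiv E'
  have hn : (n : ℂ) ≠ 0 := by
    have h3 : ρ.character 1 = n := Helper25.rep_char_one ρ
    have h4 : (fun b => ρ.character (j b)) 1 ≠ 0 :=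
      Helper25.irr_one_ne_zero (⟨_, hirr0⟩ : IrrCharacter B)
    simp only [map_one] at h4
    rwa [h3] at h4
  have hc : ρ.character = (Helper7.twistRep ρ β).character := by
    rw [Helper7.twistRep_character]; funext a; exact (h a).symm
  obtain ⟨E⟩ := Helper1.nonempty_equiv_of_character_eq ρ (Helper7.twistRep ρ β) hc
  obtain ⟨e, he0⟩ : ∃ e : (Fin n → ℂ) ≃ₗ[ℂ] (Fin n → ℂ), e = E.toLinearEquiv := ⟨_, rfl⟩
  have he : ∀ (a : A) (v : Fin n → ℂ), e (ρ a v) = ((β a : ℂˣ) : ℂ) • ρ a (e v) := by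
    intro a v
    have := Helper1.itw E.toIntertwiningMap a v
    rw [he0]
    exact this
  obtain ⟨c, hcT⟩ := Helper1.exists_scalar_of_commute σ e.toLinearMap (by
    intro b
    refine LinearMap.ext fun v => ?_
    show e (σ b v) = σ b (e v)
    rw [hs, he, hβ, Units.val_one, one_smul])
  have hev : ∀ v : Fin n → ℂ, e v = c • v := by
    intro v
    have := congrArg (fun T : Module.End ℂ (Fin n → ℂ) => T v) hcT
    simpa using this
  have hc0 : c ≠ 0 := by
    intro h0
    have hn' : n ≠ 0 := by rintro rfl; exact hn (by simp)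
    have h1 : e (fun _ => (1 : ℂ)) = 0 := by rw [hev, h0, zero_smul]
    have h2 : (fun _ : Fin n => (1 : ℂ)) = 0 := e.injective (by rw [h1, map_zero])
    have := congrFun h2 ⟨0, Nat.pos_of_ne_zero hn'⟩
    simp at this
  intro a
  have h5 : ∀ v : Fin n → ℂ, ρ a v = ((β a : ℂˣ) : ℂ) • ρ a v := by
    intro v
    have h6 := he a v
    rw [hev, hev, map_smul, smul_comm] at h6
    exact smul_right_injective _ hc0 h6
  have h7 : ρ a = ((β a : ℂˣ) : ℂ) • ρ a := LinearMap.ext h5
  have hinvl : ρ a ∘ₗ ρ a⁻¹ = LinearMap.id := by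
    show ρ a * ρ a⁻¹ = 1
    rw [← map_mul, mul_inv_cancel, map_one]
  have h8 := congrArg (fun T : Module.End ℂ (Fin n → ℂ) =>
    LinearMap.trace ℂ (Fin n → ℂ) (T ∘ₗ ρ a⁻¹)) h7
  simp only [LinearMap.smul_comp, hinvl, map_smul, smul_eq_mul] at h8
  have h9 : LinearMap.trace ℂ (Fin n → ℂ) LinearMap.id = (n : ℂ) := by
    rw [LinearMap.trace_id]; simp
  rw [h9] at h8
  apply Units.ext
  have h10 : (((β a : ℂˣ) : ℂ) - 1) * (n : ℂ) = 0 := by linear_combination -h8
  rcases mul_eq_zero.mp h10 with h | h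
  · rw [sub_eq_zero.mp h]; rfl
  · exact absurd h hn

/-- The product of a linear character with an induced function. -/
theorem lo_mul_indFun {G : Type u} [Group G] [Fintype G] (I : Subgroup G) (ψ : I → ℂ)
    (f : G →* ℂˣ) :
    (fun g => ((f g : ℂˣ) : ℂ) * indFun I ψ g) =
      indFun I (fun x : I => ((f x : ℂˣ) : ℂ) * ψ x) := by
  funext g
  rw [Helper2.indFun_apply, Helper2.indFun_apply, ← mul_assoc, mul_comm _ ((Nat.card I : ℂ)⁻¹),
    mul_assoc, Finset.mul_sum]
  congr 1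
  apply Finset.sum_congr rfl; intro x _
  have hfx : f (x⁻¹ * g * x) = f g := by
    rw [map_mul, map_mul, map_inv, mul_comm, ← mul_assoc, mul_inv_cancel, one_mul]
  by_cases hx : x⁻¹ * g * x ∈ I
  · rw [Helper2.extendByZero_of_mem I _ hx, Helper2.extendByZero_of_mem I _ hx]
    show _ = ((f (x⁻¹ * g * x) : ℂˣ) : ℂ) * _
    rw [hfx]
  · rw [Helper2.extendByZero_of_not_mem I _ hx, Helper2.extendByZero_of_not_mem I _ hx, mul_zero]

/-- Clifford correspondence for extensions of `φ` to its stabilizer. -/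
theorem lo_ind {G : Type u} [Group G] [Fintype G] (N I : Subgroup G) [hN : N.Normal] [Fintype I]
    (φ : IrrCharacter N)
    (hI : ∀ g : G, g ∈ I ↔ ∀ n n' : N, (n' : G) = g * (n : G) * g⁻¹ →
      (φ : N → ℂ) n' = (φ : N → ℂ) n)
    (hNI : N ≤ I) (ψ ψ' : I → ℂ) (hψ : IsIrrCharacter I ψ) (hψ' : IsIrrCharacter I ψ')
    (hψN : ∀ n : N, ψ (Subgroup.inclusion hNI n) = (φ : N → ℂ) n)
    (hψ'N : ∀ n : N, ψ' (Subgroup.inclusion hNI n) = (φ : N → ℂ) n) :
    IsIrrCharacter G (indFun I ψ) ∧ (indFun I ψ = indFun I ψ' → ψ = ψ') := by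
  classical
  haveI : Fintype (N.subgroupOf I) := Fintype.ofFinite _
  have hT : ∀ g : G, g ∈ I ↔ ∀ h : N,
      (φ : N → ℂ) ⟨g * h * g⁻¹, hN.conj_mem h h.2 g⟩ = (φ : N → ℂ) h := by
    intro g
    rw [hI]
    constructor
    · intro h n; exact h n ⟨g * n * g⁻¹, hN.conj_mem n n.2 g⟩ rfl
    · intro h n n' hn'
      have : n' = ⟨g * n * g⁻¹, hN.conj_mem n n.2 g⟩ := Subtype.ext hn'
      rw [this]; exact h n
  have hθ' : IsIrrCharacter (N.subgroupOf I) (fun x : N.subgroupOf I =>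
      (φ : N → ℂ) ⟨(x : I), Subgroup.mem_subgroupOf.mp x.2⟩) :=
    Helper2.isIrrCharacter_comp_of_surjective (Subgroup.subgroupOfEquivOfLe hNI).toMonoidHom
      (Subgroup.subgroupOfEquivOfLe hNI).surjective φ.2
  have key : ∀ ψ : I → ℂ, IsIrrCharacter I ψ →
      (∀ n : N, ψ (Subgroup.inclusion hNI n) = (φ : N → ℂ) n) →
      classInner (indFun (N.subgroupOf I)
        (fun x => (φ : N → ℂ) ⟨(x : I), Subgroup.mem_subgroupOf.mp x.2⟩)) ψ ≠ 0 := by
    intro ψ hψ hψN
    rw [Helper2.frobenius_reciprocity _ _ _ (Helper2.isClassFunction_of_isCharacter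
      (Helper2.isCharacter_of_isIrrCharacter hψ))]
    have e : (fun h : N.subgroupOf I => ψ h) = (fun x : N.subgroupOf I =>
        (φ : N → ℂ) ⟨(x : I), Subgroup.mem_subgroupOf.mp x.2⟩) := by
      funext x
      exact hψN ⟨(x : I), Subgroup.mem_subgroupOf.mp x.2⟩
    rw [e]
    have h1 := Helper2.classInner_irr_irr (⟨_, hθ'⟩ : IrrCharacter (N.subgroupOf I)) ⟨_, hθ'⟩
    rw [if_pos rfl] at h1
    rw [h1]; exact one_ne_zero
  exact Cfsg.Agent.S1489.result N I (φ : N → ℂ) φ.2 hT hNI ψ ψ' hψ hψ' (key ψ hψ hψN)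
    (key ψ' hψ' hψ'N)

/-- Two linear characters, trivial on `N`, whose products with the induced character agree,
agree on the stabilizer. -/
theorem lo_agree {G : Type u} [Group G] [Fintype G] (N I : Subgroup G) [hN : N.Normal]
    [Fintype I] (φ : IrrCharacter N)
    (hI : ∀ g : G, g ∈ I ↔ ∀ n n' : N, (n' : G) = g * (n : G) * g⁻¹ →
      (φ : N → ℂ) n' = (φ : N → ℂ) n)
    (hNI : N ≤ I) (ψ : IrrCharacter I)
    (hψN : ∀ n : N, (ψ : I → ℂ) (Subgroup.inclusion hNI n) = (φ : N → ℂ) n)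
    (f f₀ : G →* ℂˣ) (hf : ∀ n : N, f n = 1) (hf₀ : ∀ n : N, f₀ n = 1)
    (h : (fun g => ((f g : ℂˣ) : ℂ) * indFun I (ψ : I → ℂ) g) =
      (fun g => ((f₀ g : ℂˣ) : ℂ) * indFun I (ψ : I → ℂ) g)) :
    ∀ x : I, f x = f₀ x := by
  rw [lo_mul_indFun, lo_mul_indFun] at h
  have h1 : IsIrrCharacter I (fun x : I => ((f x : ℂˣ) : ℂ) * (ψ : I → ℂ) x) :=
    Helper7.isIrrCharacter_hom_mul (f.comp I.subtype) _ ψ.2
  have h2 : IsIrrCharacter I (fun x : I => ((f₀ x : ℂˣ) : ℂ) * (ψ : I → ℂ) x) :=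
    Helper7.isIrrCharacter_hom_mul (f₀.comp I.subtype) _ ψ.2
  have h3 := (lo_ind N I φ hI hNI _ _ h1 h2 (fun n => by
      show ((f ((Subgroup.inclusion hNI n : I) : G) : ℂˣ) : ℂ) * _ = _
      rw [hψN]
      have e : f ((Subgroup.inclusion hNI n : I) : G) = 1 := hf n
      rw [e, Units.val_one, one_mul]) (fun n => by
      show ((f₀ ((Subgroup.inclusion hNI n : I) : G) : ℂˣ) : ℂ) * _ = _
      rw [hψN]
      have e : f₀ ((Subgroup.inclusion hNI n : I) : G) = 1 := hf₀ n
      rw [e, Units.val_one, one_mul])).2 h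
  have h4 := lo_twist (Subgroup.inclusion hNI) (ψ : I → ℂ)
    (Helper2.isCharacter_of_isIrrCharacter ψ.2) (by
      have e : (fun b : N => (ψ : I → ℂ) (Subgroup.inclusion hNI b)) = (φ : N → ℂ) := by
        funext n; exact hψN n
      rw [e]; exact φ.2) ((f / f₀).comp I.subtype)
    (fun n => by
      show (f / f₀) ((Subgroup.inclusion hNI n : I) : G) = 1
      rw [MonoidHom.div_apply]
      have e1 : f ((Subgroup.inclusion hNI n : I) : G) = 1 := hf n
      have e2 : f₀ ((Subgroup.inclusion hNI n : I) : G) = 1 := hf₀ n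
      rw [e1, e2, div_one]) (fun x => by
      have h5 : ((f (x : G) : ℂˣ) : ℂ) * (ψ : I → ℂ) x = ((f₀ (x : G) : ℂˣ) : ℂ) * (ψ : I → ℂ) x :=
        congrFun h3 x
      show (((f / f₀) (x : G) : ℂˣ) : ℂ) * _ = _
      rw [MonoidHom.div_apply, Units.val_div_eq_div_val, div_mul_eq_mul_div, h5]
      exact mul_div_cancel_left₀ _ (Units.ne_zero _))
  intro x
  have h6 := h4 x
  exact div_eq_one.mp h6

theorem lo_hom_normSq {G : Type u} [Group G] [Finite G] (f : G →* ℂˣ) (g : G) :
    Complex.normSq ((f g : ℂˣ) : ℂ) = 1 := by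
  have hn : ‖((f g : ℂˣ) : ℂ)‖ = 1 := by
    apply Complex.norm_eq_one_of_pow_eq_one (n := Nat.card G) _ Nat.card_pos.ne'
    rw [← Units.val_pow_eq_pow_val, ← map_pow, pow_card_eq_one', map_one, Units.val_one]
  rw [Complex.normSq_eq_norm_sq, hn]; simp

/-- At most `[G : I]` irreducible characters agree on `I` with a function of absolute
value one. -/
theorem lo_count {G : Type u} [Group G] [Fintype G] (I : Subgroup G)
    (S : Finset (IrrCharacter G)) (u : G → ℂ) (hu : ∀ x ∈ I, Complex.normSq (u x) = 1)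
    (hS : ∀ χ ∈ S, ∀ x ∈ I, (χ : G → ℂ) x = u x) : S.card ≤ I.index := by
  classical
  haveI : Fintype I := Fintype.ofFinite I
  obtain ⟨F, hF⟩ : ∃ F : G → ℂ, F = ∑ χ ∈ S, (χ : G → ℂ) := ⟨_, rfl⟩
  have h1 : classInner F F = (S.card : ℂ) := by
    rw [hF, Helper2.classInner_sum_left]
    have : ∀ χ ∈ S, classInner (χ : G → ℂ) (∑ χ' ∈ S, (χ' : G → ℂ)) = 1 := by
      intro χ hχ
      rw [Helper2.classInner_sum_right, Finset.sum_eq_single χ]
      · rw [Helper2.classInner_irr_irr, if_pos rfl]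
      · intro χ' _ hne; rw [Helper2.classInner_irr_irr, if_neg (Ne.symm hne)]
      · intro h; exact absurd hχ h
    rw [Finset.sum_congr rfl this]; simp
  rw [Helper2.classInner_self_eq] at h1
  have h2 : (Nat.card G : ℝ)⁻¹ * ∑ g : G, Complex.normSq (F g) = S.card := by exact_mod_cast h1
  have hG : (0 : ℝ) < Nat.card G := by exact_mod_cast Nat.card_pos
  have h3 : ∑ g : G, Complex.normSq (F g) = S.card * Nat.card G := by
    rw [← h2]; field_simp
  have h4 : ∀ g ∈ I, Complex.normSq (F g) = (S.card : ℝ) ^ 2 := by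
    intro g hg
    have : F g = (S.card : ℂ) * u g := by
      rw [hF, Finset.sum_apply, Finset.sum_congr rfl (fun χ hχ => hS χ hχ g hg),
        Finset.sum_const, nsmul_eq_mul]
    rw [this, Complex.normSq_mul, hu g hg, mul_one, Complex.normSq_natCast]; ring
  have h5 : (Nat.card I : ℝ) * (S.card : ℝ) ^ 2 ≤ ∑ g : G, Complex.normSq (F g) := by
    calc (Nat.card I : ℝ) * (S.card : ℝ) ^ 2
        = ∑ g : G, (if g ∈ I then (S.card : ℝ) ^ 2 else 0) := by
          rw [Finset.sum_ite, Finset.sum_const_zero, add_zero, Finset.sum_const, nsmul_eq_mul,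
            Nat.card_eq_fintype_card,
            Fintype.card_of_subtype (Finset.univ.filter (fun g : G => g ∈ I)) (by simp)]
      _ ≤ ∑ g : G, Complex.normSq (F g) := by
          apply Finset.sum_le_sum; intro g _
          by_cases hg : g ∈ I
          · rw [if_pos hg, h4 g hg]
          · rw [if_neg hg]; exact Complex.normSq_nonneg _
  have hidx : (Nat.card G : ℝ) = Nat.card I * I.index := by
    rw [← Nat.cast_mul, Subgroup.card_mul_index]
  by_cases hs : S.card = 0
  · rw [hs]; exact Nat.zero_le _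
  · have hspos : (0 : ℝ) < S.card := by exact_mod_cast Nat.pos_of_ne_zero hs
    have hIpos : (0 : ℝ) < Nat.card I := by exact_mod_cast Nat.card_pos
    rw [h3, hidx] at h5
    have h6 : (S.card : ℝ) ≤ I.index := by
      have h7 : (Nat.card I : ℝ) * (S.card : ℝ) * (S.card : ℝ) ≤
          (Nat.card I : ℝ) * (S.card : ℝ) * I.index := by nlinarith
      exact le_of_mul_le_mul_left h7 (mul_pos hIpos hspos)
    exact_mod_cast h6

/-- A non-abelian minimal normal subgroup lies in the commutator subgroup. -/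
theorem lo_le_commutator {G : Type u} [Group G] (N : Subgroup G) [hN : N.Normal]
    (hmin : ∀ M : Subgroup G, M.Normal → M ≤ N → M = ⊥ ∨ M = N) (hna : ¬ IsMulCommutative ↥N) :
    N ≤ commutator G := by
  have h1 : (⁅N, N⁆ : Subgroup G).Normal := inferInstance
  have h2 : ⁅N, N⁆ ≤ N := Subgroup.commutator_le_right N N
  rcases hmin _ h1 h2 with h | h
  · exfalso; apply hna
    rw [Subgroup.commutator_eq_bot_iff_le_centralizer] at h
    refine ⟨⟨fun a b => Subtype.ext ?_⟩⟩
    have := h a.2 b b.2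
    exact this.symm
  · rw [commutator_def]
    calc N = ⁅N, N⁆ := h.symm
      _ ≤ ⁅(⊤ : Subgroup G), ⊤⁆ := Subgroup.commutator_mono le_top le_top

theorem lo_hom_trivial {G : Type u} [Group G] (N : Subgroup G) (hNc : N ≤ commutator G)
    (f : G →* ℂˣ) (n : N) : f n = 1 :=
  Abelianization.commutator_subset_ker f (hNc n.2)

/-- The number of linear characters is at most `[G : I]` times the number of irreducible
characters of degree `φ(1) [G : I]`, when `φ` extends to its stabilizer `I` and `N` lies in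
the commutator subgroup. -/
theorem lo_main {G : Type u} [Group G] [Fintype G] (N : Subgroup G) [hN : N.Normal]
    (hNc : N ≤ commutator G) (φ : IrrCharacter N) (I : Subgroup G)
    (hI : ∀ g : G, g ∈ I ↔ ∀ n n' : N, (n' : G) = g * (n : G) * g⁻¹ →
      (φ : N → ℂ) n' = (φ : N → ℂ) n)
    (hNI : N ≤ I) (ψ : IrrCharacter I)
    (hψN : ∀ n : N, (ψ : I → ℂ) (Subgroup.inclusion hNI n) = (φ : N → ℂ) n) :
    Nat.card {χ : IrrCharacter G // charDegree (χ : G → ℂ) = 1} ≤
      I.index * Nat.card {χ : IrrCharacter G //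
        charDegree (χ : G → ℂ) = charDegree (φ : N → ℂ) * I.index} := by
  classical
  haveI : Fintype I := Fintype.ofFinite I
  obtain ⟨χ₀, hχ₀⟩ : ∃ χ₀ : G → ℂ, χ₀ = indFun I (ψ : I → ℂ) := ⟨_, rfl⟩
  have hχ₀irr : IsIrrCharacter G χ₀ := by
    rw [hχ₀]; exact (lo_ind N I φ hI hNI _ _ ψ.2 ψ.2 hψN hψN).1
  have hχ₀1 : χ₀ 1 = ((charDegree (φ : N → ℂ) * I.index : ℕ) : ℂ) := by
    rw [hχ₀, Helper7.indFun_one]
    have e1 : (ψ : I → ℂ) 1 = (φ : N → ℂ) 1 := by
      have := hψN 1
      simpa using this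
    rw [e1, Helper25.irr_one_eq_degree φ]
    have hidx : (Nat.card G : ℂ) = Nat.card I * I.index := by
      rw [← Nat.cast_mul, Subgroup.card_mul_index]
    have hI0 : (Nat.card I : ℂ) ≠ 0 := by exact_mod_cast Nat.card_pos.ne'
    rw [hidx]; push_cast; field_simp
  have hlin : ∀ χ : {χ : IrrCharacter G // charDegree (χ : G → ℂ) = 1},
      ∃ f : G →* ℂˣ, (χ.1 : G → ℂ) = fun g => ((f g : ℂˣ) : ℂ) := by
    intro χ
    apply Helper7.exists_hom_of_linear _ (Helper2.isCharacter_of_isIrrCharacter χ.1.2)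
    rw [Helper25.irr_one_eq_degree, χ.2]; simp
  choose fh hfh using hlin
  have hirr : ∀ χ : {χ : IrrCharacter G // charDegree (χ : G → ℂ) = 1},
      IsIrrCharacter G (fun g => (χ.1 : G → ℂ) g * χ₀ g) := by
    intro χ
    have := Helper7.isIrrCharacter_hom_mul (fh χ) χ₀ hχ₀irr
    rw [hfh χ]; exact this
  obtain ⟨m, hm⟩ : ∃ m : {χ : IrrCharacter G // charDegree (χ : G → ℂ) = 1} → IrrCharacter G,
      ∀ χ, (m χ : G → ℂ) = fun g => (χ.1 : G → ℂ) g * χ₀ g :=
    ⟨fun χ => ⟨fun g => (χ.1 : G → ℂ) g * χ₀ g, hirr χ⟩, fun χ => rfl⟩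
  have hmaps : ∀ χ ∈ (Finset.univ : Finset {χ : IrrCharacter G // charDegree (χ : G → ℂ) = 1}),
      m χ ∈ Finset.univ.filter (fun χ : IrrCharacter G =>
        charDegree (χ : G → ℂ) = charDegree (φ : N → ℂ) * I.index) := by
    intro χ _
    rw [Finset.mem_filter]
    refine ⟨Finset.mem_univ _, ?_⟩
    have h1 := Helper25.irr_one_eq_degree (m χ)
    rw [hm χ] at h1
    simp only at h1
    rw [Helper25.irr_one_eq_degree χ.1, χ.2, hχ₀1, Nat.cast_one, one_mul] at h1
    rw [hm χ]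
    exact (Nat.cast_injective h1).symm
  have hfib : ∀ b ∈ Finset.univ.filter (fun χ : IrrCharacter G =>
        charDegree (χ : G → ℂ) = charDegree (φ : N → ℂ) * I.index),
      (Finset.univ.filter (fun χ : {χ : IrrCharacter G // charDegree (χ : G → ℂ) = 1} =>
        m χ = b)).card ≤ I.index := by
    intro b _
    by_cases hne : (Finset.univ.filter
        (fun χ : {χ : IrrCharacter G // charDegree (χ : G → ℂ) = 1} => m χ = b)).Nonempty
    · obtain ⟨χ₁, hχ₁⟩ := hne
      rw [Finset.mem_filter] at hχ₁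
      rw [← Finset.card_image_of_injective _ Subtype.val_injective]
      apply lo_count I _ (fun g => (χ₁.1 : G → ℂ) g)
      · intro x _
        rw [hfh χ₁]
        exact lo_hom_normSq (fh χ₁) x
      · intro χ hχ x hx
        rw [Finset.mem_image] at hχ
        obtain ⟨χ', hχ', rfl⟩ := hχ
        rw [Finset.mem_filter] at hχ'
        have heq : m χ' = m χ₁ := hχ'.2.trans hχ₁.2.symm
        have heq' : (fun g => (χ'.1 : G → ℂ) g * χ₀ g) = (fun g => (χ₁.1 : G → ℂ) g * χ₀ g) := by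
          rw [← hm χ', ← hm χ₁, heq]
        rw [hfh χ', hfh χ₁, hχ₀] at heq'
        have h8 := lo_agree N I φ hI hNI ψ hψN (fh χ') (fh χ₁)
          (fun n => lo_hom_trivial N hNc _ n) (fun n => lo_hom_trivial N hNc _ n) heq' ⟨x, hx⟩
        rw [hfh χ', hfh χ₁]
        show ((fh χ' x : ℂˣ) : ℂ) = ((fh χ₁ x : ℂˣ) : ℂ)
        have h9 : fh χ' x = fh χ₁ x := h8
        rw [h9]
    · rw [Finset.not_nonempty_iff_eq_empty] at hne
      rw [hne]; simp
  have h := Finset.card_le_mul_card_image_of_maps_to hmaps I.index hfib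
  rw [Nat.card_eq_fintype_card, Nat.card_eq_fintype_card,
    Fintype.card_subtype (fun χ : IrrCharacter G =>
      charDegree (χ : G → ℂ) = charDegree (φ : N → ℂ) * I.index)]
  rw [Finset.card_univ] at h
  exact h

end Cfsg.Agent.Helper26
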