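import Mathlib
import Cfsg.Agent.Helper26.KNorm
import Cfsg.Agent.Helper26.InnerSys

set_option autoImplicit false

namespace Cfsg.Agent.Helper26

open Cfsg Cfsg.FusionSystem

variable {Ω : Type*} [Group Ω] {S : Subgroup Ω}

/-- the intersection of a Sylow subgroup with a normal subgroup is a Sylow subgroup of it -/
theorem CardSyl.inf_normal {G : Type*} [Group G] [Finite G] {p : ℕ} [Fact p.Prime]
    {T A A₀ : Subgroup G} (hT : CardSyl p T A) (hA₀ : A₀ ≤ A)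
    (hn : ∀ a ∈ A, ∀ x ∈ A₀, a * x * a⁻¹ ∈ A₀) : CardSyl p (T ⊓ A₀) A₀ := by
  obtain ⟨T₀, -, hT₀⟩ := exists_cardSyl_ge p (IsPGroup.of_bot : IsPGroup p (⊥ : Subgroup G))
    (bot_le : ⊥ ≤ A₀)
  obtain ⟨b, hb, hbT⟩ := exists_conj_le_of_cardSyl p hT hT₀.isPGroup (hT₀.1.trans hA₀)
  apply cardSyl_of_le_of_card_le hT₀ (hT.isPGroup.to_le inf_le_left) inf_le_right
  rw [← card_map_conj T₀ b]
  exact Subgroup.card_le_of_le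
    (map_conj_le_iff.mpr (fun x hx => ⟨hbT x hx, hn b hb x (hT₀.1 hx)⟩))

/-- transport of a map of the system along an equality of subgroups -/
theorem hom_of_eq (E : FusionSystem S) {A B : Subgroup Ω} (h : A = B) {χ : A →* Ω}
    (hχ : χ ∈ E.Hom A) :
    ∃ χ' ∈ E.Hom B, ∀ (x : Ω) (hA : x ∈ A) (hB : x ∈ B), χ' ⟨x, hB⟩ = χ ⟨x, hA⟩ := by
  subst h
  exact ⟨χ, hχ, fun x hA hB => rfl⟩

/-- the strong invariance condition -/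
def StrongInv (F : FusionSystem S) {T : Subgroup Ω} (E : FusionSystem T) : Prop :=
  ∀ (P Q : Subgroup Ω) (hPQ : P ≤ Q) (_ : Q ≤ T) (φ : P →* Ω) (_ : φ ∈ E.Hom P)
    (hφQ : ∀ x : P, φ x ∈ Q) (ψ : Q →* Ω) (_ : ψ ∈ F.Hom Q),
    ∃ χ ∈ E.Hom ((P.subgroupOf Q).map ψ),
      ∀ (x : P) (hx : ψ (Subgroup.inclusion hPQ x) ∈ (P.subgroupOf Q).map ψ),
        χ ⟨ψ (Subgroup.inclusion hPQ x), hx⟩ = ψ ⟨φ x, hφQ x⟩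

/-- `φ` is an element of `Aut_F(T)` composed with a map of `E` -/
def FratX (F : FusionSystem S) {T : Subgroup Ω} (E : FusionSystem T) (P : Subgroup Ω)
    (φ : P →* Ω) : Prop :=
  ∃ α ∈ F.autGroup T, ∃ φ₀ ∈ E.Hom P,
    ∀ (x : P) (hx : φ₀ x ∈ T), φ x = ((α ⟨φ₀ x, hx⟩ : T) : Ω)

theorem fratX_of_mem (F : FusionSystem S) {T : Subgroup Ω} (E : FusionSystem T)
    {P : Subgroup Ω} {φ : P →* Ω} (hφ : φ ∈ E.Hom P) : FratX F E P φ :=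
  ⟨1, one_mem _, φ, hφ, fun _ _ => rfl⟩

theorem FratX.restrict {F : FusionSystem S} {T : Subgroup Ω} {E : FusionSystem T}
    {P R : Subgroup Ω} {φ : P →* Ω} (h : FratX F E P φ) (hRP : R ≤ P) :
    FratX F E R (φ.comp (Subgroup.inclusion hRP)) := by
  obtain ⟨α, hα, φ₀, hφ₀, e⟩ := h
  exact ⟨α, hα, _, restrict_mem E hφ₀ hRP, fun x hx => e _ hx⟩

theorem FratX.comp {F : FusionSystem S} {T : Subgroup Ω} {E : FusionSystem T} (hTS : T ≤ S)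
    (hSI : StrongInv F E) {P Q : Subgroup Ω} {φ : P →* Ω} {ψ : Q →* Ω}
    (hφ : FratX F E P φ) (hψ : FratX F E Q ψ) (hQT : Q ≤ T) (h : ∀ x : P, φ x ∈ Q) :
    FratX F E P (ψ.comp (φ.codRestrict Q h)) := by
  obtain ⟨α, hα, φ₀, hφ₀, eφ⟩ := hφ
  obtain ⟨β, hβ, ψ₀, hψ₀, eψ⟩ := hψ
  have hψ₀T : ∀ q : Q, ψ₀ q ∈ T := (E.le_of_mem hψ₀).2
  have hφ₀T : ∀ x : P, φ₀ x ∈ T := (E.le_of_mem hφ₀).2
  have hαinv : (α⁻¹ : MulAut T) ∈ F.autGroup T := inv_mem hα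
  have hαF := (mem_autGroup_iff F hTS).mp hαinv
  obtain ⟨χ, hχ, eχ⟩ := hSI Q T hQT le_rfl ψ₀ hψ₀ hψ₀T _ hαF
  have hkey : ∀ x : P, ((α⁻¹ ⟨φ x, hQT (h x)⟩ : T) : Ω) = φ₀ x := by
    intro x
    have h1 : (⟨φ x, hQT (h x)⟩ : T) = α ⟨φ₀ x, hφ₀T x⟩ := Subtype.ext (eφ x (hφ₀T x))
    rw [h1, MulAut.inv_apply_self]
  have hmem : ∀ x : P, φ₀ x ∈
      (Q.subgroupOf T).map (T.subtype.comp (α⁻¹ : MulAut T).toMonoidHom) := by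
    intro x
    refine ⟨⟨φ x, hQT (h x)⟩, ?_, hkey x⟩
    rw [SetLike.mem_coe, Subgroup.mem_subgroupOf]
    exact h x
  refine ⟨β * α, mul_mem hβ hα, χ.comp (φ₀.codRestrict _ hmem), E.comp_mem hφ₀ hχ hmem,
    fun x hx => ?_⟩
  have hx' : (T.subtype.comp (α⁻¹ : MulAut T).toMonoidHom)
      (Subgroup.inclusion hQT ⟨φ x, h x⟩) ∈
      (Q.subgroupOf T).map (T.subtype.comp (α⁻¹ : MulAut T).toMonoidHom) :=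
    ⟨_, by
      rw [SetLike.mem_coe, Subgroup.mem_subgroupOf]
      exact h x, rfl⟩
  have h1 := eχ ⟨φ x, h x⟩ hx'
  have h2 : (⟨φ₀ x, hmem x⟩ :
      ↥((Q.subgroupOf T).map (T.subtype.comp (α⁻¹ : MulAut T).toMonoidHom))) =
      ⟨(T.subtype.comp (α⁻¹ : MulAut T).toMonoidHom) (Subgroup.inclusion hQT ⟨φ x, h x⟩),
        hx'⟩ := Subtype.ext (hkey x).symm
  have h3 : χ ⟨φ₀ x, hmem x⟩ = ((α⁻¹ ⟨ψ₀ ⟨φ x, h x⟩, hψ₀T _⟩ : T) : Ω) := by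
    rw [h2]
    exact h1
  have h4 : (⟨χ ⟨φ₀ x, hmem x⟩, hx⟩ : T) = α⁻¹ ⟨ψ₀ ⟨φ x, h x⟩, hψ₀T _⟩ := Subtype.ext h3
  show ψ ⟨φ x, h x⟩ = ((β (α ⟨χ ⟨φ₀ x, hmem x⟩, hx⟩) : T) : Ω)
  rw [h4, MulAut.apply_inv_self]
  exact eψ _ _

theorem FratX.inv {F : FusionSystem S} {T : Subgroup Ω} {E : FusionSystem T} (hTS : T ≤ S)
    (hSI : StrongInv F E) {P : Subgroup Ω} {φ : P →* Ω} (hφ : FratX F E P φ) (hPT : P ≤ T)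
    {R : Subgroup Ω} (hr : φ.range = R) (ψ : R →* Ω)
    (hψ : ∀ (x : P) (hx : φ x ∈ R), ψ ⟨φ x, hx⟩ = x) : FratX F E R ψ := by
  subst hr
  obtain ⟨α, hα, φ₀, hφ₀, eφ⟩ := hφ
  have hφ₀T : ∀ x : P, φ₀ x ∈ T := (E.le_of_mem hφ₀).2
  obtain ⟨ι, hι, eι⟩ := E.inv_mem hφ₀
  have hr₀ : φ₀.range ≤ T := by
    rintro _ ⟨x, rfl⟩
    exact hφ₀T x
  have hιT : ∀ y, ι y ∈ T := (E.le_of_mem hι).2
  have hαF := (mem_autGroup_iff F hTS).mp hα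
  obtain ⟨χ, hχ, eχ⟩ := hSI φ₀.range T hr₀ le_rfl ι hι hιT _ hαF
  have hdom : (φ₀.range.subgroupOf T).map (T.subtype.comp α.toMonoidHom) = φ.range := by
    ext y
    constructor
    · rintro ⟨⟨z, ht⟩, hz, rfl⟩
      rw [SetLike.mem_coe, Subgroup.mem_subgroupOf] at hz
      obtain ⟨x, hx⟩ := hz
      refine ⟨x, ?_⟩
      rw [eφ x (hφ₀T x)]
      have h1 : (⟨φ₀ x, hφ₀T x⟩ : T) = ⟨z, ht⟩ := Subtype.ext hx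
      rw [h1]
      rfl
    · rintro ⟨x, rfl⟩
      refine ⟨⟨φ₀ x, hφ₀T x⟩, ?_, (eφ x (hφ₀T x)).symm⟩
      rw [SetLike.mem_coe, Subgroup.mem_subgroupOf]
      exact ⟨x, rfl⟩
  obtain ⟨χ', hχ', eχ'⟩ := hom_of_eq E hdom hχ
  refine ⟨α⁻¹, inv_mem hα, χ', hχ', fun y hy => ?_⟩
  obtain ⟨_, x, rfl⟩ := y
  have hxr : φ x ∈ φ.range := ⟨x, rfl⟩
  have hx₀ : φ₀ x ∈ φ₀.range := ⟨x, rfl⟩
  have hA : φ x ∈ (φ₀.range.subgroupOf T).map (T.subtype.comp α.toMonoidHom) := by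
    rw [hdom]
    exact hxr
  have hx' : (T.subtype.comp α.toMonoidHom) (Subgroup.inclusion hr₀ ⟨φ₀ x, hx₀⟩) ∈
      (φ₀.range.subgroupOf T).map (T.subtype.comp α.toMonoidHom) :=
    ⟨_, by
      rw [SetLike.mem_coe, Subgroup.mem_subgroupOf]
      exact hx₀, rfl⟩
  have h1 := eχ ⟨φ₀ x, hx₀⟩ hx'
  have h2 : (⟨φ x, hA⟩ : ↥((φ₀.range.subgroupOf T).map (T.subtype.comp α.toMonoidHom))) =
      ⟨(T.subtype.comp α.toMonoidHom) (Subgroup.inclusion hr₀ ⟨φ₀ x, hx₀⟩), hx'⟩ :=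
    Subtype.ext (eφ x (hφ₀T x))
  have h3 : χ' ⟨φ x, hxr⟩ = ((α ⟨x, hPT x.2⟩ : T) : Ω) := by
    rw [eχ' _ hA hxr, h2, h1]
    have h5 : (⟨ι ⟨φ₀ x, hx₀⟩, hιT _⟩ : T) = ⟨x, hPT x.2⟩ := Subtype.ext (eι x)
    show ((α ⟨ι ⟨φ₀ x, hx₀⟩, hιT _⟩ : T) : Ω) = _
    rw [h5]
  have hy' : χ' ⟨φ x, hxr⟩ ∈ T := hy
  have h4 : (⟨χ' ⟨φ x, hxr⟩, hy'⟩ : T) = α ⟨x, hPT x.2⟩ := Subtype.ext h3
  show ψ ⟨φ x, hxr⟩ = ((α⁻¹ ⟨χ' ⟨φ x, hxr⟩, hy'⟩ : T) : Ω)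
  rw [hψ x hxr, h4, MulAut.inv_apply_self]

end Cfsg.Agent.Helper26
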