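import Mathlib
import Cfsg.Agent.Helper26.StrongInv

set_option autoImplicit false

namespace Cfsg.Agent.Helper26

open Cfsg Cfsg.FusionSystem

variable {Ω : Type*} [Group Ω] {S : Subgroup Ω}

/-- automorphisms of a fully normalized proper subgroup of `T` factor, given the claim for
larger subgroups -/
theorem frat_key [Finite S] (p : ℕ) [Fact p.Prime] (hS : IsPGroup p S) (F : FusionSystem S)
    (hF : F.IsSaturated p) {T : Subgroup Ω} (E : FusionSystem T) (hE : E.IsSubsystemOf F)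
    (hT : F.StronglyClosed T) (hSI : StrongInv F E) (U : Subgroup Ω) (hUT : U ≤ T)
    (hUne : U ≠ T) (hUfn : F.IsFullyNormalized U)
    (ih : ∀ R : Subgroup Ω, R ≤ T → Nat.card U < Nat.card R → ∀ ψ ∈ F.Hom R, FratX F E R ψ)
    (β : MulAut U) (hβ : β ∈ F.autGroup U) : FratX F E U (U.subtype.comp β.toMonoidHom) := by
  have hTS := hT.1
  have hfinT : Finite T := finite_of_le hTS
  have hTp : IsPGroup p T := hS.to_le hTS
  have hUS : U ≤ S := hUT.trans hTS
  have hfinU : Finite U := finite_of_le hUS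
  obtain ⟨hUfc, hUfa⟩ := fullyNormalized_props p hS F hF U hUfn
  have hUrec := fullyCentralized_receptive p hS F hF U hUfc
  have hSy : CardSyl p (autInducedBy S U) (F.autGroup U) :=
    (sylow_iff_cardSyl p (autInducedBy_le_autGroup F hUS)).mp hUfa.2
  have hA₀A : E.autGroup U ≤ F.autGroup U := by
    intro x hx
    rw [mem_autGroup_iff E hUT] at hx
    rw [mem_autGroup_iff F hUS]
    exact hE U hx
  have hnorm : ∀ a ∈ F.autGroup U, ∀ x ∈ E.autGroup U, a * x * a⁻¹ ∈ E.autGroup U := by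
    intro a ha x hx
    rw [mem_autGroup_iff E hUT] at hx ⊢
    have haF := (mem_autGroup_iff F hUS).mp ha
    obtain ⟨χ, hχ, eχ⟩ := hSI U U le_rfl hUT _ hx (fun u => (x u).2) _ haF
    have hdom : (U.subgroupOf U).map (U.subtype.comp a.toMonoidHom) = U := by
      ext y
      constructor
      · rintro ⟨u, -, rfl⟩
        exact (a u).2
      · intro hy
        refine ⟨a⁻¹ ⟨y, hy⟩, ?_, ?_⟩
        · rw [SetLike.mem_coe, Subgroup.mem_subgroupOf]
          exact (a⁻¹ ⟨y, hy⟩).2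
        · show ((a (a⁻¹ ⟨y, hy⟩) : U) : Ω) = y
          rw [MulAut.apply_inv_self]
    obtain ⟨χ', hχ', eχ'⟩ := hom_of_eq E hdom hχ
    have e1 : U.subtype.comp (a * x * a⁻¹).toMonoidHom = χ' := by
      ext y
      have hy' : a (a⁻¹ y) = y := MulAut.apply_inv_self _ _ _
      have hxm : (U.subtype.comp a.toMonoidHom) (Subgroup.inclusion le_rfl (a⁻¹ y)) ∈
          (U.subgroupOf U).map (U.subtype.comp a.toMonoidHom) :=
        ⟨_, by
          rw [SetLike.mem_coe, Subgroup.mem_subgroupOf]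
          exact (a⁻¹ y).2, rfl⟩
      have h1 := eχ (a⁻¹ y) hxm
      have hyA : (y : Ω) ∈ (U.subgroupOf U).map (U.subtype.comp a.toMonoidHom) := by
        rw [hdom]
        exact y.2
      have h2 : (⟨(y : Ω), hyA⟩ : ↥((U.subgroupOf U).map (U.subtype.comp a.toMonoidHom))) =
          ⟨(U.subtype.comp a.toMonoidHom) (Subgroup.inclusion le_rfl (a⁻¹ y)), hxm⟩ :=
        Subtype.ext (congrArg Subtype.val hy').symm
      have h3 : χ' y = χ ⟨(y : Ω), hyA⟩ := eχ' y hyA y.2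
      rw [h3, h2, h1]
      rfl
    rw [e1]
    exact hχ'
  have hΘ : autInducedBy T U ≤ E.autGroup U := autInducedBy_le_autGroup E hUT
  have hΘp : IsPGroup p (autInducedBy T U) := isPGroup_autInducedBy hTp U
  have hSy0 : CardSyl p (autInducedBy S U ⊓ E.autGroup U) (E.autGroup U) :=
    hSy.inf_normal hA₀A hnorm
  have hβΘ : (autInducedBy T U).map (MulAut.conj β).toMonoidHom ≤ E.autGroup U := by
    rw [map_conj_le_iff]
    intro x hx
    exact hnorm β hβ x (hΘ hx)
  obtain ⟨a, ha, haΘ⟩ := exists_conj_le_of_cardSyl p hSy0 (hΘp.map _) hβΘ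
  have hγ : a * β ∈ F.autGroup U := mul_mem (hA₀A ha) hβ
  have hγF := (mem_autGroup_iff F hUS).mp hγ
  have hγr : (U.subtype.comp (a * β).toMonoidHom).range = U := by
    ext y
    constructor
    · rintro ⟨u, rfl⟩
      exact ((a * β) u).2
    · intro hy
      refine ⟨(a * β)⁻¹ ⟨y, hy⟩, ?_⟩
      show (((a * β) ((a * β)⁻¹ ⟨y, hy⟩) : U) : Ω) = y
      rw [MulAut.apply_inv_self]
  obtain ⟨γ', hγ', eγ'⟩ := hUrec.2 U _ hγF hγr
  have hNW : normalizerIn T U ≤ extender S U (U.subtype.comp (a * β).toMonoidHom) := by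
    intro g hg
    rw [mem_extender_iff]
    refine ⟨hTS hg.1, hg.2, ?_⟩
    have ht : U.normalizerMonoidHom ⟨g, hg.2⟩ ∈ autInducedBy T U :=
      mem_autInducedBy_iff.mpr ⟨g, hg.1, fun x => rfl⟩
    have h1 := (haΘ _ ⟨_, ht, rfl⟩).1
    obtain ⟨h, hh, e⟩ := mem_autInducedBy_iff.mp h1
    refine ⟨h, hh, fun x hx => ?_⟩
    have h2 := e ((a * β) x)
    have h3 : (a * (MulAut.conj β).toMonoidHom (U.normalizerMonoidHom ⟨g, hg.2⟩) * a⁻¹)
        ((a * β) x) = (a * β) ⟨g * x * g⁻¹, hx⟩ := by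
      show a (β ((U.normalizerMonoidHom ⟨g, hg.2⟩) (β⁻¹ (a⁻¹ (a (β x)))))) =
        a (β ⟨g * x * g⁻¹, hx⟩)
      rw [MulAut.inv_apply_self, MulAut.inv_apply_self]
      rfl
    rw [h3] at h2
    exact h2
  have hUW : U ≤ normalizerIn T U := le_normalizerIn hUT
  have hXγ' := ih _ inf_le_left (card_lt_card_normalizerIn hTp hUT hUne) _
    (restrict_mem F hγ' hNW)
  have hXγ := hXγ'.restrict hUW
  have haE := (mem_autGroup_iff E hUT).mp (inv_mem ha)
  have hXa : FratX F E U (U.subtype.comp (a⁻¹ : MulAut U).toMonoidHom) := fratX_of_mem F E haE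
  have hγ'x : ∀ x : U, ((γ'.comp (Subgroup.inclusion hNW)).comp (Subgroup.inclusion hUW)) x =
      (((a * β) x : U) : Ω) := fun x => eγ' x x.2 (hNW (hUW x.2))
  have hval : ∀ x : U,
      ((γ'.comp (Subgroup.inclusion hNW)).comp (Subgroup.inclusion hUW)) x ∈ U := by
    intro x
    rw [hγ'x]
    exact ((a * β) x).2
  have hX := FratX.comp hTS hSI hXγ hXa hUT hval
  have e2 : (U.subtype.comp (a⁻¹ : MulAut U).toMonoidHom).comp
      (((γ'.comp (Subgroup.inclusion hNW)).comp (Subgroup.inclusion hUW)).codRestrict U hval) =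
      U.subtype.comp β.toMonoidHom := by
    ext x
    have h2 : (⟨((γ'.comp (Subgroup.inclusion hNW)).comp (Subgroup.inclusion hUW)) x,
        hval x⟩ : U) = (a * β) x := Subtype.ext (hγ'x x)
    show ((a⁻¹ ⟨((γ'.comp (Subgroup.inclusion hNW)).comp (Subgroup.inclusion hUW)) x,
      hval x⟩ : U) : Ω) = β x
    rw [h2]
    show ((a⁻¹ (a (β x)) : U) : Ω) = β x
    rw [MulAut.inv_apply_self]
  rw [← e2]
  exact hX

/-- strong invariance implies the Frattini condition -/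
theorem frat_of_strongInv [Finite S] (p : ℕ) [Fact p.Prime] (hS : IsPGroup p S)
    (F : FusionSystem S) (hF : F.IsSaturated p) {T : Subgroup Ω} (E : FusionSystem T)
    (hE : E.IsSubsystemOf F) (hT : F.StronglyClosed T) (hSI : StrongInv F E) :
    ∀ (n : ℕ) (P : Subgroup Ω), P ≤ T → Nat.card T - Nat.card P = n →
      ∀ φ ∈ F.Hom P, FratX F E P φ := by
  have hTS := hT.1
  have hfinT : Finite T := finite_of_le hTS
  have hTp : IsPGroup p T := hS.to_le hTS
  intro n
  induction n using Nat.strong_induction_on with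
  | _ n ih =>
  intro P hPT hn φ hφ
  by_cases hPeq : P = T
  · subst hPeq
    have hval : ∀ x : P, φ x ∈ P := fun x => hT.2 P le_rfl φ hφ x
    have hinj : Function.Injective (φ.codRestrict P hval) :=
      fun a b hab => F.injective_of_mem hφ (congrArg Subtype.val hab)
    obtain ⟨α, hα⟩ : ∃ α : MulAut P, ∀ x, ((α x : P) : Ω) = φ x :=
      ⟨MulEquiv.ofBijective (φ.codRestrict P hval)
        ⟨hinj, Finite.injective_iff_surjective.mp hinj⟩, fun x => rfl⟩
    refine ⟨α, ?_, P.subtype, subtype_mem_hom E le_rfl, fun x hx => (hα x).symm⟩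
    rw [mem_autGroup_iff F hTS]
    have e1 : P.subtype.comp α.toMonoidHom = φ := by
      ext x
      exact hα x
    rw [e1]
    exact hφ
  · have hPS : P ≤ S := hPT.trans hTS
    have ih' : ∀ R : Subgroup Ω, R ≤ T → Nat.card P < Nat.card R →
        ∀ ψ ∈ F.Hom R, FratX F E R ψ := by
      intro R hRT hlt ψ hψ
      have hRle : Nat.card R ≤ Nat.card T := Subgroup.card_le_of_le hRT
      exact ih (Nat.card T - Nat.card R) (by omega) R hRT rfl ψ hψ
    obtain ⟨U, hconj, hUfn⟩ := exists_fullyNormalized F hPS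
    obtain ⟨hUfc, hUfa⟩ := fullyNormalized_props p hS F hF U hUfn
    have hUrec := fullyCentralized_receptive p hS F hF U hUfc
    have hP'T : φ.range ≤ T := by
      rintro _ ⟨x, rfl⟩
      exact hT.2 P hPT φ hφ x
    have hUT : U ≤ T := by
      obtain ⟨θ, hθ, rfl⟩ := hconj
      rintro _ ⟨x, rfl⟩
      exact hT.2 P hPT θ hθ x
    have hcardU : Nat.card U = Nat.card P := by
      obtain ⟨θ, hθ, rfl⟩ := hconj
      exact card_range_eq F hθ
    have hcardP' : Nat.card φ.range = Nat.card P := card_range_eq F hφ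
    have hUne : U ≠ T := by
      intro h
      apply hPeq
      exact Subgroup.eq_of_le_of_card_ge hPT (by rw [← hcardU, h])
    have hP'ne : φ.range ≠ T := by
      intro h
      apply hPeq
      exact Subgroup.eq_of_le_of_card_ge hPT (by rw [← hcardP', h])
    have hconj' : F.IsConj φ.range U := isConj_trans F (isConj_symm F ⟨φ, hφ, rfl⟩) hconj
    obtain ⟨ν, hν, hνN, hνP⟩ := exists_normalizer_map p hS F U P hUfa hUrec hconj
    obtain ⟨ν', hν', hν'N, hν'P⟩ := exists_normalizer_map p hS F U φ.range hUfa hUrec hconj'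
    have hNle : normalizerIn T P ≤ normalizerIn S P := inf_le_inf_right _ hTS
    have hPN : P ≤ normalizerIn T P := le_normalizerIn hPT
    have hX1 : FratX F E (normalizerIn T P) (ν.comp (Subgroup.inclusion hNle)) :=
      ih' _ inf_le_left (card_lt_card_normalizerIn hTp hPT hPeq) _ (restrict_mem F hν hNle)
    have hX2 := hX1.restrict hPN
    have hN'le : normalizerIn T φ.range ≤ normalizerIn S φ.range := inf_le_inf_right _ hTS
    have hP'N : φ.range ≤ normalizerIn T φ.range := le_normalizerIn hP'T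
    have hX1' : FratX F E (normalizerIn T φ.range) (ν'.comp (Subgroup.inclusion hN'le)) :=
      ih' _ inf_le_left (by
        rw [← hcardP']
        exact card_lt_card_normalizerIn hTp hP'T hP'ne) _ (restrict_mem F hν' hN'le)
    have hX2' := hX1'.restrict hP'N
    have hν₁F : ((ν.comp (Subgroup.inclusion hNle)).comp (Subgroup.inclusion hPN)) ∈ F.Hom P :=
      restrict_mem F (restrict_mem F hν hNle) hPN
    have hν₁r : ((ν.comp (Subgroup.inclusion hNle)).comp (Subgroup.inclusion hPN)).range =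
        U := by
      rw [← hνP]
      ext y
      constructor
      · rintro ⟨x, rfl⟩
        exact ⟨⟨x, hNle (hPN x.2)⟩, by
          rw [SetLike.mem_coe, Subgroup.mem_subgroupOf]
          exact x.2, rfl⟩
      · rintro ⟨⟨z, hz⟩, hzP, rfl⟩
        rw [SetLike.mem_coe, Subgroup.mem_subgroupOf] at hzP
        exact ⟨⟨z, hzP⟩, rfl⟩
    have hν₁'F : ((ν'.comp (Subgroup.inclusion hN'le)).comp (Subgroup.inclusion hP'N)) ∈
        F.Hom φ.range := restrict_mem F (restrict_mem F hν' hN'le) hP'N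
    have hν₁'r : ((ν'.comp (Subgroup.inclusion hN'le)).comp (Subgroup.inclusion hP'N)).range =
        U := by
      rw [← hν'P]
      ext y
      constructor
      · rintro ⟨x, rfl⟩
        exact ⟨⟨x, hN'le (hP'N x.2)⟩, by
          rw [SetLike.mem_coe, Subgroup.mem_subgroupOf]
          exact x.2, rfl⟩
      · rintro ⟨⟨z, hz⟩, hzP, rfl⟩
        rw [SetLike.mem_coe, Subgroup.mem_subgroupOf] at hzP
        exact ⟨⟨z, hzP⟩, rfl⟩
    have hφ₂F := F.comp_mem hφ hν₁'F (fun x => ⟨x, rfl⟩)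
    have hφ₂r : (((ν'.comp (Subgroup.inclusion hN'le)).comp (Subgroup.inclusion hP'N)).comp
        (φ.codRestrict φ.range (fun x => ⟨x, rfl⟩))).range = U := by
      rw [← hν₁'r]
      ext y
      constructor
      · rintro ⟨x, rfl⟩
        exact ⟨_, rfl⟩
      · rintro ⟨⟨_, x, rfl⟩, rfl⟩
        exact ⟨x, rfl⟩
    obtain ⟨β, hβ, eβ⟩ := exists_aut_of_two_isos F hUfn.1 _ _ hν₁F hφ₂F hν₁r hφ₂r
    have hXβ := frat_key p hS F hF E hE hT hSI U hUT hUne hUfn (fun R hRT hlt ψ hψ =>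
      ih' R hRT (by rw [← hcardU]; exact hlt) ψ hψ) β hβ
    have hν₁U : ∀ x : P,
        ((ν.comp (Subgroup.inclusion hNle)).comp (Subgroup.inclusion hPN)) x ∈ U :=
      fun x => (le_of_eq hν₁r) ⟨x, rfl⟩
    have hX3 := FratX.comp hTS hSI hX2 hXβ hUT hν₁U
    obtain ⟨ι, hι, eι⟩ := F.inv_mem hν₁'F
    have hX4 : FratX F E ((ν'.comp (Subgroup.inclusion hN'le)).comp
        (Subgroup.inclusion hP'N)).range ι :=
      FratX.inv hTS hSI hX2' hP'T rfl ι (fun y hy => eι y)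
    have hval : ∀ x : P, ((U.subtype.comp β.toMonoidHom).comp
        (((ν.comp (Subgroup.inclusion hNle)).comp (Subgroup.inclusion hPN)).codRestrict U
          hν₁U)) x ∈ ((ν'.comp (Subgroup.inclusion hN'le)).comp
            (Subgroup.inclusion hP'N)).range := by
      intro x
      rw [hν₁'r]
      exact (β _).2
    have hX5 := FratX.comp hTS hSI hX3 hX4 ((le_of_eq hν₁'r).trans hUT) hval
    have e3 : ι.comp (((U.subtype.comp β.toMonoidHom).comp
        (((ν.comp (Subgroup.inclusion hNle)).comp (Subgroup.inclusion hPN)).codRestrict U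
          hν₁U)).codRestrict _ hval) = φ := by
      ext x
      have h1 := eβ x (hν₁U x)
      have hxr : φ x ∈ φ.range := ⟨x, rfl⟩
      have hmem : ((ν'.comp (Subgroup.inclusion hN'le)).comp (Subgroup.inclusion hP'N))
          ⟨φ x, hxr⟩ ∈ ((ν'.comp (Subgroup.inclusion hN'le)).comp
            (Subgroup.inclusion hP'N)).range := ⟨_, rfl⟩
      have h2 : (⟨((U.subtype.comp β.toMonoidHom).comp
          (((ν.comp (Subgroup.inclusion hNle)).comp (Subgroup.inclusion hPN)).codRestrict U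
            hν₁U)) x, hval x⟩ : ↥((ν'.comp (Subgroup.inclusion hN'le)).comp
              (Subgroup.inclusion hP'N)).range) =
          ⟨((ν'.comp (Subgroup.inclusion hN'le)).comp (Subgroup.inclusion hP'N)) ⟨φ x, hxr⟩,
            hmem⟩ := Subtype.ext h1
      show ι ⟨((U.subtype.comp β.toMonoidHom).comp
          (((ν.comp (Subgroup.inclusion hNle)).comp (Subgroup.inclusion hPN)).codRestrict U
            hν₁U)) x, hval x⟩ = φ x
      rw [h2]
      exact eι ⟨φ x, hxr⟩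
    rw [← e3]
    exact hX5

/-- an invariant subsystem satisfies the strong invariance condition -/
theorem strongInv_of_invariant {F : FusionSystem S} {T : Subgroup Ω} {E : FusionSystem T}
    (h : E.IsInvariantIn F) : StrongInv F E := by
  obtain ⟨hE, hT, hInv, hFrat⟩ := h
  intro P Q hPQ hQT φ hφ hφQ ψ hψ
  obtain ⟨α, hα, ψ₀, hψ₀, eψ⟩ := hFrat Q hQT ψ hψ
  have hψ₀T : ∀ q : Q, ψ₀ q ∈ T := (E.le_of_mem hψ₀).2
  have hψ₀P := restrict_mem E hψ₀ hPQ
  obtain ⟨ι, hι, eι⟩ := E.inv_mem hψ₀P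
  have hιP : ∀ y, ι y ∈ P := by
    rintro ⟨_, x, rfl⟩
    rw [eι]
    exact x.2
  have h1 := E.comp_mem hι hφ hιP
  have h2 := E.comp_mem h1 hψ₀ (fun y => hφQ _)
  have hP₁T : (ψ₀.comp (Subgroup.inclusion hPQ)).range ≤ T := by
    rintro _ ⟨x, rfl⟩
    exact hψ₀T _
  obtain ⟨χ, hχ, eχ⟩ := hInv _ hP₁T _ h2 α hα
  have hdom : (((ψ₀.comp (Subgroup.inclusion hPQ)).range).subgroupOf T).map
      (T.subtype.comp α.toMonoidHom) = (P.subgroupOf Q).map ψ := by
    ext y
    constructor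
    · rintro ⟨⟨z, hz⟩, hzP, rfl⟩
      rw [SetLike.mem_coe, Subgroup.mem_subgroupOf] at hzP
      obtain ⟨x, hx⟩ := hzP
      refine ⟨Subgroup.inclusion hPQ x, by
        rw [SetLike.mem_coe, Subgroup.mem_subgroupOf]
        exact x.2, ?_⟩
      rw [eψ _ (hψ₀T _)]
      have h3 : (⟨ψ₀ (Subgroup.inclusion hPQ x), hψ₀T _⟩ : T) = ⟨z, hz⟩ := Subtype.ext hx
      rw [h3]
      rfl
    · rintro ⟨⟨q, hq⟩, hqP, rfl⟩
      rw [SetLike.mem_coe, Subgroup.mem_subgroupOf] at hqP
      refine ⟨⟨ψ₀ ⟨q, hq⟩, hψ₀T _⟩, by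
        rw [SetLike.mem_coe, Subgroup.mem_subgroupOf]
        exact ⟨⟨q, hqP⟩, rfl⟩, (eψ _ _).symm⟩
  obtain ⟨χ', hχ', eχ'⟩ := hom_of_eq E hdom hχ
  refine ⟨χ', hχ', fun x hx => ?_⟩
  have hA : ψ (Subgroup.inclusion hPQ x) ∈
      (((ψ₀.comp (Subgroup.inclusion hPQ)).range).subgroupOf T).map
        (T.subtype.comp α.toMonoidHom) := by
    rw [hdom]
    exact hx
  rw [eχ' _ hA hx]
  have hy : ψ₀ (Subgroup.inclusion hPQ x) ∈ (ψ₀.comp (Subgroup.inclusion hPQ)).range :=
    ⟨x, rfl⟩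
  have e1 : ψ (Subgroup.inclusion hPQ x) =
      ((α ⟨ψ₀ (Subgroup.inclusion hPQ x), hψ₀T _⟩ : T) : Ω) := eψ _ _
  have e0 : (⟨ι ⟨ψ₀ (Subgroup.inclusion hPQ x), hy⟩, hιP _⟩ : P) = x := Subtype.ext (eι x)
  have e2 : (ψ₀.comp ((φ.comp (ι.codRestrict P hιP)).codRestrict Q (fun y => hφQ _)))
      ⟨ψ₀ (Subgroup.inclusion hPQ x), hy⟩ = ψ₀ ⟨φ x, hφQ x⟩ := by
    show ψ₀ ⟨φ ⟨ι ⟨ψ₀ (Subgroup.inclusion hPQ x), hy⟩, hιP _⟩, hφQ _⟩ = ψ₀ ⟨φ x, hφQ x⟩
    have e3 : (⟨φ ⟨ι ⟨ψ₀ (Subgroup.inclusion hPQ x), hy⟩, hιP _⟩, hφQ _⟩ : Q) =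
        ⟨φ x, hφQ x⟩ := Subtype.ext (congrArg φ e0)
    rw [e3]
  have hφy : (ψ₀.comp ((φ.comp (ι.codRestrict P hιP)).codRestrict Q (fun y => hφQ _)))
      ⟨ψ₀ (Subgroup.inclusion hPQ x), hy⟩ ∈ T := by
    rw [e2]
    exact hψ₀T _
  have hαy : ((α ⟨ψ₀ (Subgroup.inclusion hPQ x), hP₁T hy⟩ : T) : Ω) ∈
      (((ψ₀.comp (Subgroup.inclusion hPQ)).range).subgroupOf T).map
        (T.subtype.comp α.toMonoidHom) := by
    rw [← e1]
    exact hA
  have h4 := eχ ⟨ψ₀ (Subgroup.inclusion hPQ x), hy⟩ hφy hαy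
  have e4 : (⟨ψ (Subgroup.inclusion hPQ x), hA⟩ :
      ↥((((ψ₀.comp (Subgroup.inclusion hPQ)).range).subgroupOf T).map
        (T.subtype.comp α.toMonoidHom))) =
      ⟨((α ⟨ψ₀ (Subgroup.inclusion hPQ x), hP₁T hy⟩ : T) : Ω), hαy⟩ := Subtype.ext e1
  have e5 : (⟨(ψ₀.comp ((φ.comp (ι.codRestrict P hιP)).codRestrict Q (fun y => hφQ _)))
      ⟨ψ₀ (Subgroup.inclusion hPQ x), hy⟩, hφy⟩ : T) = ⟨ψ₀ ⟨φ x, hφQ x⟩, hψ₀T _⟩ :=
    Subtype.ext e2
  rw [e4, h4, e5]
  exact (eψ _ _).symm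

/-- strong invariance implies invariance, for a subsystem over a strongly closed subgroup of a
saturated system -/
theorem invariant_of_strongInv [Finite S] (p : ℕ) [Fact p.Prime] (hS : IsPGroup p S)
    (F : FusionSystem S) (hF : F.IsSaturated p) {T : Subgroup Ω} (E : FusionSystem T)
    (hE : E.IsSubsystemOf F) (hT : F.StronglyClosed T) (hSI : StrongInv F E) :
    E.IsInvariantIn F := by
  have hTS := hT.1
  refine ⟨hE, hT, ?_, ?_⟩
  · intro P hPT φ hφ α hα
    have hαF := (mem_autGroup_iff F hTS).mp hα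
    obtain ⟨χ, hχ, eχ⟩ := hSI P T hPT le_rfl φ hφ (E.le_of_mem hφ).2 _ hαF
    exact ⟨χ, hχ, fun x hφx hαx => eχ x hαx⟩
  · intro P hPT φ hφ
    exact frat_of_strongInv p hS F hF E hE hT hSI _ P hPT rfl φ hφ

end Cfsg.Agent.Helper26
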