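import Mathlib
import Cfsg.Agent.Helper26.StrongInv2
import Cfsg.Agent.Helper26.Model
import Cfsg.Agent.Helper26.HypFocalGroup
import Cfsg.Agent.Helper26.GroupFusion

set_option autoImplicit false

namespace Cfsg.Agent.Helper26

open Cfsg Cfsg.FusionSystem

variable {G : Type*} [Group G]

/-- in a finite subgroup, an element conjugating it into itself normalizes it -/
theorem mem_normalizer_of_map_conj_le {X : Subgroup G} [Finite X] {g : G}
    (h : ∀ x ∈ X, g * x * g⁻¹ ∈ X) : g ∈ Subgroup.normalizer (X : Set G) := by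
  have h1 : X.map (MulAut.conj g).toMonoidHom ≤ X := map_conj_le_iff.mpr h
  have h2 : X.map (MulAut.conj g).toMonoidHom = X :=
    Subgroup.eq_of_le_of_card_ge h1 (by rw [card_map_conj])
  refine mem_normalizer_of_conj_mem h (fun x hx => ?_)
  rw [← h2] at hx
  exact mem_map_conj.mp hx

theorem subgroupSystem_realized (H T : Subgroup G) (hTH : T ≤ H) :
    (fusionSystemOfSubgroup H T hTH).IsRealizedBy (Subgroup.inclusion hTH) := by
  refine ⟨Subgroup.inclusion_injective hTH, ?_⟩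
  intro P hP φ hφ
  constructor
  · rintro ⟨-, -, g, hg, e⟩
    refine ⟨⟨g, hg⟩, fun x => ?_⟩
    apply Subtype.ext
    exact e x
  · rintro ⟨g, e⟩
    refine ⟨hP, hφ, g, g.2, fun x => ?_⟩
    exact congrArg Subtype.val (e x)

/-- the fusion system of a normal subgroup `H` on `S ∩ H` is saturated -/
theorem subgroupSystem_saturated [Finite G] (p : ℕ) [Fact p.Prime] (S : Sylow p G)
    (H : Subgroup G) [H.Normal] :
    (fusionSystemOfSubgroup H ((S : Subgroup G) ⊓ H) inf_le_right).IsSaturated p := by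
  obtain ⟨P₀, hP₀⟩ := exists_sylow_subgroupOf_normal p S H
  apply realized_saturated p (Subgroup.inclusion (inf_le_right : (S : Subgroup G) ⊓ H ≤ H))
    (subgroupSystem_realized H _ inf_le_right) P₀
  rw [hP₀]
  ext ⟨x, hx⟩
  constructor
  · intro h
    rw [Subgroup.mem_subgroupOf] at h
    exact ⟨⟨x, h, hx⟩, rfl⟩
  · rintro ⟨⟨y, hy⟩, hxy⟩
    rw [Subgroup.mem_subgroupOf]
    have h1 : y = x := congrArg Subtype.val hxy
    subst h1
    exact hy.1

/-- the group-theoretic core of the extension condition -/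
theorem subgroupSystem_extension [Finite G] (p : ℕ) [Fact p.Prime] (S : Sylow p G)
    (H : Subgroup G) [hH : H.Normal] (T : Subgroup G) (hTS : T ≤ S) (hTH : T ≤ H)
    (hT : ∀ x ∈ (S : Subgroup G), x ∈ H → x ∈ T) (h : G) (hh : h ∈ H)
    (hhT : h ∈ Subgroup.normalizer (T : Set G)) :
    ∃ h' ∈ H, h' ∈ Subgroup.normalizer
        ((T ⊔ centralizerIn (S : Subgroup G) T : Subgroup G) : Set G) ∧
      ∀ t ∈ T, h' * t * h'⁻¹ = h * t * h⁻¹ := by
  have hSN : (S : Subgroup G) ≤ Subgroup.normalizer (T : Set G) := by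
    intro s hs
    have key : ∀ s ∈ (S : Subgroup G), ∀ t ∈ T, s * t * s⁻¹ ∈ T := by
      intro s hs t ht
      exact hT _ (mul_mem (mul_mem hs (hTS ht)) (inv_mem hs)) (hH.conj_mem t (hTH ht) s)
    refine mem_normalizer_of_conj_mem (key s hs) (fun t ht => ?_)
    have h1 := key s⁻¹ (inv_mem hs) t ht
    rwa [inv_inv] at h1
  have hCN : Subgroup.centralizer (T : Set G) ≤ Subgroup.normalizer (T : Set G) :=
    Subgroup.centralizer_le_normalizer _
  have hM₃N : T ⊔ Subgroup.centralizer (T : Set G) ≤ Subgroup.normalizer (T : Set G) :=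
    sup_le Subgroup.le_normalizer hCN
  have hmap : ∀ a ∈ Subgroup.normalizer (T : Set G),
      (T ⊔ Subgroup.centralizer (T : Set G)).map (MulAut.conj a).toMonoidHom =
        T ⊔ Subgroup.centralizer (T : Set G) := by
    intro a ha
    rw [Subgroup.map_sup, map_conj_eq_self_of_mem_normalizer ha,
      map_conj_eq_self_of_mem_normalizer (normalizer_le_normalizer_centralizer T ha)]
  have hSyN : CardSyl p (S : Subgroup G) (Subgroup.normalizer (T : Set G)) :=
    (cardSyl_sylow p S).of_le hSN le_top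
  have hSyM₃ : CardSyl p ((S : Subgroup G) ⊓ (T ⊔ Subgroup.centralizer (T : Set G)))
      (T ⊔ Subgroup.centralizer (T : Set G)) :=
    hSyN.inf_normal hM₃N (fun a ha x hx => by
      rw [← hmap a ha]
      exact conj_mem_map_conj a hx)
  have hX : (S : Subgroup G) ⊓ (T ⊔ Subgroup.centralizer (T : Set G)) =
      T ⊔ centralizerIn (S : Subgroup G) T := by
    apply le_antisymm
    · rintro g ⟨hgS, hgM⟩
      have hcoe := Subgroup.coe_mul_of_left_le_normalizer_right T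
        (Subgroup.centralizer (T : Set G))
        (Subgroup.le_normalizer.trans (normalizer_le_normalizer_centralizer T))
      have hgM' : g ∈ ((T ⊔ Subgroup.centralizer (T : Set G) : Subgroup G) : Set G) := hgM
      rw [hcoe] at hgM'
      obtain ⟨t, ht, c, hc, rfl⟩ := hgM'
      have hcS : c ∈ (S : Subgroup G) := by
        have h1 : c = t⁻¹ * (t * c) := by group
        rw [h1]
        exact mul_mem (inv_mem (hTS ht)) hgS
      exact mul_mem (Subgroup.mem_sup_left ht) (Subgroup.mem_sup_right ⟨hcS, hc⟩)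
    · exact sup_le (le_inf hTS le_sup_left)
        (le_inf inf_le_left (inf_le_right.trans le_sup_right))
  have hSyX : CardSyl p (T ⊔ centralizerIn (S : Subgroup G) T)
      (T ⊔ Subgroup.centralizer (T : Set G)) := by
    rw [← hX]
    exact hSyM₃
  have hSyX' : CardSyl p ((T ⊔ centralizerIn (S : Subgroup G) T).map
      (MulAut.conj h).toMonoidHom) (T ⊔ Subgroup.centralizer (T : Set G)) := by
    have h1 := hSyX.map_conj h
    rwa [hmap h hhT] at h1
  have hM₂M₃ : (Subgroup.centralizer (T : Set G) ⊓ H) ⊔ (T ⊔ centralizerIn (S : Subgroup G) T) ≤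
      T ⊔ Subgroup.centralizer (T : Set G) :=
    sup_le (inf_le_left.trans le_sup_right) hSyX.1
  have hXh : (T ⊔ centralizerIn (S : Subgroup G) T).map (MulAut.conj h).toMonoidHom ≤
      (Subgroup.centralizer (T : Set G) ⊓ H) ⊔ (T ⊔ centralizerIn (S : Subgroup G) T) := by
    rw [Subgroup.map_sup]
    apply sup_le
    · rw [map_conj_eq_self_of_mem_normalizer hhT]
      exact le_sup_left.trans le_sup_right
    · rw [map_conj_le_iff]
      intro c hc
      have h1 : h * c * h⁻¹ = (h * c * h⁻¹ * c⁻¹) * c := by group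
      rw [h1]
      refine mul_mem (Subgroup.mem_sup_left ⟨?_, ?_⟩)
        (Subgroup.mem_sup_right (Subgroup.mem_sup_right hc))
      · exact mul_mem (conj_mem_centralizer_of_mem_normalizer hhT hc.2) (Subgroup.inv_mem _ hc.2)
      · have h2 : h * c * h⁻¹ * c⁻¹ = h * (c * h⁻¹ * c⁻¹) := by group
        rw [h2]
        exact mul_mem hh (hH.conj_mem h⁻¹ (inv_mem hh) c)
  have hSy1 := hSyX'.of_le hXh hM₂M₃
  have hXp : IsPGroup p ↥(T ⊔ centralizerIn (S : Subgroup G) T) := hSyX.isPGroup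
  obtain ⟨m, hm, hmX⟩ := exists_conj_le_of_cardSyl p hSy1 hXp le_sup_right
  have hXS : T ⊔ centralizerIn (S : Subgroup G) T ≤ S := sup_le hTS inf_le_left
  have hnormCH : ∀ n ∈ Subgroup.normalizer (T : Set G),
      n ∈ Subgroup.normalizer ((Subgroup.centralizer (T : Set G) ⊓ H : Subgroup G) : Set G) := by
    have key : ∀ n ∈ Subgroup.normalizer (T : Set G),
        ∀ x ∈ Subgroup.centralizer (T : Set G) ⊓ H,
          n * x * n⁻¹ ∈ Subgroup.centralizer (T : Set G) ⊓ H :=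
      fun n hn x hx => ⟨conj_mem_centralizer_of_mem_normalizer hn hx.1, hH.conj_mem x hx.2 n⟩
    intro n hn
    refine mem_normalizer_of_conj_mem (key n hn) (fun x hx => ?_)
    have h1 := key n⁻¹ (inv_mem hn) x hx
    rwa [inv_inv] at h1
  have hcoe2 := Subgroup.coe_mul_of_right_le_normalizer_left
    (Subgroup.centralizer (T : Set G) ⊓ H) (T ⊔ centralizerIn (S : Subgroup G) T)
    (fun x hx => hnormCH x (hSN (hXS hx)))
  have hm' : m ∈ (((Subgroup.centralizer (T : Set G) ⊓ H) ⊔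
      (T ⊔ centralizerIn (S : Subgroup G) T) : Subgroup G) : Set G) := hm
  rw [hcoe2] at hm'
  obtain ⟨x₁, hx₁, y, hy, rfl⟩ := hm'
  have hnX : h⁻¹ * x₁ ∈ Subgroup.normalizer
      ((T ⊔ centralizerIn (S : Subgroup G) T : Subgroup G) : Set G) := by
    apply mem_normalizer_of_map_conj_le
    intro x hx
    have h1 := hmX (y⁻¹ * x * y) (mul_mem (mul_mem (inv_mem hy) hx) hy)
    rw [mem_map_conj] at h1
    have h2 : h⁻¹ * (x₁ * y * (y⁻¹ * x * y) * (x₁ * y)⁻¹) * h =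
        h⁻¹ * x₁ * x * (h⁻¹ * x₁)⁻¹ := by group
    rw [h2] at h1
    exact h1
  refine ⟨x₁⁻¹ * h, mul_mem (inv_mem hx₁.2) hh, ?_, fun t ht => ?_⟩
  · have h1 := inv_mem hnX
    have h2 : (h⁻¹ * x₁)⁻¹ = x₁⁻¹ * h := by group
    rwa [h2] at h1
  · have htT : h * t * h⁻¹ ∈ T := (Subgroup.mem_normalizer_iff.mp hhT t).mp ht
    have h1 := Subgroup.mem_centralizer_iff.mp hx₁.1 _ htT
    calc x₁⁻¹ * h * t * (x₁⁻¹ * h)⁻¹ = x₁⁻¹ * (h * t * h⁻¹ * x₁) := by group
      _ = x₁⁻¹ * (x₁ * (h * t * h⁻¹)) := by rw [h1]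
      _ = h * t * h⁻¹ := by group

/-- For a normal subgroup `H` of `G`, the fusion system of `H` on `S ∩ H` is a normal subsystem
of the fusion system of `G` on `S`. -/
theorem subgroupSystem_normal [Finite G] (p : ℕ) [Fact p.Prime] (S : Sylow p G)
    (H : Subgroup G) [hH : H.Normal] :
    (fusionSystemOfSubgroup H ((S : Subgroup G) ⊓ H) inf_le_right).IsNormalIn
      (groupFusionSystem (S : Subgroup G)) p := by
  have hFsat := groupFusion_saturated p S
  have hEsat := subgroupSystem_saturated p S H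
  have hSp : IsPGroup p (S : Subgroup G) := S.isPGroup'
  have hTS : (S : Subgroup G) ⊓ H ≤ S := inf_le_left
  have hEF : (fusionSystemOfSubgroup H ((S : Subgroup G) ⊓ H) inf_le_right).IsSubsystemOf
      (groupFusionSystem (S : Subgroup G)) := by
    rintro P φ ⟨hP, hφ, g, -, e⟩
    exact ⟨hP.trans hTS, fun x => hTS (hφ x), g, e⟩
  have hTsc : (groupFusionSystem (S : Subgroup G)).StronglyClosed ((S : Subgroup G) ⊓ H) := by
    refine ⟨hTS, ?_⟩
    rintro R hR φ ⟨-, hφS, g, e⟩ x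
    refine ⟨hφS x, ?_⟩
    rw [e]
    exact hH.conj_mem _ (hR x.2).2 g
  have hSI : StrongInv (groupFusionSystem (S : Subgroup G))
      (fusionSystemOfSubgroup H ((S : Subgroup G) ⊓ H) inf_le_right) := by
    rintro P Q hPQ hQT φ ⟨hP, hφT, h, hh, eφ⟩ hφQ ψ ⟨hQS, hψS, g, eψ⟩
    have hψT : ∀ q : Q, ψ q ∈ (S : Subgroup G) ⊓ H :=
      fun q => hTsc.2 Q hQT ψ ⟨hQS, hψS, g, eψ⟩ q
    refine ⟨conjHom _ (g * h * g⁻¹), ⟨?_, ?_, g * h * g⁻¹, hH.conj_mem h hh g, fun y => rfl⟩,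
      fun x hx => ?_⟩
    · rintro _ ⟨q, -, rfl⟩
      exact hψT q
    · rintro ⟨_, ⟨q, hq⟩, hqP, rfl⟩
      rw [SetLike.mem_coe, Subgroup.mem_subgroupOf] at hqP
      have h1 : g * h * g⁻¹ * ψ ⟨q, hq⟩ * (g * h * g⁻¹)⁻¹ = ψ ⟨φ ⟨q, hqP⟩, hφQ _⟩ := by
        rw [eψ ⟨q, hq⟩, eψ ⟨φ ⟨q, hqP⟩, hφQ _⟩]
        show g * h * g⁻¹ * (g * q * g⁻¹) * (g * h * g⁻¹)⁻¹ = g * φ ⟨q, hqP⟩ * g⁻¹
        rw [eφ]
        show g * h * g⁻¹ * (g * q * g⁻¹) * (g * h * g⁻¹)⁻¹ = g * (h * q * h⁻¹) * g⁻¹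
        group
      show g * h * g⁻¹ * ψ ⟨q, hq⟩ * (g * h * g⁻¹)⁻¹ ∈ (S : Subgroup G) ⊓ H
      rw [h1]
      exact hψT _
    · show g * h * g⁻¹ * ψ (Subgroup.inclusion hPQ x) * (g * h * g⁻¹)⁻¹ = ψ ⟨φ x, hφQ x⟩
      rw [eψ (Subgroup.inclusion hPQ x), eψ ⟨φ x, hφQ x⟩]
      show g * h * g⁻¹ * (g * x * g⁻¹) * (g * h * g⁻¹)⁻¹ = g * φ x * g⁻¹
      rw [eφ]
      group
  have hinv := invariant_of_strongInv p hSp _ hFsat _ hEF hTsc hSI
  refine ⟨⟨hEsat, hFsat, hinv⟩, ?_⟩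
  intro α hα
  obtain ⟨-, -, h, hh, e⟩ := (mem_autGroup_iff
    (fusionSystemOfSubgroup H ((S : Subgroup G) ⊓ H) inf_le_right) le_rfl).mp hα
  have e' : ∀ x : ↥((S : Subgroup G) ⊓ H), ((α x : ↥((S : Subgroup G) ⊓ H)) : G) =
      h * x * h⁻¹ := e
  have hhT : h ∈ Subgroup.normalizer (((S : Subgroup G) ⊓ H : Subgroup G) : Set G) :=
    mem_normalizer_of_conj_aut e'
  obtain ⟨h', hh', hh'X, eh'⟩ := subgroupSystem_extension p S H ((S : Subgroup G) ⊓ H)
    inf_le_left inf_le_right (fun x hxS hxH => ⟨hxS, hxH⟩) h hh hhT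
  have hXS : (S : Subgroup G) ⊓ H ⊔ centralizerIn (S : Subgroup G) ((S : Subgroup G) ⊓ H) ≤ S :=
    sup_le hTS inf_le_left
  have e'' : ∀ x : ↥((S : Subgroup G) ⊓ H), ((α x : ↥((S : Subgroup G) ⊓ H)) : G) =
      h' * x * h'⁻¹ := fun x => (e' x).trans (eh' x x.2).symm
  have hh'T : h' ∈ Subgroup.normalizer (((S : Subgroup G) ⊓ H : Subgroup G) : Set G) :=
    mem_normalizer_of_conj_aut e''
  refine ⟨Subgroup.normalizerMonoidHom _ ⟨h', hh'X⟩, ?_, fun x => (e'' x).symm, ?_⟩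
  · rw [mem_autGroup_iff _ hXS]
    exact ⟨hXS, fun x => hXS (Subtype.prop _), h', fun x => rfl⟩
  · intro c hc
    have hβc : h' * (c : G) * h'⁻¹ ∈
        (S : Subgroup G) ⊓ H ⊔ centralizerIn (S : Subgroup G) ((S : Subgroup G) ⊓ H) :=
      (Subgroup.mem_normalizer_iff.mp hh'X c).mp c.2
    show (c : G)⁻¹ * (h' * (c : G) * h'⁻¹) ∈
      (S : Subgroup G) ⊓ H ⊓ Subgroup.centralizer (((S : Subgroup G) ⊓ H : Subgroup G) : Set G)
    refine ⟨⟨mul_mem (Subgroup.inv_mem _ hc.1) (hXS hβc), ?_⟩, ?_⟩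
    · have h1 : (c : G)⁻¹ * (h' * (c : G) * h'⁻¹) = ((c : G)⁻¹ * h' * (c : G)⁻¹⁻¹) * h'⁻¹ := by
        group
      rw [h1]
      exact mul_mem (hH.conj_mem h' hh' _) (Subgroup.inv_mem _ hh')
    · exact mul_mem (Subgroup.inv_mem _ hc.2) (conj_mem_centralizer_of_mem_normalizer hh'T hc.2)

end Cfsg.Agent.Helper26
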