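import Mathlib
import Cfsg.Agent.Helper2.CharExtra
import Cfsg.Agent.Helper7.Basic

/-!
Helper library (seat helper26): orbits of a group `G` on the real-valued irreducible characters
and on the real elements of a normal subgroup `K` of odd index (Brauer's permutation lemma
for the twisted map `k ↦ g⁻¹ k⁻¹ g` plus the orbit-counting lemma).
-/

set_option autoImplicit false

namespace Cfsg.Agent.Helper26

open Cfsg
open scoped ComplexConjugate

universe u

/-- The orbit-counting lemma, for a relation that describes the orbits of an action. -/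
theorem ro_burnside {α : Type*} {β : Type*} [Group α] [Fintype α] [MulAction α β] [Finite β]
    (r : β → β → Prop) (hr : ∀ a b, r a b ↔ ∃ g : α, b = g • a) :
    Nat.card (Quot r) * Fintype.card α = ∑ g : α, Nat.card (MulAction.fixedBy β g) := by
  classical
  haveI : Fintype β := Fintype.ofFinite β
  haveI : Fintype (Quotient (MulAction.orbitRel α β)) := Fintype.ofFinite _
  have e : Quot r ≃ Quotient (MulAction.orbitRel α β) := by
    refine Quot.congrRight (fun a b => ?_)
    rw [hr]
    show _ ↔ (MulAction.orbitRel α β) a b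
    rw [MulAction.orbitRel_apply, MulAction.mem_orbit_iff]
    constructor
    · rintro ⟨g, rfl⟩; exact ⟨g⁻¹, inv_smul_smul g a⟩
    · rintro ⟨g, rfl⟩; exact ⟨g⁻¹, (inv_smul_smul g b).symm⟩
  rw [Nat.card_congr e, Nat.card_eq_fintype_card,
    ← MulAction.sum_card_fixedBy_eq_card_orbits_mul_card_group α β]
  apply Finset.sum_congr rfl; intro g _
  rw [Nat.card_eq_fintype_card]

section RealOrb

variable {G : Type u} [Group G] [Finite G] (K : Subgroup G) [K.Normal]

omit [Finite G] in
theorem ro_cj_irr (g : G) (θ : IrrCharacter K) :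
    IsIrrCharacter K (fun k : K => (θ : K → ℂ) (MulAut.conjNormal g⁻¹ k)) :=
  Helper2.isIrrCharacter_comp_of_surjective (MulAut.conjNormal g⁻¹ : K ≃* K).toMonoidHom
    (MulAut.conjNormal g⁻¹ : K ≃* K).surjective θ.2

theorem ro_tw_irr (g : G) (θ : IrrCharacter K) :
    IsIrrCharacter K (fun k : K => (θ : K → ℂ) ((MulAut.conjNormal g⁻¹ k)⁻¹)) := by
  haveI : Fintype K := Fintype.ofFinite K
  have h2 := Helper2.isIrrCharacter_conj (ro_cj_irr K g θ)
  convert h2 using 1
  funext k
  exact Helper1.irr_inv θ _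

/-- The twisted map `θ ↦ (k ↦ θ (g⁻¹ k⁻¹ g))` on irreducible characters of `K`. -/
noncomputable def ro_tw (g : G) (θ : IrrCharacter K) : IrrCharacter K :=
  ⟨fun k : K => (θ : K → ℂ) ((MulAut.conjNormal g⁻¹ k)⁻¹), ro_tw_irr K g θ⟩

/-- Real-valued irreducible characters of `K`. -/
abbrev RealIrr : Type u := {θ : IrrCharacter K // ∀ k : K, ((θ : K → ℂ) k).im = 0}

/-- Real elements of `K`. -/
abbrev RealElt : Type u := {x : K // IsConj x x⁻¹}

/-- Conjugation by `g` on real-valued irreducible characters of `K`. -/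
noncomputable def ro_sX (g : G) (θ : RealIrr K) : RealIrr K :=
  ⟨⟨fun k : K => (θ.1 : K → ℂ) (MulAut.conjNormal g⁻¹ k), ro_cj_irr K g θ.1⟩, fun k => θ.2 _⟩

/-- Conjugation by `g` on real elements of `K`. -/
def ro_sY (g : G) (x : RealElt K) : RealElt K :=
  ⟨MulAut.conjNormal g x.1, by
    have h := (MulAut.conjNormal g : K ≃* K).toMonoidHom.map_isConj x.2
    simpa using h⟩

/-- The action of `G` on the real-valued irreducible characters of `K`. -/
@[reducible] noncomputable def ro_actX : MulAction G (RealIrr K) where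
  smul g θ := ro_sX K g θ
  one_smul θ := by
    apply Subtype.ext; apply Subtype.ext; funext k
    show (θ.1 : K → ℂ) (MulAut.conjNormal (1 : G)⁻¹ k) = (θ.1 : K → ℂ) k
    simp
  mul_smul g h θ := by
    apply Subtype.ext; apply Subtype.ext; funext k
    show (θ.1 : K → ℂ) (MulAut.conjNormal (g * h)⁻¹ k) =
      (θ.1 : K → ℂ) (MulAut.conjNormal h⁻¹ (MulAut.conjNormal g⁻¹ k))
    rw [mul_inv_rev, map_mul]; rfl

/-- The action of `G` on the real elements of `K`. -/
@[reducible] def ro_actY : MulAction G (RealElt K) where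
  smul g x := ro_sY K g x
  one_smul x := by
    apply Subtype.ext
    show MulAut.conjNormal (1 : G) x.1 = x.1
    simp
  mul_smul g h x := by
    apply Subtype.ext
    show MulAut.conjNormal (g * h) x.1 = MulAut.conjNormal g (MulAut.conjNormal h x.1)
    rw [map_mul]; rfl

open Classical in
/-- Brauer's counting argument for the twisted map, at the level of elements. -/
theorem ro_tw_count [Fintype K] (g : G) :
    Nat.card {θ : IrrCharacter K // ro_tw K g θ = θ} * Nat.card K =
      ∑ k : K, ∑ u : K, (if u⁻¹ * k * u = (MulAut.conjNormal g⁻¹ k)⁻¹ then 1 else 0 : ℕ) := by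
  have hK : (Nat.card K : ℂ) ≠ 0 := by exact_mod_cast Nat.card_pos.ne'
  have h1 : ∀ χ : IrrCharacter K,
      ∑ k : K, (χ : K → ℂ) ((MulAut.conjNormal g⁻¹ k)⁻¹) * (χ : K → ℂ) k⁻¹ =
        if ro_tw K g χ = χ then (Nat.card K : ℂ) else 0 := by
    intro χ
    have h := Helper2.classInner_irr_irr (ro_tw K g χ) χ
    unfold classInner at h
    have h3 : ∑ k : K, (χ : K → ℂ) ((MulAut.conjNormal g⁻¹ k)⁻¹) * (χ : K → ℂ) k⁻¹ =
        (Nat.card K : ℂ) * (if ro_tw K g χ = χ then 1 else 0) := by
      rw [← h, ← mul_assoc, mul_inv_cancel₀ hK, one_mul]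
      apply Finset.sum_congr rfl; intro k _
      rw [Helper1.irr_inv χ k]; rfl
    rw [h3]; split_ifs <;> simp
  have h2 : ∀ k : K,
      ∑ χ : IrrCharacter K, (χ : K → ℂ) ((MulAut.conjNormal g⁻¹ k)⁻¹) * (χ : K → ℂ) k⁻¹ =
        ((∑ u : K, (if u⁻¹ * k * u = (MulAut.conjNormal g⁻¹ k)⁻¹ then 1 else 0 : ℕ) : ℕ) : ℂ) := by
    intro k
    rw [Helper25.second_orthogonality]
    by_cases hc : IsConj ((MulAut.conjNormal g⁻¹ k)⁻¹) k
    · rw [if_pos hc]
      have hf := Helper7.card_conj_fiber k ((MulAut.conjNormal g⁻¹ k)⁻¹) hc.symm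
      rw [← hf, Nat.card_eq_fintype_card, Fintype.card_subtype, Finset.card_filter]
    · rw [if_neg hc]
      have : ∑ u : K, (if u⁻¹ * k * u = (MulAut.conjNormal g⁻¹ k)⁻¹ then 1 else 0 : ℕ) = 0 := by
        apply Finset.sum_eq_zero; intro u _
        rw [if_neg]
        intro hu
        exact hc (isConj_iff.mpr ⟨u⁻¹, by rw [inv_inv]; exact hu⟩).symm
      rw [this, Nat.cast_zero]
  have h4 : ((Nat.card {θ : IrrCharacter K // ro_tw K g θ = θ} * Nat.card K : ℕ) : ℂ) =
      ((∑ k : K, ∑ u : K, (if u⁻¹ * k * u = (MulAut.conjNormal g⁻¹ k)⁻¹ then 1 else 0 : ℕ) : ℕ) : ℂ) := by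
    rw [Nat.cast_mul, Nat.cast_sum]
    rw [← Finset.sum_congr rfl (fun k _ => h2 k), Finset.sum_comm,
      Finset.sum_congr rfl (fun χ _ => h1 χ)]
    exact (Helper2.sum_ite_const_eq_card _ _ _).symm
  exact_mod_cast h4

/-- The real `g`-invariant irreducible characters of `K` are the fixed points of the twisted
map, when `K` has odd index. -/
theorem ro_fixX (hodd : Odd K.index) (g : G) :
    Nat.card {θ : RealIrr K // ro_sX K g θ = θ} =
      Nat.card {θ : IrrCharacter K // ro_tw K g θ = θ} := by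
  haveI : Fintype K := Fintype.ofFinite K
  have hreal : ∀ z : ℂ, z.im = 0 → conj z = z := fun z hz => Complex.conj_eq_iff_im.mpr hz
  have key : ∀ θ : IrrCharacter K, ro_tw K g θ = θ →
      (∀ k : K, ((θ : K → ℂ) k).im = 0) ∧
        ∀ k : K, (θ : K → ℂ) (MulAut.conjNormal g⁻¹ k) = (θ : K → ℂ) k := by
    intro θ hθ
    set c : K → K := fun k => MulAut.conjNormal g⁻¹ k with hc
    have hstep : ∀ k : K, (θ : K → ℂ) k = (θ : K → ℂ) ((c k)⁻¹) := by
      intro k
      exact (congrFun (congrArg Subtype.val hθ) k).symm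
    have hcinv : ∀ k : K, c k⁻¹ = (c k)⁻¹ := fun k => map_inv (MulAut.conjNormal g⁻¹ : K ≃* K) k
    have h2 : ∀ k : K, (θ : K → ℂ) k = (θ : K → ℂ) (c (c k)) := by
      intro k
      rw [hstep k, hstep ((c k)⁻¹), hcinv, inv_inv]
    have hj : ∀ (j : ℕ) (k : K), (θ : K → ℂ) k = (θ : K → ℂ) (c^[2 * j] k) := by
      intro j
      induction j with
      | zero => intro k; rfl
      | succ j ih =>
        intro k
        have e : 2 * (j + 1) = 2 * j + 1 + 1 := by ring
        rw [e, Function.iterate_succ_apply, Function.iterate_succ_apply, ← ih, ← h2]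
    have hcoe : ∀ (n : ℕ) (k : K), ((c^[n] k : K) : G) = (g ^ n)⁻¹ * k * g ^ n := by
      intro n
      induction n with
      | zero => intro k; simp
      | succ n ih =>
        intro k
        rw [Function.iterate_succ_apply', hc]
        show ((MulAut.conjNormal g⁻¹ (c^[n] k) : K) : G) = _
        rw [MulAut.conjNormal_apply, ih, pow_succ]
        group
    obtain ⟨j, hj2⟩ := hodd
    have hmem : g ^ K.index ∈ K := Subgroup.pow_index_mem K g
    have hcl := Helper1.isClassFunction_irr θ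
    have hm : ∀ k : K, (θ : K → ℂ) (c^[2 * j + 1] k) = (θ : K → ℂ) k := by
      intro k
      have e : c^[2 * j + 1] k = (⟨g ^ K.index, hmem⟩ : K)⁻¹ * k * (⟨g ^ K.index, hmem⟩ : K)⁻¹⁻¹ := by
        apply Subtype.ext
        rw [hcoe, ← hj2]
        simp
      rw [e, hcl]
    have hre : ∀ k : K, ((θ : K → ℂ) k).im = 0 := by
      intro k
      apply Complex.conj_eq_iff_im.mp
      have e1 : (θ : K → ℂ) k = conj ((θ : K → ℂ) k) := by
        calc (θ : K → ℂ) k = (θ : K → ℂ) ((c k)⁻¹) := hstep k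
          _ = conj ((θ : K → ℂ) (c k)) := Helper1.irr_inv θ _
          _ = conj ((θ : K → ℂ) (c^[2 * j] (c k))) := by rw [← hj j (c k)]
          _ = conj ((θ : K → ℂ) (c^[2 * j + 1] k)) := by rw [Function.iterate_succ_apply]
          _ = conj ((θ : K → ℂ) k) := by rw [hm]
      exact e1.symm
    refine ⟨hre, fun k => ?_⟩
    have e1 := hstep k
    rw [Helper1.irr_inv, hreal _ (hre _)] at e1
    exact e1.symm
  apply Nat.card_eq_of_bijective
    (fun θ : {θ : RealIrr K // ro_sX K g θ = θ} =>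
      (⟨θ.1.1, by
        apply Subtype.ext; funext k
        show (θ.1.1 : K → ℂ) ((MulAut.conjNormal g⁻¹ k)⁻¹) = (θ.1.1 : K → ℂ) k
        rw [Helper1.irr_inv, hreal _ (θ.1.2 _)]
        exact congrFun (congrArg Subtype.val (congrArg Subtype.val θ.2)) k⟩ :
        {θ : IrrCharacter K // ro_tw K g θ = θ}))
  constructor
  · intro a b hab
    apply Subtype.ext; apply Subtype.ext
    have h3 := congrArg (fun z : {θ : IrrCharacter K // ro_tw K g θ = θ} => z.1) hab
    exact h3
  · intro θ
    obtain ⟨hre, hfix⟩ := key θ.1 θ.2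
    refine ⟨⟨⟨θ.1, hre⟩, ?_⟩, ?_⟩
    · apply Subtype.ext; apply Subtype.ext; funext k
      exact hfix k
    · apply Subtype.ext; rfl

open Classical in
/-- The number of elements of `G` inverting `k ∈ K`, when `K` has odd index. -/
theorem ro_inv_count [Fintype G] (hodd : Odd K.index) (k : K) :
    (∑ g : G, (if g⁻¹ * (k : G)⁻¹ * g = (k : G) then 1 else 0 : ℕ)) =
      if IsConj k k⁻¹ then Nat.card (Subgroup.centralizer ({(k : G)} : Set G)) else 0 := by
  by_cases hc : IsConj k k⁻¹
  · rw [if_pos hc]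
    obtain ⟨c, hc⟩ := isConj_iff.mp hc
    have hc' : (c : G) * k * (c : G)⁻¹ = (k : G)⁻¹ := by
      have := congrArg Subtype.val hc
      simpa using this
    rw [← Equiv.sum_comp (Equiv.mulLeft (c : G))]
    rw [Nat.card_eq_fintype_card,
      Fintype.card_of_subtype (Finset.univ.filter
        (fun g : G => g ∈ Subgroup.centralizer ({(k : G)} : Set G))) (by simp),
      Finset.card_filter]
    apply Finset.sum_congr rfl; intro g _
    apply if_congr _ rfl rfl
    rw [Subgroup.mem_centralizer_iff]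
    simp only [Set.mem_singleton_iff, forall_eq, Equiv.coe_mulLeft]
    constructor
    · intro h
      have h1 : (k : G)⁻¹ = (c : G) * g * k * g⁻¹ * (c : G)⁻¹ := by
        calc (k : G)⁻¹ = (c * g) * ((c * g)⁻¹ * (k : G)⁻¹ * (c * g)) * (c * g)⁻¹ := by group
          _ = (c : G) * g * k * g⁻¹ * (c : G)⁻¹ := by rw [h]; group
      calc (k : G) * g = (c : G)⁻¹ * ((c : G) * k * (c : G)⁻¹) * c * g := by group
        _ = (c : G)⁻¹ * ((c : G) * g * k * g⁻¹ * (c : G)⁻¹) * c * g := by rw [hc', h1]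
        _ = g * k := by group
    · intro h
      calc ((c : G) * g)⁻¹ * (k : G)⁻¹ * ((c : G) * g)
          = g⁻¹ * ((c : G)⁻¹ * ((c : G) * k * (c : G)⁻¹) * c) * g := by rw [hc']; group
        _ = g⁻¹ * (k * g) := by group
        _ = g⁻¹ * (g * k) := by rw [h]
        _ = k := by group
  · rw [if_neg hc]
    apply Finset.sum_eq_zero; intro g _
    rw [if_neg]
    intro hg
    apply hc
    have h1 : g * (k : G) * g⁻¹ = (k : G)⁻¹ := by
      calc g * (k : G) * g⁻¹ = g * (g⁻¹ * (k : G)⁻¹ * g) * g⁻¹ := by rw [hg]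
        _ = (k : G)⁻¹ := by group
    have h2 : g ^ 2 * (k : G) = (k : G) * g ^ 2 := by
      calc g ^ 2 * (k : G) = g * (g * (k : G) * g⁻¹) * g := by rw [pow_two]; group
        _ = g * (k : G)⁻¹ * g := by rw [h1]
        _ = (g * (k : G) * g⁻¹)⁻¹ * g ^ 2 := by group
        _ = (k : G) * g ^ 2 := by rw [h1, inv_inv]
    have h3 : ∀ j : ℕ, g ^ (2 * j) * (k : G) = (k : G) * g ^ (2 * j) := by
      intro j
      rw [pow_mul]
      exact (Commute.pow_left (show Commute (g ^ 2) (k : G) from h2) j).eq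
    obtain ⟨j, hj⟩ := hodd
    have hmem : g ^ K.index ∈ K := Subgroup.pow_index_mem K g
    refine isConj_iff.mpr ⟨⟨g ^ K.index, hmem⟩, ?_⟩
    apply Subtype.ext
    show g ^ K.index * (k : G) * (g ^ K.index)⁻¹ = ((k⁻¹ : K) : G)
    rw [hj, pow_succ]
    calc g ^ (2 * j) * g * (k : G) * (g ^ (2 * j) * g)⁻¹
        = g ^ (2 * j) * (g * (k : G) * g⁻¹) * (g ^ (2 * j))⁻¹ := by group
      _ = (g ^ (2 * j) * (k : G) * (g ^ (2 * j))⁻¹)⁻¹ := by rw [h1]; group
      _ = ((k : G) * g ^ (2 * j) * (g ^ (2 * j))⁻¹)⁻¹ := by rw [h3 j]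
      _ = ((k⁻¹ : K) : G) := by simp

omit [Finite G] in
open Classical in
theorem ro_sum_swap [Fintype G] [Fintype K] :
    ∑ g : G, ∑ k : K, ∑ u : K,
        (if u⁻¹ * k * u = (MulAut.conjNormal g⁻¹ k)⁻¹ then 1 else 0 : ℕ) =
      Nat.card K * ∑ k : K, ∑ g : G, (if g⁻¹ * (k : G)⁻¹ * g = (k : G) then 1 else 0 : ℕ) := by
  rw [Finset.sum_comm, Finset.mul_sum]
  apply Finset.sum_congr rfl; intro k _
  rw [Finset.sum_comm]
  have h : ∀ u : K, ∑ g : G, (if u⁻¹ * k * u = (MulAut.conjNormal g⁻¹ k)⁻¹ then 1 else 0 : ℕ) =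
      ∑ g : G, (if g⁻¹ * (k : G)⁻¹ * g = (k : G) then 1 else 0 : ℕ) := by
    intro u
    rw [← Equiv.sum_comp (Equiv.mulRight ((u : G)⁻¹))
      (fun g : G => (if g⁻¹ * (k : G)⁻¹ * g = (k : G) then 1 else 0 : ℕ))]
    apply Finset.sum_congr rfl; intro g _
    apply if_congr _ rfl rfl
    rw [Subtype.ext_iff]
    simp only [Equiv.coe_mulRight]
    have e1 : ((u⁻¹ * k * u : K) : G) = (u : G)⁻¹ * k * u := by simp
    have e2 : (((MulAut.conjNormal g⁻¹ k)⁻¹ : K) : G) = g⁻¹ * (k : G)⁻¹ * g := by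
      rw [Subgroup.coe_inv, MulAut.conjNormal_apply]; group
    rw [e1, e2]
    constructor
    · intro h
      calc (g * (u : G)⁻¹)⁻¹ * (k : G)⁻¹ * (g * (u : G)⁻¹)
          = (u : G) * (g⁻¹ * (k : G)⁻¹ * g) * (u : G)⁻¹ := by group
        _ = (u : G) * ((u : G)⁻¹ * k * u) * (u : G)⁻¹ := by rw [h]
        _ = k := by group
    · intro h
      calc (u : G)⁻¹ * k * u
          = (u : G)⁻¹ * ((g * (u : G)⁻¹)⁻¹ * (k : G)⁻¹ * (g * (u : G)⁻¹)) * u := by rw [h]
        _ = g⁻¹ * (k : G)⁻¹ * g := by group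
  rw [Finset.sum_congr rfl (fun u _ => h u), Finset.sum_const, Finset.card_univ, smul_eq_mul,
    Nat.card_eq_fintype_card]

omit [Finite G] in
open Classical in
theorem ro_fixY_sum [Fintype G] [Fintype K] :
    ∑ g : G, Nat.card {x : RealElt K // ro_sY K g x = x} =
      ∑ k : K, if IsConj k k⁻¹ then Nat.card (Subgroup.centralizer ({(k : G)} : Set G)) else 0 := by
  have h1 : ∀ g : G, Nat.card {x : RealElt K // ro_sY K g x = x} =
      ∑ x : RealElt K, if ro_sY K g x = x then 1 else 0 := by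
    intro g
    rw [Nat.card_eq_fintype_card, Fintype.card_subtype, Finset.card_filter]
  rw [Finset.sum_congr rfl (fun g _ => h1 g), Finset.sum_comm]
  have h2 : ∀ x : RealElt K, (∑ g : G, if ro_sY K g x = x then 1 else 0) =
      Nat.card (Subgroup.centralizer ({(x.1 : G)} : Set G)) := by
    intro x
    rw [Nat.card_eq_fintype_card,
      Fintype.card_of_subtype (Finset.univ.filter
        (fun g : G => g ∈ Subgroup.centralizer ({(x.1 : G)} : Set G))) (by simp),
      Finset.card_filter]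
    apply Finset.sum_congr rfl; intro g _
    apply if_congr _ rfl rfl
    rw [Subgroup.mem_centralizer_iff]
    simp only [Set.mem_singleton_iff, forall_eq]
    rw [Subtype.ext_iff, Subtype.ext_iff]
    show ((MulAut.conjNormal g x.1 : K) : G) = (x.1 : G) ↔ _
    rw [MulAut.conjNormal_apply]
    constructor
    · intro h
      calc (x.1 : G) * g = (g * (x.1 : G) * g⁻¹) * g := by rw [h]
        _ = g * (x.1 : G) := by group
    · intro h
      calc g * (x.1 : G) * g⁻¹ = (x.1 : G) * g * g⁻¹ := by rw [h]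
        _ = (x.1 : G) := by group
  rw [Finset.sum_congr rfl (fun x _ => h2 x)]
  rw [← Finset.sum_subtype (Finset.univ.filter (fun k : K => IsConj k k⁻¹)) (by simp)
    (fun k : K => Nat.card (Subgroup.centralizer ({(k : G)} : Set G)))]
  rw [Finset.sum_filter]

/-- `G`-orbits on real-valued irreducible characters of a normal subgroup `K` of odd index
correspond in number to `G`-classes of real elements of `K`. -/
theorem ro_main (hodd : Odd K.index) :
    Nat.card (Quot (fun θ η : RealIrr K => ∃ g : G, ∀ k k' : K, (k' : G) = g * (k : G) * g⁻¹ →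
        (η.1 : K → ℂ) k' = (θ.1 : K → ℂ) k)) =
      Nat.card (Quot (fun x y : RealElt K => ∃ g : G, (y.1 : G) = g * x.1 * g⁻¹)) := by
  classical
  haveI : Fintype G := Fintype.ofFinite G
  haveI : Fintype K := Fintype.ofFinite K
  letI aX : MulAction G (RealIrr K) := ro_actX K
  letI aY : MulAction G (RealElt K) := ro_actY K
  have hX := ro_burnside (α := G) (β := RealIrr K)
    (fun θ η : RealIrr K => ∃ g : G, ∀ k k' : K, (k' : G) = g * (k : G) * g⁻¹ →
        (η.1 : K → ℂ) k' = (θ.1 : K → ℂ) k) (by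
      intro θ η
      constructor
      · rintro ⟨g, hg⟩
        refine ⟨g, ?_⟩
        apply Subtype.ext; apply Subtype.ext; funext k'
        show (η.1 : K → ℂ) k' = (θ.1 : K → ℂ) (MulAut.conjNormal g⁻¹ k')
        apply hg
        rw [MulAut.conjNormal_apply]; group
      · rintro ⟨g, rfl⟩
        refine ⟨g, fun k k' hk => ?_⟩
        show (θ.1 : K → ℂ) (MulAut.conjNormal g⁻¹ k') = (θ.1 : K → ℂ) k
        refine congrArg _ ?_
        apply Subtype.ext
        rw [MulAut.conjNormal_apply, hk]; group)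
  have hY := ro_burnside (α := G) (β := RealElt K)
    (fun x y : RealElt K => ∃ g : G, (y.1 : G) = g * x.1 * g⁻¹) (by
      intro x y
      constructor
      · rintro ⟨g, hg⟩
        refine ⟨g, ?_⟩
        apply Subtype.ext; apply Subtype.ext
        show (y.1 : G) = ((MulAut.conjNormal g x.1 : K) : G)
        rw [MulAut.conjNormal_apply, hg]
      · rintro ⟨g, rfl⟩
        refine ⟨g, ?_⟩
        show ((MulAut.conjNormal g x.1 : K) : G) = _
        rw [MulAut.conjNormal_apply])
  have e1 : ∑ g : G, Nat.card (MulAction.fixedBy (RealIrr K) g) =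
      ∑ g : G, Nat.card {θ : IrrCharacter K // ro_tw K g θ = θ} := by
    apply Finset.sum_congr rfl; intro g _
    exact ro_fixX K hodd g
  have e2 : ∑ g : G, Nat.card (MulAction.fixedBy (RealElt K) g) =
      ∑ g : G, Nat.card {x : RealElt K // ro_sY K g x = x} := rfl
  have e3 : (∑ g : G, Nat.card {θ : IrrCharacter K // ro_tw K g θ = θ}) * Nat.card K =
      Nat.card K * ∑ g : G, Nat.card {x : RealElt K // ro_sY K g x = x} := by
    rw [Finset.sum_mul, Finset.sum_congr rfl (fun g _ => ro_tw_count K g), ro_sum_swap,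
      ro_fixY_sum]
    congr 1
    apply Finset.sum_congr rfl; intro k _
    rw [ro_inv_count K hodd k]
    by_cases h : IsConj k k⁻¹
    · rw [if_pos h, if_pos h]
    · rw [if_neg h, if_neg h]
  rw [e1] at hX
  rw [e2] at hY
  rw [← hX, ← hY] at e3
  have hKpos : 0 < Nat.card K := Nat.card_pos
  have hGpos : 0 < Fintype.card G := Fintype.card_pos
  have e4 : Nat.card K * (Nat.card (Quot (fun θ η : RealIrr K => ∃ g : G, ∀ k k' : K,
      (k' : G) = g * (k : G) * g⁻¹ → (η.1 : K → ℂ) k' = (θ.1 : K → ℂ) k)) * Fintype.card G) =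
      Nat.card K * (Nat.card (Quot (fun x y : RealElt K => ∃ g : G, (y.1 : G) = g * x.1 * g⁻¹)) *
        Fintype.card G) := by
    rw [← e3, mul_comm]
  exact Nat.eq_of_mul_eq_mul_right hGpos (Nat.eq_of_mul_eq_mul_left hKpos e4)

end RealOrb

end Cfsg.Agent.Helper26
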