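import Mathlib

set_option autoImplicit false

namespace Cfsg.Agent.S4016P

/-- glue piece (9): with `|L| = 4`, `|N(P)| = 4 |P|` (`P` a Sylow 3-subgroup), all `3'`-subgroups
abelian and `C(t) ≤ N(P)` for some `1 ≠ t ∈ L`, the subgroup `L` is a Sylow 2-subgroup of `G`. -/
theorem h26_sylow2_le {G : Type*} [Group G] [Finite G] (P : Sylow 3 G)
    (hab : ∀ H : Subgroup G, ¬ 3 ∣ Nat.card H → IsMulCommutative H)
    (L : Subgroup G) (hL : Nat.card L = 4)
    (hN : Nat.card (Subgroup.normalizer ((P : Subgroup G) : Set G)) = 4 * Nat.card P)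
    (t : G) (htL : t ∈ L) (ht1 : t ≠ 1)
    (hCt : Subgroup.centralizer ({t} : Set G) ≤ Subgroup.normalizer ((P : Subgroup G) : Set G)) :
    ∃ Q : Sylow 2 G, (Q : Subgroup G) = L := by
  classical
  haveI : Fact (Nat.Prime 2) := ⟨Nat.prime_two⟩
  haveI : Fact (Nat.Prime 3) := ⟨Nat.prime_three⟩
  have hLp : IsPGroup 2 L := IsPGroup.of_card (n := 2) (by rw [hL]; norm_num)
  obtain ⟨Q, hLQ⟩ := hLp.exists_le_sylow
  refine ⟨Q, ?_⟩
  obtain ⟨k, hk⟩ := Q.isPGroup'.exists_card_eq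
  have hQ3 : ¬ 3 ∣ Nat.card (Q : Subgroup G) := by
    rw [hk]
    intro hd
    have := Nat.Prime.dvd_of_dvd_pow Nat.prime_three hd
    omega
  have hQc := hab Q hQ3
  have hQt : (Q : Subgroup G) ≤ Subgroup.centralizer ({t} : Set G) := by
    intro x hx
    rw [Subgroup.mem_centralizer_iff]
    intro h hh
    rw [Set.mem_singleton_iff] at hh
    subst hh
    have := hQc.is_comm.comm (⟨h, hLQ htL⟩ : (Q : Subgroup G)) ⟨x, hx⟩
    exact congrArg Subtype.val this
  have hQN : (Q : Subgroup G) ≤ Subgroup.normalizer ((P : Subgroup G) : Set G) := le_trans hQt hCt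
  have hdvd : Nat.card (Q : Subgroup G) ∣ 4 * Nat.card P := by
    rw [← hN]; exact Subgroup.card_dvd_of_le hQN
  obtain ⟨j, hj⟩ := P.isPGroup'.exists_card_eq
  have hcop : Nat.Coprime (Nat.card (Q : Subgroup G)) (Nat.card P) := by
    rw [hk, hj]
    apply Nat.Coprime.pow
    decide
  have hdvd4 : Nat.card (Q : Subgroup G) ∣ 4 := hcop.dvd_of_dvd_mul_right hdvd
  have hle4 : Nat.card (Q : Subgroup G) ≤ 4 := Nat.le_of_dvd (by norm_num) hdvd4
  exact (Subgroup.eq_of_le_of_card_ge hLQ (by rw [hL]; exact hle4)).symm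

end Cfsg.Agent.S4016P
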